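/- Martineau's theorem, part 1: simple modules of a Suzuki group on which an element of order five
acts without fixed points. -/
import Cfsg.Agent.H66.SzSylow
import Cfsg.Agent.H90.PermMod

set_option autoImplicit false

namespace H47

open Matrix H66

section Homs

variable {F k : Type*} [Field F] [Field k]

theorem hom_eq_of_mul {α β γ : F →+* k} [CharP k 2] (h : ∀ x, α x = β x * γ x) : β = γ := by
  ext x
  have h1 := h (x + 1)
  simp only [map_add, map_one] at h1
  linear_combination h x - h1 - (γ x) * (CharTwo.two_eq_zero (R := k))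

theorem hom_pair [Finite F] {α β γ δ : F →+* k} (h : ∀ x, α x * β x = γ x * δ x) :
    (α = γ ∧ β = δ) ∨ (α = δ ∧ β = γ) := by
  have hs : ∀ x, α x + β x = γ x + δ x := fun x => by
    have h1 := h (x + 1)
    simp only [map_add, map_one] at h1
    linear_combination h1 - h x
  obtain ⟨u, hu⟩ := IsCyclic.exists_generator (α := Fˣ)
  have gen : ∀ {φ ψ : F →+* k}, φ u = ψ u → φ = ψ := fun {φ ψ} e => by
    ext s
    by_cases hs : s = 0
    · simp [hs]
    obtain ⟨n, hn⟩ := (Submonoid.mem_powers_iff _ _).1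
      (mem_powers_iff_mem_zpowers.2 (hu (Units.mk0 s hs)))
    have : s = (u : F) ^ n := by simpa using (congrArg Units.val hn).symm
    rw [this, map_pow, map_pow, e]
  have : (α u - γ u) * (α u - δ u) = 0 := by linear_combination α u * hs u - h u
  rcases mul_eq_zero.1 this with e | e
  · have e1 := gen (sub_eq_zero.1 e)
    exact Or.inl ⟨e1, RingHom.ext fun x => by have := hs x; rw [e1] at this; linear_combination this⟩
  · have e1 := gen (sub_eq_zero.1 e)
    exact Or.inr ⟨e1, RingHom.ext fun x => by have := hs x; rw [e1] at this; linear_combination this⟩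

/-- a multiplicative map with `σ (x + 1) = σ x + 1` is a ring homomorphism -/
theorem exists_hom_of_succ (s : F → k) (h0 : s 0 = 0) (h1 : s 1 = 1)
    (hm : ∀ x y, s (x * y) = s x * s y) (ha : ∀ x, s (x + 1) = s x + 1) :
    ∃ σ : F →+* k, ∀ x, σ x = s x :=
  ⟨{ toFun := s, map_one' := h1, map_mul' := hm, map_zero' := h0
     map_add' := fun x y => by
      by_cases hy : y = 0
      · rw [hy, add_zero, h0, add_zero]
      · have : x + y = (x / y + 1) * y := by field_simp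
        rw [this, hm, ha, add_mul, ← hm, one_mul, div_mul_cancel₀ _ hy] }, fun _ => rfl⟩

end Homs

variable {F : Type*} [Field F] {T : Tits F} {m : ℕ}

theorem theta_ne (hT : T.IsFin m) {k : Type*} [Field k] (σ : F →+* k) : σ.comp T.θ ≠ σ := by
  intro h
  obtain ⟨t, t0, t1⟩ := hT.exists_ne
  have := σ.injective (DFunLike.congr_fun h t)
  rcases T.θ_eq_self this with e | e
  · exact t0 e
  · exact t1 e

/-- an additive map with a multiplicative equivariance is a multiple of a ring homomorphism -/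
theorem exists_hom_of_equivariant (hT : T.IsFin m) {k : Type*} [Field k] (ψ : F → k)
    (hadd : ∀ a b, ψ (a + b) = ψ a + ψ b) (κ : Fˣ → k)
    (h : ∀ (c : Fˣ) (b : F), ψ (T.θ c * (c : F) ^ 2 * b) = κ c * ψ b) (h1 : ψ 1 ≠ 0) :
    ∃ r : F →+* k, ∀ c : Fˣ, r (T.θ c * (c : F) ^ 2) = κ c := by
  have h0 : ψ 0 = 0 := by simpa using hadd 0 0
  obtain ⟨r, hr⟩ := exists_hom_of_succ (fun x => ψ x / ψ 1) (by simp [h0]) (div_self h1)
    (fun x y => by
      by_cases hx : x = 0
      · simp [hx, h0]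
      obtain ⟨c, rfl⟩ := hT.chi_surj hx
      have := h c 1
      rw [mul_one] at this
      rw [h, this]; field_simp) (fun x => by rw [hadd]; field_simp)
  refine ⟨r, fun c => ?_⟩
  have := h c 1
  rw [mul_one] at this
  rw [hr, this]; field_simp

/-- the parameter `c` of the torus with `θ c * c = x` -/
theorem exists_torus_param (T : Tits F) {x : F} (hx : x ≠ 0) :
    ∃ c : Fˣ, T.θ c * c = x ∧ T.θ c * (c : F) ^ 2 = T.θ x ∧ (c : F) * x = T.θ x := by
  have h1 := T.θ_ne_zero hx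
  refine ⟨Units.mk0 (T.θ x / x) (div_ne_zero h1 hx), ?_, ?_, ?_⟩
  · simp only [Units.val_mk0, map_div₀, T.sq]; field_simp
  · simp only [Units.val_mk0, map_div₀, T.sq]; field_simp
  · simp only [Units.val_mk0]; field_simp

variable {G : Type*} [Group G] (M : Model T G)

/-- the element of order five -/
noncomputable def g5 : G := M.u 0 1 * M.w

theorem wzw : M.w * M.u 0 1 * M.w = M.u 1 0 * M.w * M.u 1 1 := by
  have hf : T.f 0 1 = 1 := by simp [Tits.f]
  have := M.w_u_w (a := 0) (b := 1) (by rw [hf]; exact one_ne_zero)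
  simp only [hf, map_one, div_one, map_zero, mul_zero, add_zero, zero_add, mul_one] at this
  rw [this]
  have : Units.mk0 (1 : F) one_ne_zero = 1 := Units.ext rfl
  simp only [this, map_one, mul_one]

theorem g5_sq : g5 M ^ 2 = M.u 1 1 * M.w * M.u 1 1 := by
  have : g5 M ^ 2 = M.u 0 1 * (M.w * M.u 0 1 * M.w) := by rw [g5, pow_two]; group
  rw [this, wzw, ← mul_assoc, ← mul_assoc, M.u_mul]; simp

theorem u11_eq : M.u 1 1 = M.u 0 1 * M.u 1 0 := by rw [M.u_mul]; simp

theorem u11_mul_z : M.u 1 1 * M.u 0 1 = M.u 1 0 := by rw [M.u_mul]; simp [T.add_self]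

theorem u11_mul_u10 : M.u 1 1 * M.u 1 0 = 1 := by rw [M.u_mul]; simp [T.add_self]

theorem u10_mul_u10 : M.u 1 0 * M.u 1 0 = M.u 0 1 := by rw [M.u_mul]; simp [T.add_self]

theorem g5_cube : g5 M ^ 3 = M.u 1 0 * M.w * M.u 1 0 := by
  have i1 : (M.u 1 0)⁻¹ = M.u 1 1 := inv_eq_of_mul_eq_one_left (u11_mul_u10 M)
  have h4 : M.w * M.u 1 1 * M.w = M.u 1 1 * M.w * M.u 0 1 := by
    calc _ = (M.u 1 0)⁻¹ * (M.u 1 0 * M.w * M.u 1 1) * M.w := by group
      _ = _ := by rw [← wzw, i1, mul_assoc, M.mul_w_w, mul_assoc]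
  have h5 : M.w * M.u 1 0 * M.w = M.u 0 1 * M.w * M.u 1 0 := by
    have := congrArg (·⁻¹) h4
    simp only [_root_.mul_inv_rev, M.w_inv, M.z_inv, ← i1, inv_inv] at this
    simpa only [mul_assoc] using this
  calc g5 M ^ 3 = M.u 0 1 * (M.w * M.u 0 1 * M.w) * M.u 0 1 * M.w := by
        simp only [g5, pow_succ, pow_zero, one_mul, mul_assoc]
    _ = (M.u 0 1 * M.u 1 0) * (M.w * (M.u 1 1 * M.u 0 1) * M.w) := by
        rw [wzw]; simp only [mul_assoc]
    _ = _ := by rw [← u11_eq, u11_mul_z, h5, ← mul_assoc, ← mul_assoc, u11_mul_z]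

theorem g5_pow_five : g5 M ^ 5 = 1 := by
  rw [show 5 = 2 + 3 from rfl, pow_add, g5_sq, g5_cube]
  calc _ = M.u 1 1 * (M.w * (M.u 1 1 * M.u 1 0) * M.w) * M.u 1 0 := by simp only [mul_assoc]
    _ = 1 := by rw [u11_mul_u10, mul_one, M.w_mul_w, mul_one, u11_mul_u10]

theorem g5_pow_four : g5 M ^ 4 = M.w * M.u 0 1 := by
  have : g5 M ^ 4 = (g5 M)⁻¹ := eq_inv_of_mul_eq_one_left (by rw [← pow_succ, g5_pow_five])
  rw [this, g5, _root_.mul_inv_rev, M.w_inv, M.z_inv]

theorem g5_ne_one : g5 M ≠ 1 := fun h => by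
  have := congrArg (fun x => M.ρ x 3 0) h
  simp [g5, M.ρ_u, M.ρ_w, Tits.uM, Tits.wM, Matrix.mul_apply, Fin.sum_univ_four] at this

theorem u_mul_g5 : M.u 1 0 * g5 M = g5 M ^ 2 * M.u 1 0 := by
  rw [g5_sq, mul_assoc, u11_mul_u10, mul_one, g5, ← mul_assoc, ← M.z_comm, ← u11_eq]

/-- `Z`, `H` and `w` generate the group. -/
theorem eq_top_of_ZHw (hT : T.IsFin m) {K : Subgroup G} (hZ : ∀ b, M.u 0 b ∈ K)
    (hH : ∀ c, M.h c ∈ K) (hw : M.w ∈ K) : K = ⊤ := by
  have tr : ∀ p : M.Pt, ∃ x ∈ K, x • M.inf = p := fun p => by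
    rcases M.pt_cases p with rfl | ⟨x, y, rfl⟩
    · exact ⟨1, K.one_mem, one_smul _ _⟩
    by_cases hx : x = 0
    · refine ⟨M.u 0 y * M.w, K.mul_mem (hZ _) hw, ?_⟩
      rw [mul_smul, M.w_inf, M.u_pt_zero, hx]
    · obtain ⟨c, hc⟩ := hT.θ_surj_units hx
      refine ⟨M.u 0 y * M.h c * M.w * M.u 0 1 * M.w,
        K.mul_mem (K.mul_mem (K.mul_mem (K.mul_mem (hZ _) (hH _)) hw) (hZ _)) hw, ?_⟩
      have hf : T.f 0 1 = 1 := by simp [Tits.f]
      rw [mul_smul, mul_smul, mul_smul, mul_smul, M.w_inf, M.u_pt_zero,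
        M.w_pt (by rw [hf]; exact one_ne_zero), hf, M.h_pt, M.u_pt]
      simp [hc]
  have core : K.normalCore = ⊤ := by
    refine M.normal_eq_top hT (g := M.u 0 1) (fun x => ?_) (by rw [pow_two, M.z_mul_self])
      (fun h => one_ne_zero (M.u_eq_one.1 h).2)
    obtain ⟨y, hy, e⟩ := tr (x • M.inf)
    have : y⁻¹ * x ∈ M.B := by rw [M.mem_B, mul_smul, ← e, inv_smul_smul]
    obtain ⟨d, hd⟩ := M.mem_Z.1 (M.conj_mem_Z this (M.u_mem_Z 1))
    have e2 : x * M.u 0 1 * x⁻¹ = y * (y⁻¹ * x * M.u 0 1 * (y⁻¹ * x)⁻¹) * y⁻¹ := by group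
    rw [e2, hd]
    exact K.mul_mem (K.mul_mem hy (hZ d)) (K.inv_mem hy)
  exact top_le_iff.1 (core ▸ K.normalCore_le)

/-- the element of order five has no fixed points -/
def Fp {R : Type*} [Ring R] (ρ : G →* R) : Prop :=
  1 + ρ (g5 M) + ρ (g5 M ^ 2) + ρ (g5 M ^ 3) + ρ (g5 M ^ 4) = 0

variable {k : Type*} [Field k] {V : Type*} [AddCommGroup V] [Module k V]

/-- `j` is an equivariant map from the twist of the natural module by `σ` -/
def Eqv (ρ : Representation k G V) (σ : F →+* k) (j : (Fin 4 → k) →ₗ[k] V) : Prop :=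
  ∀ x e, ρ x (j e) = j ((M.ρ x).map σ *ᵥ e)

variable {M}

theorem Fp.apply {ρ : Representation k G V} (h : Fp M ρ) (v : V) :
    v + ρ (g5 M) v + ρ (g5 M ^ 2) v + ρ (g5 M ^ 3) v + ρ (g5 M ^ 4) v = 0 :=
  LinearMap.congr_fun h v

theorem Fp.dual {ρ : Representation k G V} (h : Fp M ρ) :
    Fp (R := Module.End k (Module.Dual k V)) M ρ.dual := by
  have inv : ∀ a b : ℕ, a + b = 5 → (g5 M ^ a)⁻¹ = g5 M ^ b := fun a b e =>
    inv_eq_of_mul_eq_one_right (by rw [← pow_add, e, g5_pow_five])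
  ext f v
  change f v + f (ρ (g5 M)⁻¹ v) + f (ρ (g5 M ^ 2)⁻¹ v) + f (ρ (g5 M ^ 3)⁻¹ v) +
    f (ρ (g5 M ^ 4)⁻¹ v) = 0
  have := congrArg f (h.apply v)
  simp only [map_add, map_zero] at this
  have i1 := inv 1 4 rfl
  have i4 := inv 4 1 rfl
  rw [pow_one] at i1 i4
  rw [i1, inv 2 3 rfl, inv 3 2 rfl, i4]
  linear_combination this

variable (M) [IsAlgClosed k] [CharP k 2] [FiniteDimensional k V]

/-- a highest weight vector -/
theorem exists_high (hT : T.IsFin m) [Nontrivial V] (ρ : Representation k G V) :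
    ∃ v : V, v ≠ 0 ∧ (∀ a b, ρ (M.u a b) v = v) ∧ ∃ χ : Fˣ → k, ∀ c, ρ (M.h c) v = χ c • v := by
  have := hT.finite
  have := M.finite
  have : Fact (Nat.Prime 2) := ⟨Nat.prime_two⟩
  let W : Submodule k V :=
    { carrier := {v | ∀ a b, ρ (M.u a b) v = v}
      add_mem' := fun {x y} hx hy a b => by rw [map_add, hx a b, hy a b]
      zero_mem' := fun a b => map_zero _
      smul_mem' := fun c x hx a b => by rw [map_smul, hx a b] }
  obtain ⟨v0, -, h0, hv0⟩ := H90.exists_fixed_of_isPGroup M.isPGroup_Q (ρ.comp M.Q.subtype) ⊤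
    bot_ne_top.symm (fun _ _ _ => trivial)
  have : Nontrivial W := ⟨⟨⟨v0, fun a b => hv0 ⟨_, M.u_mem_Q a b⟩⟩, 0,
    fun e => h0 (congrArg Subtype.val e)⟩⟩
  have hW : ∀ c, ∀ v ∈ W, ρ (M.h c) v ∈ W := fun c v hv a b => by
    rw [← Module.End.mul_apply, ← map_mul, M.u_mul_h, map_mul, Module.End.mul_apply, hv]
  obtain ⟨u, hu⟩ := IsCyclic.exists_generator (α := Fˣ)
  obtain ⟨μ, hμ⟩ := Module.End.exists_eigenvalue ((ρ (M.h u)).restrict (hW u))
  obtain ⟨v, hv⟩ := hμ.exists_hasEigenvector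
  have e : ρ (M.h u) v = μ • (v : V) := congrArg Subtype.val hv.apply_eq_smul
  have : ∀ c, ∃ χ : k, ρ (M.h c) v = χ • (v : V) := fun c => by
    obtain ⟨n, rfl⟩ := (Submonoid.mem_powers_iff _ _).1 (mem_powers_iff_mem_zpowers.2 (hu c))
    refine ⟨μ ^ n, ?_⟩
    induction n with
    | zero => simp
    | succ n ih =>
      rw [pow_succ, map_mul, map_mul, Module.End.mul_apply, e, map_smul, ih, smul_smul, pow_succ,
        mul_comm]
  choose χ hχ using this
  exact ⟨v, fun e => hv.2 (Subtype.ext e), v.2, χ, hχ⟩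

theorem ρ_uhwu (a b c d : F) (l : Fˣ) :
    M.ρ (M.u a b * M.h l * M.w * M.u c d) 3 0 = (T.θ l * l)⁻¹ := by
  simp [M.ρ_u, M.ρ_h, M.ρ_w, Tits.uM, Tits.hM, Tits.wM, Matrix.mul_apply, Fin.sum_univ_four]

theorem ρ_uh (a b : F) (l : Fˣ) : M.ρ (M.u a b * M.h l) 3 0 = 0 := by
  simp [M.ρ_u, M.ρ_h, Tits.uM, Tits.hM, Matrix.mul_apply, Fin.sum_univ_four]

variable {M}

/-- A simple module on which the element of order five has no fixed points is a twist of the
natural module. -/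
theorem Fp.simple (hT : T.IsFin m) [Nontrivial V] {ρ : Representation k G V} (h : Fp M ρ)
    (hirr : ∀ W : Submodule k V, (∀ x, ∀ v ∈ W, ρ x v ∈ W) → W = ⊥ ∨ W = ⊤) :
    ∃ (σ : F →+* k) (j : (Fin 4 → k) →ₗ[k] V), Function.Bijective j ∧ Eqv M ρ σ j := by
  classical
  have two : ∀ x : k, x + x = 0 := CharTwo.add_self_eq_zero
  obtain ⟨v, v0, hvS, χ, hχ⟩ := exists_high M hT ρ
  obtain ⟨f, f0, hfS, χ', hχ'⟩ := exists_high M hT ρ.dual
  have fS : ∀ a b x, f (ρ (M.u a b) x) = f x := fun a b x => by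
    have := LinearMap.congr_fun (hfS a (b + T.θ a * a)) x
    rwa [← M.u_inv, Representation.dual_apply, inv_inv] at this
  have fH : ∀ c x, f (ρ (M.h c) x) = χ' c⁻¹ * f x := fun c x => by
    have := LinearMap.congr_fun (hχ' c⁻¹) x
    rwa [map_inv, Representation.dual_apply, inv_inv] at this
  have mul : ∀ x y (w : V), ρ (x * y) w = ρ x (ρ y w) := fun x y w => by
    rw [map_mul, Module.End.mul_apply]
  -- separation
  have sep : ∀ w : V, (∀ y, f (ρ y w) = 0) → w = 0 := fun w hw => by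
    let W : Submodule k V :=
      { carrier := {w | ∀ y, f (ρ y w) = 0}
        add_mem' := fun {a b} ha hb y => by rw [map_add, map_add, ha y, hb y, add_zero]
        zero_mem' := fun y => by simp
        smul_mem' := fun c a ha y => by rw [map_smul, map_smul, ha y, smul_zero] }
    rcases hirr W (fun x a ha y => by rw [← mul]; exact ha _) with e | e
    · exact (Submodule.mem_bot k).1 (e ▸ hw)
    · exact absurd (LinearMap.ext fun a => by
        simpa using (e ▸ Submodule.mem_top : a ∈ W) 1) f0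
  have rel : v + ρ (M.u 0 1 * M.w) v + ρ (M.u 1 1 * M.w) v + ρ (M.u 1 0 * M.w) v + ρ M.w v = 0 := by
    have := h.apply v
    rwa [g5_sq, g5_cube, g5_pow_four, mul _ (M.u 1 1), mul _ (M.u 1 0), mul _ (M.u 0 1), hvS, hvS,
      hvS] at this
  have c1 : f v = 0 := by
    have := congrArg f rel
    simp only [map_add, mul, fS, map_zero] at this
    linear_combination this - two (f (ρ M.w v)) - two (f (ρ M.w v))
  obtain ⟨d, hd⟩ : ∃ d, f (ρ M.w v) = d := ⟨_, rfl⟩
  have cB : ∀ a b l, f (ρ (M.u a b * M.h l) v) = 0 := fun a b l => by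
    rw [mul, fS, fH, c1, mul_zero]
  have cW : ∀ a b l c e, f (ρ (M.u a b * M.h l * M.w * M.u c e) v) = χ' l⁻¹ * d :=
    fun a b l c e => by rw [mul, mul, mul, hvS, fS, fH, hd]
  have d0 : d ≠ 0 := fun e => v0 (sep v fun y => by
    rcases M.bruhat y with ⟨a, b, l, rfl⟩ | ⟨a, b, l, c, e', rfl⟩
    · exact cB a b l
    · rw [cW, e, mul_zero])
  have χ1 : χ' 1 = 1 := by
    have := fH 1 (ρ M.w v)
    rw [map_one, map_one, inv_one, Module.End.one_apply, hd] at this
    exact (mul_right_cancel₀ d0 (this.symm.trans (one_mul d).symm))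
  have χm : ∀ a b, χ' (a * b) = χ' a * χ' b := fun a b => by
    have := fH (a⁻¹ * b⁻¹) (ρ M.w v)
    rw [map_mul, mul, fH, fH, hd, inv_inv, inv_inv, _root_.mul_inv_rev, inv_inv, inv_inv,
      mul_comm b a, ← mul_assoc] at this
    exact (mul_right_cancel₀ d0 this).symm
  let s : F → k := fun t => if ht : t = 0 then 0 else
    χ' (Units.mk0 (T.θ t / t) (div_ne_zero (T.θ_ne_zero ht) ht))
  have s0 : s 0 = 0 := by simp [s]
  have sl : ∀ l : Fˣ, s (T.θ l * l)⁻¹ = χ' l⁻¹ := fun l => by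
    have h1 := T.θ_ne_zero l.ne_zero
    have h2 : (T.θ l * l)⁻¹ ≠ 0 := inv_ne_zero (mul_ne_zero h1 l.ne_zero)
    simp only [s, dif_neg h2]
    congr 1
    ext
    simp only [Units.val_mk0, map_inv₀, map_mul, T.sq, Units.val_inv_eq_inv_val]
    field_simp
  have cs : ∀ x, f (ρ x v) = s (M.ρ x 3 0) * d := fun x => by
    rcases M.bruhat x with ⟨a, b, l, rfl⟩ | ⟨a, b, l, c, e', rfl⟩
    · rw [cB, ρ_uh, s0, zero_mul]
    · rw [cW, ρ_uhwu, sl]
  have s1 : s 1 = 1 := by simpa [χ1] using sl 1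
  have sm : ∀ x y, s (x * y) = s x * s y := fun x y => by
    by_cases hx : x = 0
    · simp [hx, s0]
    by_cases hy : y = 0
    · simp [hy, s0]
    simp only [s, dif_neg hx, dif_neg hy, dif_neg (mul_ne_zero hx hy), ← χm]
    congr 1
    ext
    simp only [Units.val_mk0, map_mul, Units.val_mul]
    field_simp
  have sa : ∀ x, s (x + 1) = s x + 1 := fun x => by
    obtain ⟨b, rfl⟩ := hT.θ_surj x
    have := congrArg (fun w => f (ρ (M.w * M.u 0 b) w)) rel
    simp only [map_add, ← mul, cs, map_zero] at this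
    simp [M.ρ_u, M.ρ_w, Tits.uM, Tits.wM, Matrix.mul_apply, Fin.sum_univ_four, Tits.f, s1,
      T.add_self] at this
    apply mul_right_cancel₀ d0
    rw [add_comm (T.θ b)]
    linear_combination this - two (s (1 + b + T.θ b) * d) - two ((s (T.θ b) + 1) * d)
  obtain ⟨σ, hσ⟩ := exists_hom_of_succ s s0 s1 sm sa
  let b : Fin 4 → V := ![v, ρ (M.u 0 1 * M.w) v + ρ M.w v + v, ρ (M.u 1 0 * M.w) v + ρ M.w v + v,
    ρ M.w v]
  have fb : ∀ y i, f (ρ y (b i)) = σ (M.ρ y 3 i) * d := fun y i => by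
    have t2 := T.two
    fin_cases i
    · exact (cs y).trans (by rw [hσ]; rfl)
    · simp only [b, Fin.mk_one, Matrix.cons_val_one, Matrix.cons_val_zero, map_add, ← mul, cs,
        ← hσ, ← add_mul]
      simp [← map_add, M.ρ_u, M.ρ_w, Tits.uM, Tits.wM, Matrix.mul_apply, Fin.sum_univ_four, Tits.f]
      left; congr 1; linear_combination (M.ρ y 3 0 + M.ρ y 3 3) * t2
    · simp only [b, Fin.reduceFinMk, Matrix.cons_val, map_add, ← mul, cs, ← hσ, ← add_mul]
      simp [← map_add, M.ρ_u, M.ρ_w, Tits.uM, Tits.wM, Matrix.mul_apply, Fin.sum_univ_four, Tits.f]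
      left; congr 1; linear_combination (M.ρ y 3 0 + M.ρ y 3 3) * t2
    · simp only [b, Fin.reduceFinMk, Matrix.cons_val, ← mul, cs, ← hσ]
      simp [M.ρ_w, Tits.wM, Matrix.mul_apply, Fin.sum_univ_four]
  let j : (Fin 4 → k) →ₗ[k] V := Fintype.linearCombination k b
  have fj : ∀ y e, f (ρ y (j e)) = ((M.ρ y).map σ *ᵥ e) 3 * d := fun y e => by
    simp only [j, Fintype.linearCombination_apply, map_sum, map_smul, fb, smul_eq_mul, mulVec,
      dotProduct, Matrix.map_apply, Finset.sum_mul]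
    exact Finset.sum_congr rfl fun i _ => by ring
  have eqv : Eqv M ρ σ j := fun x e => by
    rw [← sub_eq_zero]
    refine sep _ fun y => ?_
    rw [map_sub, map_sub, ← mul, fj, fj, map_mul, Matrix.map_mul, mulVec_mulVec, sub_self]
  refine ⟨σ, j, ⟨(injective_iff_map_eq_zero j).2 fun e he => ?_, ?_⟩, eqv⟩
  · have z : ∀ y, ((M.ρ y).map σ *ᵥ e) 3 = 0 := fun y => by
      have := fj y e
      rw [he, map_zero, map_zero] at this
      exact (mul_eq_zero.1 this.symm).resolve_right d0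
    have e3 := z 1
    have e0 := z M.w
    have e2 := z (M.w * M.u 0 1)
    have e1 := z (M.w * M.u 1 0)
    simp [M.ρ_u, M.ρ_w, Tits.uM, Tits.wM, Fin.sum_univ_four, Tits.f, mulVec,
      dotProduct, Matrix.one_apply] at e0 e1 e2 e3
    funext i
    fin_cases i
    · exact e0
    · simpa [e0, e3, show e 2 = 0 by simpa [e0, e3] using e2] using e1
    · simpa [e0, e3] using e2
    · exact e3
  · rcases hirr (LinearMap.range j) (by rintro x _ ⟨e, rfl⟩; exact ⟨_, (eqv x e).symm⟩) with e | e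
    · refine absurd ((Submodule.mem_bot k).1 (e ▸ ⟨Pi.single 0 1, ?_⟩)) v0
      simp [j, b]
    · exact LinearMap.range_eq_top.1 e

end H47
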