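/- Martineau's theorem, part 2: complete reducibility. -/
import Cfsg.Agent.H47.MarBasic

set_option autoImplicit false

namespace H47

open Matrix H66

universe v

variable {F : Type*} [Field F] {T : Tits F} {m : ℕ} {G : Type*} [Group G] {M : Model T G}
variable {k : Type*} [Field k] {V : Type*} [AddCommGroup V] [Module k V]

section Eqv

variable {ρ : Representation k G V} {σ : F →+* k} {j : (Fin 4 → k) →ₗ[k] V}

theorem Eqv.z (h : Eqv M ρ σ j) (b : F) (e : Fin 4 → k) : ρ (M.u 0 b) (j e) =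
    j e + j ![σ b * e 2 + σ (T.θ b) * e 3, σ b * e 3, 0, 0] := by
  rw [h, ← map_add]
  congr 1
  funext i
  fin_cases i <;>
    simp [M.ρ_u, Tits.uM, Tits.f, mulVec, dotProduct, Fin.sum_univ_four, add_assoc]

theorem Eqv.h (h : Eqv M ρ σ j) (c : Fˣ) (e : Fin 4 → k) : ρ (M.h c) (j e) =
    j ![σ (T.θ c * c) * e 0, σ c * e 1, (σ c)⁻¹ * e 2, (σ (T.θ c * c))⁻¹ * e 3] := by
  rw [h]
  congr 1
  funext i
  fin_cases i <;> simp [M.ρ_h, Tits.hM, mulVec, dotProduct, Fin.sum_univ_four]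

theorem Eqv.w (h : Eqv M ρ σ j) (e : Fin 4 → k) : ρ M.w (j e) = j ![e 3, e 2, e 1, e 0] := by
  rw [h]
  congr 1
  funext i
  fin_cases i <;> simp [M.ρ_w, Tits.wM, mulVec, dotProduct, Fin.sum_univ_four]

end Eqv

variable [CharP k 2]

theorem vec_add_self (k : Type*) {V : Type*} [Field k] [CharP k 2] [AddCommGroup V] [Module k V]
    (v : V) : v + v = 0 := by
  rw [← two_smul k v, CharTwo.two_eq_zero, zero_smul]

omit [CharP k 2] in
theorem rep_mul (ρ : Representation k G V) (x y : G) (w : V) : ρ (x * y) w = ρ x (ρ y w) := by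
  rw [map_mul, Module.End.mul_apply]

/-- averaging over the torus -/
theorem exists_weight_lift (hT : T.IsFin m) (ρ : Representation k G V) (μ : Fˣ →* kˣ) (x : V) :
    ∃ p : V, (∀ c, ρ (M.h c) p = (μ c : k) • p) ∧
      (∀ W : Submodule k V, (∀ c, ∀ w ∈ W, ρ (M.h c) w ∈ W) → (∀ b, ρ (M.u 0 b) x - x ∈ W) →
        ∀ b, ρ (M.u 0 b) p - p ∈ W) ∧
      ∀ {V' : Type v} [AddCommGroup V'] [Module k V'] (π : V →ₗ[k] V'),
        (∀ c, π (ρ (M.h c) x) = (μ c : k) • π x) → π p = π x := by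
  classical
  have := hT.finite
  let _ := Fintype.ofFinite Fˣ
  refine ⟨∑ c : Fˣ, ((μ c)⁻¹ : kˣ) • ρ (M.h c) x, fun c => ?_, fun W hW hx b => ?_,
    fun π hπ => ?_⟩
  · rw [map_sum, Finset.smul_sum]
    refine Fintype.sum_equiv (Equiv.mulLeft c) _ _ fun d => ?_
    simp only [Equiv.coe_mulLeft, map_mul, Units.smul_def, map_smul, smul_smul,
      _root_.mul_inv_rev, Units.val_mul]
    congr 1
    rw [mul_left_comm, Units.mul_inv, mul_one]
  · rw [map_sum, ← Finset.sum_sub_distrib]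
    refine W.sum_mem fun c _ => ?_
    rw [Units.smul_def, map_smul, ← smul_sub, ← rep_mul, M.u_mul_h, rep_mul, zero_div, ← map_sub]
    exact W.smul_mem _ (hW _ _ (hx _))
  · rw [map_sum]
    simp only [Units.smul_def, map_smul, hπ, smul_smul, Units.inv_mul, one_smul, Finset.sum_const,
      Finset.card_univ]
    obtain ⟨n, hn⟩ := hT.odd_sub_one
    rw [← Nat.card_eq_fintype_card, Nat.card_units, hn, add_smul, one_smul, two_mul, add_smul,
      vec_add_self k, zero_add]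

variable {V' : Type v} [AddCommGroup V'] [Module k V']

/-- the data of an extension of two natural modules -/
structure Ext (M : Model T G) (ρ : Representation k G V) (ρ' : Representation k G V')
    (π : V →ₗ[k] V') (σ τ : F →+* k) (i : (Fin 4 → k) →ₗ[k] V) (Ψ : (Fin 4 → k) →ₗ[k] V') :
    Prop where
  surj : Function.Surjective π
  comm : ∀ x v, π (ρ x v) = ρ' x (π v)
  ker : ∀ v, π v = 0 ↔ ∃ e, i e = v
  hi : Eqv M ρ τ i
  inj : Function.Injective i
  hΨ : Eqv M ρ' σ Ψ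

variable {ρ : Representation k G V} {ρ' : Representation k G V'} {π : V →ₗ[k] V'}
  {σ τ : F →+* k} {i : (Fin 4 → k) →ₗ[k] V} {Ψ : (Fin 4 → k) →ₗ[k] V'}

omit [CharP k 2] in
theorem vec_zero : (![0, 0, 0, 0] : Fin 4 → k) = 0 := by
  funext i; fin_cases i <;> rfl

omit [CharP k 2] in
theorem z_z (ρ : Representation k G V) (b d : F) (x : V) :
    ρ (M.u 0 b) (ρ (M.u 0 d) x) = ρ (M.u 0 (b + d)) x := by rw [← rep_mul, M.z_mul]

omit [CharP k 2] in
theorem z_zero (ρ : Representation k G V) (x : V) : ρ (M.u 0 0) x = x := by simp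

/-- the lifts of the vectors fixed by `Z` through `z₁ + 1` -/
theorem Ext.exists_pre (h : Ext M ρ ρ' π σ τ i Ψ) : ∃ x0 x1 : V,
    π x0 = Ψ ![1, 0, 0, 0] ∧ π x1 = Ψ ![0, 1, 0, 0] ∧ ρ (M.u 0 1) x0 = x0 ∧ ∀ b, ∃ p s r t : k,
      ρ (M.u 0 b) x0 = x0 + i ![p, s, 0, 0] ∧ ρ (M.u 0 b) x1 = x1 + i ![r, t, 0, 0] ∧
      (σ b + τ b) * s = 0 ∧ σ b * p = τ b * (p + s) + τ (T.θ b) * s ∧
      (p = 0 → s = 0 → (σ b + τ b) * t = 0 ∧ σ b * r = τ b * (r + t) + τ (T.θ b) * t) := by
  have two := vec_add_self k (V := V)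
  have two' := vec_add_self k (V := V')
  have t2 : (2 : k) = 0 := CharTwo.two_eq_zero
  obtain ⟨y2, h2⟩ := h.surj (Ψ ![0, 0, 1, 0])
  obtain ⟨y3, h3⟩ := h.surj (Ψ ![0, 0, 1, 1])
  have zz : ∀ b (x : V), ρ (M.u 0 b) (ρ (M.u 0 b) x) = x := fun b x => by
    rw [z_z, T.add_self, z_zero]
  have zc : ∀ b (x : V), ρ (M.u 0 b) (ρ (M.u 0 1) x) = ρ (M.u 0 1) (ρ (M.u 0 b) x) :=
    fun b x => by rw [z_z, z_z, add_comm]
  obtain ⟨x0, e0⟩ : ∃ x0, x0 = ρ (M.u 0 1) y2 - y2 := ⟨_, rfl⟩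
  obtain ⟨x1, e1⟩ : ∃ x1, x1 = ρ (M.u 0 1) y3 - y3 := ⟨_, rfl⟩
  have p0 : π x0 = Ψ ![1, 0, 0, 0] := by
    rw [e0, map_sub, h.comm, h2, h.hΨ.z]; simp
  have p1 : π x1 = Ψ ![0, 1, 0, 0] := by
    rw [e1, map_sub, h.comm, h3, h.hΨ.z]; simp [CharTwo.add_self_eq_zero]
  have f0 : ρ (M.u 0 1) x0 = x0 := by
    rw [e0, map_sub, zz]; linear_combination (norm := abel) two y2 - two (ρ (M.u 0 1) y2)
  have f1 : ρ (M.u 0 1) x1 = x1 := by
    rw [e1, map_sub, zz]; linear_combination (norm := abel) two y3 - two (ρ (M.u 0 1) y3)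
  refine ⟨x0, x1, p0, p1, f0, fun b => ?_⟩
  obtain ⟨l, hl⟩ := (h.ker (ρ (M.u 0 b) y2 - y2 - σ b • x0)).1 (by
    rw [map_sub, map_sub, map_smul, h.comm, h2, p0, h.hΨ.z, add_sub_cancel_left, ← map_smul,
      ← map_sub]
    simp)
  obtain ⟨l', hl'⟩ := (h.ker (ρ (M.u 0 b) y3 - y3 - σ b • x1 - (σ b + σ (T.θ b)) • x0)).1 (by
    rw [map_sub, map_sub, map_sub, map_smul, map_smul, h.comm, h3, p0, p1, h.hΨ.z,
      add_sub_cancel_left, ← map_smul, ← map_smul, ← map_sub, ← map_sub]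
    simp [vec_zero])
  have a0 : ρ (M.u 0 b) x0 = x0 + i ![l 2 + l 3, l 3, 0, 0] := by
    have := h.hi.z 1 l
    simp only [map_one, one_mul] at this
    rw [hl, map_sub, map_sub, map_smul, f0, ← zc] at this
    rw [e0, map_sub]
    linear_combination (norm := abel) this
  have a1 : ρ (M.u 0 b) x1 = x1 + i ![l' 2 + l' 3, l' 3, 0, 0] := by
    have := h.hi.z 1 l'
    simp only [map_one, one_mul] at this
    rw [hl', map_sub, map_sub, map_sub, map_smul, map_smul, f0, f1, ← zc] at this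
    rw [e1, map_sub]
    linear_combination (norm := abel) this
  have b0 : σ b • ![l 2 + l 3, l 3, 0, 0] + ![τ b * l 2 + τ (T.θ b) * l 3, τ b * l 3, 0, 0] = 0 := by
    apply h.inj
    have := h.hi.z b l
    rw [hl, map_sub, map_sub, map_smul, zz, a0, smul_add] at this
    rw [map_add, map_smul, map_zero]
    linear_combination (norm := abel) -this + two y2 - two (ρ (M.u 0 b) y2)
  have b1 : σ b • ![l' 2 + l' 3, l' 3, 0, 0] + (σ b + σ (T.θ b)) • ![l 2 + l 3, l 3, 0, 0] +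
      ![τ b * l' 2 + τ (T.θ b) * l' 3, τ b * l' 3, 0, 0] = 0 := by
    apply h.inj
    have := h.hi.z b l'
    rw [hl', map_sub, map_sub, map_sub, map_smul, map_smul, zz, a0, a1, smul_add, smul_add] at this
    rw [map_add, map_add, map_smul, map_smul, map_zero]
    linear_combination (norm := abel) -this + two y3 - two (ρ (M.u 0 b) y3)
  have c0 := congrFun b0 0
  have c1 := congrFun b0 1
  have d0 := congrFun b1 0
  have d1 := congrFun b1 1
  simp at c0 c1 d0 d1
  refine ⟨_, _, _, _, a0, a1, by linear_combination c1, ?_, fun hp hs => ⟨?_, ?_⟩⟩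
  · linear_combination c0 - (τ b * l 2 + τ b * l 3 + τ (T.θ b) * l 3) * t2
  · linear_combination d1 - (σ b + σ (T.θ b)) * hs
  · linear_combination d0 - (σ b + σ (T.θ b)) * hp -
      (τ b * l' 2 + τ b * l' 3 + τ (T.θ b) * l' 3) * t2

/-- the weight `θ c * c` twisted by `σ` -/
noncomputable def wtL (T : Tits F) (σ : F →+* k) : Fˣ →* kˣ :=
  (Units.map σ.toMonoidHom).comp (Units.map T.θ.toMonoidHom * MonoidHom.id Fˣ)

omit [CharP k 2] in
theorem wtL_val (c : Fˣ) : (wtL T σ c : k) = σ (T.θ c * c) := rfl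

omit [CharP k 2] in
theorem const_additive (hT : T.IsFin m) {ψ : F → k} (hadd : ∀ a b, ψ (a + b) = ψ a + ψ b)
    (h : ∀ (c : Fˣ) (b : F), ψ (T.θ c * (c : F) ^ 2 * b) = ψ b) (b : F) : ψ b = 0 := by
  have h1 : ψ 1 = 0 := by
    by_contra h1
    obtain ⟨r, hr⟩ := exists_hom_of_equivariant hT ψ hadd (fun _ => 1) (by simpa using h) h1
    obtain ⟨t, t0, t1⟩ := hT.exists_ne
    obtain ⟨c, hc⟩ := hT.chi_surj t0
    exact t1 (r.injective (by rw [← hc, hr, map_one]))
  by_cases hb : b = 0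
  · simpa [hb] using hadd 0 0
  · obtain ⟨c, hc⟩ := hT.chi_surj hb
    rw [← mul_one b, ← hc, h, h1]

omit [CharP k 2] in
theorem h_z (ρ : Representation k G V) (c : Fˣ) (b : F) (x : V) :
    ρ (M.h c) (ρ (M.u 0 b) x) = ρ (M.u 0 (T.θ c * (c : F) ^ 2 * b)) (ρ (M.h c) x) := by
  rw [← rep_mul, ← rep_mul, M.h_mul_u, mul_zero]

omit [CharP k 2] in
/-- A weight vector whose displacement under `Z` lies in the first two coordinates. -/
theorem Ext.disp (h : Ext M ρ ρ' π σ τ i Ψ) {p : V} {μ : Fˣ → k} (hμ : ∀ c, μ c ≠ 0)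
    (hp : ∀ c, ρ (M.h c) p = μ c • p) {q : F → V} {ψ0 ψ1 : F → k}
    (hz : ∀ b, ρ (M.u 0 b) p = p + q b + i ![ψ0 b, ψ1 b, 0, 0])
    (qz : ∀ b d, ρ (M.u 0 b) (q d) = q d) (qa : ∀ b d, q (b + d) = q b + q d)
    (qh : ∀ (c : Fˣ) b, ρ (M.h c) (q b) = μ c • q (T.θ c * (c : F) ^ 2 * b)) :
    (∀ a b, ψ0 (a + b) = ψ0 a + ψ0 b) ∧ (∀ a b, ψ1 (a + b) = ψ1 a + ψ1 b) ∧
    (∀ (c : Fˣ) b, ψ0 (T.θ c * (c : F) ^ 2 * b) = (μ c)⁻¹ * τ (T.θ c * c) * ψ0 b) ∧
    (∀ (c : Fˣ) b, ψ1 (T.θ c * (c : F) ^ 2 * b) = (μ c)⁻¹ * τ c * ψ1 b) := by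
  have add : ∀ a b, (![ψ0 (a + b), ψ1 (a + b), 0, 0] : Fin 4 → k) =
      ![ψ0 a, ψ1 a, 0, 0] + ![ψ0 b, ψ1 b, 0, 0] := fun a b => by
    apply h.inj
    have := z_z (M := M) ρ a b p
    rw [hz b, map_add, map_add, hz a, hz (a + b), qz, qa, h.hi.z] at this
    simp only [Matrix.cons_val, mul_zero, add_zero, vec_zero, map_zero] at this
    rw [map_add]
    linear_combination (norm := abel) -this
  have eqv : ∀ (c : Fˣ) b, μ c • (![ψ0 (T.θ c * (c : F) ^ 2 * b), ψ1 (T.θ c * (c : F) ^ 2 * b),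
      0, 0] : Fin 4 → k) = ![τ (T.θ c * c) * ψ0 b, τ c * ψ1 b, 0, 0] := fun c b => by
    apply h.inj
    have := h_z (M := M) ρ c b p
    rw [hz b, map_add, map_add, hp, map_smul, hz, qh, h.hi.h, smul_add, smul_add] at this
    simp only [Matrix.cons_val, mul_zero] at this
    rw [map_smul]
    linear_combination (norm := abel) -this
  refine ⟨fun a b => by simpa using congrFun (add a b) 0,
    fun a b => by simpa using congrFun (add a b) 1, fun c b => ?_, fun c b => ?_⟩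
  · have := congrFun (eqv c b) 0
    simp only [Pi.smul_apply, Matrix.cons_val, smul_eq_mul] at this
    rw [mul_assoc (μ c)⁻¹, ← this, inv_mul_cancel_left₀ (hμ c)]
  · have := congrFun (eqv c b) 1
    simp only [Pi.smul_apply, Matrix.cons_val, smul_eq_mul] at this
    rw [mul_assoc (μ c)⁻¹, ← this, inv_mul_cancel_left₀ (hμ c)]

/-- `Z` acts quadratically. -/
theorem Ext.exists_fixed (hT : T.IsFin m) (h : Ext M ρ ρ' π σ τ i Ψ) : ∃ p0 p1 : V,
    π p0 = Ψ ![1, 0, 0, 0] ∧ π p1 = Ψ ![0, 1, 0, 0] ∧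
    (∀ c, ρ (M.h c) p0 = σ (T.θ c * c) • p0) ∧ (∀ c, ρ (M.h c) p1 = σ c • p1) ∧
    (∀ b, ρ (M.u 0 b) p0 = p0) ∧ ∀ b, ρ (M.u 0 b) p1 = p1 := by
  have := hT.finite
  obtain ⟨x0, x1, e0, e1, hx1, hx⟩ := h.exists_pre
  obtain ⟨p0, a0, b0, c0⟩ := exists_weight_lift (M := M) hT ρ (wtL T σ) x0
  obtain ⟨p1, a1, b1, c1⟩ := exists_weight_lift (M := M) hT ρ (Units.map σ.toMonoidHom) x1
  have f0 : π p0 = Ψ ![1, 0, 0, 0] := by
    rw [c0 π fun c => by rw [h.comm, e0, h.hΨ.h, ← map_smul, wtL_val]; simp, e0]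
  have f1 : π p1 = Ψ ![0, 1, 0, 0] := by
    rw [c1 π fun c => by rw [h.comm, e1, h.hΨ.h, ← map_smul]; simp, e1]
  refine ⟨p0, p1, f0, f1, a0, a1, ?_⟩
  have t2 : (2 : k) = 0 := CharTwo.two_eq_zero
  by_cases hστ : σ = τ
  · subst hστ
    let W0 : Submodule k V := LinearMap.range (i ∘ₗ LinearMap.single k (fun _ => k) 0)
    let W1 : Submodule k V := (LinearMap.ker (LinearMap.proj (R := k) (φ := fun _ => k) (2 : Fin 4))
      ⊓ LinearMap.ker (LinearMap.proj (R := k) (φ := fun _ => k) (3 : Fin 4))).map i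
    have s0 : ∀ a : k, (Pi.single 0 a : Fin 4 → k) = ![a, 0, 0, 0] := fun a => by
      funext i; fin_cases i <;> simp
    have m0 : ∀ w, w ∈ W0 ↔ ∃ a, w = i ![a, 0, 0, 0] := fun w =>
      ⟨fun ⟨a, e⟩ => ⟨a, by rw [← e, ← s0]; rfl⟩, fun ⟨a, e⟩ => ⟨a, by rw [e, ← s0]; rfl⟩⟩
    have m1 : ∀ w, w ∈ W1 ↔ ∃ a b, w = i ![a, b, 0, 0] := fun w =>
      ⟨fun ⟨e, ⟨h2, h3⟩, he⟩ => ⟨e 0, e 1, by
        rw [← he]; congr 1; funext j; fin_cases j
        · rfl
        · rfl
        · exact h2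
        · exact h3⟩, fun ⟨a, b, e⟩ => ⟨_, ⟨rfl, rfl⟩, e.symm⟩⟩
    have g0 := b0 W0 (fun c w hw => by
      obtain ⟨a, rfl⟩ := (m0 w).1 hw
      rw [h.hi.h, m0]; exact ⟨_, by simp; rfl⟩) (fun b => by
      obtain ⟨p, s, r, t, h1, -, h3, h4, -⟩ := hx b
      by_cases hb : T.θ b = b
      · rcases T.θ_eq_self hb with rfl | rfl
        · simp
        · rw [hx1, sub_self]; exact W0.zero_mem
      · have : s = 0 := by
          have e : (σ b + σ (T.θ b)) * s = 0 := by linear_combination -h4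
          refine (mul_eq_zero.1 e).resolve_left fun e => hb (σ.injective ?_)
          linear_combination e - σ b * t2
        rw [h1, this, m0]; exact ⟨p, by simp⟩)
    have g1 := b1 W1 (fun c w hw => by
      obtain ⟨a, b, rfl⟩ := (m1 w).1 hw
      rw [h.hi.h, m1]; exact ⟨_, _, by simp; rfl⟩) (fun b => by
      obtain ⟨p, s, r, t, -, h2, -⟩ := hx b
      rw [h2, m1]; exact ⟨r, t, by simp⟩)
    choose ψ hψ using fun b => (m0 _).1 (g0 b)
    choose φ0 φ1 hφ using fun b => (m1 _).1 (g1 b)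
    have n0 : ∀ c : Fˣ, σ (T.θ c * c) ≠ 0 := fun c => (wtL T σ c).ne_zero
    have n1 : ∀ c : Fˣ, σ c ≠ 0 := fun c => (_root_.map_ne_zero σ).2 c.ne_zero
    obtain ⟨d1, -, d2, -⟩ := h.disp (p := p0) n0 a0 (q := fun _ => 0) (ψ0 := ψ) (ψ1 := fun _ => 0)
      (fun b => by rw [← hψ]; abel) (by simp) (by simp) (by simp)
    obtain ⟨d3, d4, d5, d6⟩ := h.disp (p := p1) n1 a1 (q := fun _ => 0) (ψ0 := φ0) (ψ1 := φ1)
      (fun b => by rw [← hφ]; abel) (by simp) (by simp) (by simp)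
    have z0 := const_additive hT d1 fun c b => by rw [d2, inv_mul_cancel₀ (n0 c), one_mul]
    have z1 := const_additive hT d4 fun c b => by rw [d6, inv_mul_cancel₀ (n1 c), one_mul]
    have z2 : φ0 1 = 0 := by
      by_contra hne
      obtain ⟨r, hr⟩ := exists_hom_of_equivariant hT φ0 d3 _ d5 hne
      have : ∀ x, (r.comp T.θ) x * (σ.comp T.θ) x = σ x * σ x := fun x => by
        by_cases hx : x = 0
        · simp [hx]
        obtain ⟨c, k1, k2, k3⟩ := exists_torus_param T hx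
        have := hr c
        rw [k1, k2] at this
        simp only [RingHom.comp_apply]
        rw [this, ← k3, map_mul]
        field_simp [n1 c]
      rcases hom_pair this with ⟨-, e⟩ | ⟨-, e⟩ <;> exact theta_ne hT σ e
    have z3 : ∀ b, φ0 b = 0 := fun b => by
      by_cases hb : b = 0
      · simpa [hb] using d3 0 0
      · obtain ⟨c, hc⟩ := hT.chi_surj hb
        rw [← mul_one b, ← hc, d5, z2, mul_zero]
    exact ⟨fun b => sub_eq_zero.1 (by rw [hψ, z0, vec_zero, map_zero]),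
      fun b => sub_eq_zero.1 (by rw [hφ, z1, z3, vec_zero, map_zero])⟩
  · have key : ∀ b, σ b ≠ τ b → ρ (M.u 0 b) x0 = x0 ∧ ρ (M.u 0 b) x1 = x1 := fun b hb => by
      obtain ⟨p, s, r, t, h1, h2, h3, h4, h5⟩ := hx b
      have ne : σ b + τ b ≠ 0 := fun e => hb (by linear_combination e - τ b * t2)
      have hs : s = 0 := (mul_eq_zero.1 h3).resolve_left ne
      have hp : p = 0 := (mul_eq_zero.1 (show (σ b + τ b) * p = 0 by
        rw [hs] at h4; linear_combination h4 + τ b * p * t2)).resolve_left ne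
      obtain ⟨h6, h7⟩ := h5 hp hs
      have ht : t = 0 := (mul_eq_zero.1 h6).resolve_left ne
      have hr : r = 0 := (mul_eq_zero.1 (show (σ b + τ b) * r = 0 by
        rw [ht] at h7; linear_combination h7 + τ b * r * t2)).resolve_left ne
      rw [h1, h2, hs, hp, ht, hr, vec_zero, map_zero, add_zero, add_zero]
      exact ⟨rfl, rfl⟩
    obtain ⟨d, hd⟩ : ∃ d, σ d ≠ τ d := by
      by_contra hh
      push Not at hh
      exact hστ (RingHom.ext hh)
    have all : ∀ b, ρ (M.u 0 b) x0 = x0 ∧ ρ (M.u 0 b) x1 = x1 := fun b => by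
      by_cases hb : σ b = τ b
      · have h1 := key (b + d) (by rw [map_add, map_add, hb]; simpa using hd)
        have e : b = b + d + d := by rw [add_assoc, T.add_self, add_zero]
        rw [e, ← z_z, ← z_z ρ (b + d), (key d hd).1, (key d hd).2]
        exact h1
      · exact key b hb
    exact ⟨fun b => sub_eq_zero.1 (b0 ⊥ (by simp) (fun b => by simp [all b]) b),
      fun b => sub_eq_zero.1 (b1 ⊥ (by simp) (fun b => by simp [all b]) b)⟩

theorem Fp.quad (h : Fp M ρ) {x : V} (hx : ρ (M.u 0 1) x = x) :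
    ρ (M.u 0 1) (ρ M.w (ρ (M.u 0 1) (ρ M.w x) - ρ M.w x)) -
      ρ M.w (ρ (M.u 0 1) (ρ M.w x) - ρ M.w x) + (ρ (M.u 0 1) (ρ M.w x) - ρ M.w x) + x = 0 := by
  have two := vec_add_self k (V := V)
  have h1 := h.apply x
  have ww : ∀ y : V, ρ M.w (ρ M.w y) = y := fun y => by
    rw [← rep_mul, M.w_mul_w, map_one, Module.End.one_apply]
  have e3 : g5 M ^ 3 = M.w * M.u 0 1 * (M.w * M.u 0 1) := by
    rw [← g5_pow_four, ← pow_add, show 4 + 4 = 5 + 3 from rfl, pow_add, g5_pow_five, one_mul]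
  rw [e3, g5_pow_four, pow_two, g5] at h1
  simp only [rep_mul, hx] at h1
  simp only [map_sub, ww, hx]
  linear_combination (norm := abel) h1 - two (ρ M.w (ρ (M.u 0 1) (ρ M.w x))) - two (ρ M.w x)

/-- Extensions of natural modules split. -/
theorem Ext.split (hT : T.IsFin m) (h : Ext M ρ ρ' π σ τ i Ψ) (hF : Fp M ρ) :
    ∃ j : (Fin 4 → k) →ₗ[k] V, Eqv M ρ σ j ∧ π ∘ₗ j = Ψ := by
  have := hT.finite
  have two := vec_add_self k (V := V)
  have t2 : (2 : k) = 0 := CharTwo.two_eq_zero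
  obtain ⟨p0, p1, e0, e1, a0, a1, z0, z1⟩ := h.exists_fixed hT
  have n0 : ∀ c : Fˣ, σ (T.θ c * c) ≠ 0 := fun c => (wtL T σ c).ne_zero
  have n1 : ∀ c : Fˣ, σ c ≠ 0 := fun c => (_root_.map_ne_zero σ).2 c.ne_zero
  have hw : ∀ (c : Fˣ) (x : V), ρ (M.h c) (ρ M.w x) = ρ M.w (ρ (M.h c⁻¹) x) := fun c x => by
    rw [← rep_mul, ← rep_mul, M.h_mul_w]
  have a2 : ∀ c : Fˣ, ρ (M.h c) (ρ M.w p1) = (σ c)⁻¹ • ρ M.w p1 := fun c => by
    rw [hw, a1, map_smul]; simp
  have a3 : ∀ c : Fˣ, ρ (M.h c) (ρ M.w p0) = (σ (T.θ c * c))⁻¹ • ρ M.w p0 := fun c => by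
    rw [hw, a0, map_smul]; simp [mul_comm]
  -- the displacement of a lift lies in the first two coordinates
  have low : ∀ (y : V) (q : F → V), (∀ b d, ρ (M.u 0 b) (q d) = q d) →
      (∀ b, π (ρ (M.u 0 b) y - y - q b) = 0) →
      ∃ ψ0 ψ1 : F → k, ∀ b, ρ (M.u 0 b) y = y + q b + i ![ψ0 b, ψ1 b, 0, 0] := by
    intro y q hq hy
    choose l hl using fun b => (h.ker _).1 (hy b)
    have fix : ∀ b, ρ (M.u 0 1) (i (l b)) = i (l b) → l b = ![l b 0, l b 1, 0, 0] := fun b hb => by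
      rw [h.hi.z, add_eq_left, ← map_zero i] at hb
      have := h.inj hb
      have c0 := congrFun this 0
      have c1 := congrFun this 1
      simp at c0 c1
      funext j; fin_cases j
      · rfl
      · rfl
      · simpa [c1] using c0
      · exact c1
    have l1 := fix 1 (by
      rw [hl, map_sub, map_sub, hq, z_z, T.add_self, z_zero]
      linear_combination (norm := abel) two y - two (ρ (M.u 0 1) y))
    refine ⟨fun b => l b 0, fun b => l b 1, fun b => ?_⟩
    rw [← fix b, hl]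
    · abel
    · have e := h.hi.z b (l 1)
      rw [l1] at e
      simp only [Matrix.cons_val, mul_zero, add_zero, vec_zero, map_zero] at e
      rw [← l1, hl, map_sub, map_sub, hq, z_z] at e
      rw [hl, map_sub, map_sub, hq, z_z, add_comm 1 b]
      linear_combination (norm := abel) e
  obtain ⟨φ0, φ1, hφ⟩ := low (ρ M.w p1) (fun b => σ b • p0) (fun b d => by rw [map_smul, z0])
    fun b => by
      rw [map_sub, map_sub, map_smul, h.comm, h.comm, e0, e1, h.hΨ.w, h.hΨ.z, add_sub_cancel_left,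
        ← map_smul, ← map_sub]
      simp
  obtain ⟨ψ0, ψ1, hψ⟩ := low (ρ M.w p0) (fun b => σ (T.θ b) • p0 + σ b • p1)
    (fun b d => by rw [map_add, map_smul, map_smul, z0, z1]) fun b => by
      rw [map_sub, map_sub, map_add, map_smul, map_smul, h.comm, h.comm, e0, e1, h.hΨ.w, h.hΨ.z,
        add_sub_cancel_left, ← map_smul, ← map_smul, ← map_add, ← map_sub]
      simp
  obtain ⟨d1, d2, d3, d4⟩ := h.disp (fun c => inv_ne_zero (n1 c)) a2 hφ
    (fun b d => by rw [map_smul, z0]) (fun b d => by rw [map_add, add_smul]) fun c b => by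
      rw [map_smul, a0, smul_smul, smul_smul]
      congr 1
      simp only [map_mul, map_pow]
      field_simp [n1 c]
  obtain ⟨d5, d6, d7, d8⟩ := h.disp (fun c => inv_ne_zero (n0 c)) a3 hψ
    (fun b d => by rw [map_add, map_smul, map_smul, z0, z1])
    (fun b d => by simp only [map_add, add_smul]; abel) fun c b => by
      have := n1 c
      have : σ (T.θ c) ≠ 0 := (_root_.map_ne_zero σ).2 (T.θ_ne_zero c.ne_zero)
      rw [map_add, map_smul, map_smul, a0, a1, smul_add, smul_smul, smul_smul, smul_smul, smul_smul]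
      congr 2
      · simp only [map_mul, map_pow, T.sq]; field_simp
      · simp only [map_mul, map_pow]; field_simp
  simp only [inv_inv] at d3 d4 d7 d8
  -- the relation coming from the element of order five
  have q := hF.quad (z1 1)
  have y1 : ρ (M.u 0 1) (ρ M.w p1) - ρ M.w p1 = p0 + i ![φ0 1, φ1 1, 0, 0] := by
    rw [hφ, map_one, one_smul]; abel
  have y0 : ρ (M.u 0 1) (ρ M.w p0) - ρ M.w p0 = p0 + p1 + i ![ψ0 1, ψ1 1, 0, 0] := by
    rw [hψ, map_one, map_one, one_smul, one_smul]; abel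
  have q' : (![ψ0 1, ψ1 1, 0, 0] : Fin 4 → k) + ![φ1 1 + φ0 1, φ0 1, 0, 0] +
      ![φ0 1, φ1 1, 0, 0] = 0 := by
    apply h.inj
    rw [y1, map_add, map_add, h.hi.w, h.hi.z] at q
    simp only [Matrix.cons_val, map_one, one_mul] at q
    rw [map_add, map_add, map_zero]
    linear_combination (norm := abel) q - y0 - two p0 - two p1
  have q0 := congrFun q' 0
  have q1 := congrFun q' 1
  simp at q0 q1
  have hom : ∀ {ψ : F → k} {κ : Fˣ → k}, (∀ a b, ψ (a + b) = ψ a + ψ b) →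
      (∀ (c : Fˣ) (b : F), ψ (T.θ c * (c : F) ^ 2 * b) = κ c * ψ b) → ψ 1 ≠ 0 →
      ∃ r : F →+* k, ∀ x, x ≠ 0 → ∃ c : Fˣ, T.θ c * c = x ∧ σ c * σ x = σ (T.θ x) ∧
        τ c * τ x = τ (T.θ x) ∧ r (T.θ x) = κ c := fun hadd he h1 => by
    obtain ⟨r, hr⟩ := exists_hom_of_equivariant hT _ hadd _ he h1
    refine ⟨r, fun x hx => ?_⟩
    obtain ⟨c, k1, k2, k3⟩ := exists_torus_param T hx
    exact ⟨c, k1, by rw [← map_mul, k3], by rw [← map_mul, k3], by rw [← k2, hr]⟩
  -- correct the second vector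
  obtain ⟨p, e1', a1', z1', y1', y0'⟩ : ∃ p : V, π p = Ψ ![0, 1, 0, 0] ∧
      (∀ c, ρ (M.h c) p = σ c • p) ∧ (∀ b, ρ (M.u 0 b) p = p) ∧
      ρ (M.u 0 1) (ρ M.w p) = ρ M.w p + p0 ∧ ρ (M.u 0 1) (ρ M.w p0) = ρ M.w p0 + (p0 + p) := by
    by_cases hστ : σ = τ
    · subst hστ
      have c32 : φ1 1 = 0 := by
        by_contra hne
        obtain ⟨r, hr⟩ := hom d2 d4 hne
        have : ∀ x, (r.comp T.θ) x * ((σ.comp T.θ).comp T.θ) x =
            (σ.comp T.θ) x * (σ.comp T.θ) x := fun x => by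
          by_cases hx : x = 0
          · simp [hx]
          obtain ⟨c, -, k2, -, k4⟩ := hr x hx
          simp only [RingHom.comp_apply, T.sq, map_pow]
          rw [k4, ← k2]; ring
        rcases hom_pair this with ⟨-, e⟩ | ⟨-, e⟩ <;> exact theta_ne hT _ e
      have c41 : ψ0 1 = 0 := by linear_combination q0 - c32 - φ0 1 * t2
      have c42 : ψ1 1 = φ0 1 := by linear_combination q1 - c32 - φ0 1 * t2
      refine ⟨p1 + i ![0, φ0 1, 0, 0], ?_, fun c => ?_, fun b => ?_, ?_, ?_⟩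
      · rw [map_add, e1, (h.ker _).2 ⟨_, rfl⟩, add_zero]
      · rw [map_add, a1, h.hi.h, smul_add, ← map_smul]; simp
      · rw [map_add, z1, h.hi.z]; simp [vec_zero]
      · rw [map_add, map_add, h.hi.w, h.hi.z]
        rw [c32] at y1
        simp only [Matrix.cons_val, map_one, one_mul, mul_zero, add_zero]
        linear_combination (norm := abel) y1 + two (i ![φ0 1, 0, 0, 0])
      · rw [c41, c42] at y0
        linear_combination (norm := abel) y0
    · have c31 : φ0 1 = 0 := by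
        by_contra hne
        obtain ⟨r, hr⟩ := hom d1 d3 hne
        have : ∀ x, (r.comp T.θ) x * σ x = (σ.comp T.θ) x * τ x := fun x => by
          by_cases hx : x = 0
          · simp [hx]
          obtain ⟨c, k1, k2, -, k4⟩ := hr x hx
          simp only [RingHom.comp_apply]
          rw [k4, ← k2, k1]; ring
        rcases hom_pair this with ⟨-, e⟩ | ⟨-, e⟩
        · exact hστ e
        · exact theta_ne hT _ e.symm
      have c42 : ψ1 1 = 0 := by
        by_contra hne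
        obtain ⟨r, hr⟩ := hom d6 d8 hne
        have : ∀ x, (r.comp T.θ) x * τ x = σ x * (τ.comp T.θ) x := fun x => by
          by_cases hx : x = 0
          · simp [hx]
          obtain ⟨c, k1, -, k3, k4⟩ := hr x hx
          simp only [RingHom.comp_apply]
          rw [k4, ← k3, k1]; ring
        rcases hom_pair this with ⟨-, e⟩ | ⟨-, e⟩
        · exact theta_ne hT _ e.symm
        · exact hστ e.symm
      have c41 : ψ0 1 = 0 := by
        by_contra hne
        obtain ⟨r, hr⟩ := hom d5 d7 hne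
        refine hστ (hom_eq_of_mul (α := r.comp T.θ) fun x => ?_)
        by_cases hx : x = 0
        · simp [hx]
        obtain ⟨c, k1, -, -, k4⟩ := hr x hx
        rw [RingHom.comp_apply, k4, k1]
      have c32 : φ1 1 = 0 := by linear_combination q1 - c42 - c31
      rw [c31, c32, vec_zero, map_zero, add_zero] at y1
      rw [c41, c42, vec_zero, map_zero, add_zero] at y0
      exact ⟨p1, e1, a1, z1, by rw [← y1]; abel, by rw [← y0]; abel⟩
  have a2' : ∀ c : Fˣ, ρ (M.h c) (ρ M.w p) = (σ c)⁻¹ • ρ M.w p := fun c => by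
    rw [hw, a1', map_smul]; simp
  have ww : ∀ y : V, ρ M.w (ρ M.w y) = y := fun y => by
    rw [← rep_mul, M.w_mul_w, map_one, Module.End.one_apply]
  have zb : ∀ b, ρ (M.u 0 b) (ρ M.w p) = ρ M.w p + σ b • p0 ∧
      ρ (M.u 0 b) (ρ M.w p0) = ρ M.w p0 + (σ (T.θ b) • p0 + σ b • p) := fun b => by
    by_cases hb : b = 0
    · simp [hb]
    obtain ⟨c, rfl⟩ := hT.chi_surj hb
    have := n1 c
    have : σ (T.θ c) ≠ 0 := (_root_.map_ne_zero σ).2 (T.θ_ne_zero c.ne_zero)
    have k1 := h_z (M := M) ρ c 1 (ρ M.w p)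
    have k2 := h_z (M := M) ρ c 1 (ρ M.w p0)
    rw [y1', map_add, a2', a0, map_smul, mul_one] at k1
    rw [y0', map_add, map_add, a3, a0, a1', map_smul, mul_one] at k2
    constructor
    · apply smul_right_injective V (inv_ne_zero (n1 c))
      simp only [← k1, smul_add, smul_smul]
      congr 2
      simp only [map_mul, map_pow]; field_simp
    · apply smul_right_injective V (inv_ne_zero (n0 c))
      simp only [← k2, smul_add, smul_smul]
      congr 3
      · simp only [map_mul, map_pow, T.sq]; field_simp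
      · simp only [map_mul, map_pow]; field_simp
  let j : (Fin 4 → k) →ₗ[k] V := Fintype.linearCombination k ![p0, p, ρ M.w p, ρ M.w p0]
  have jv : ∀ e, j e = e 0 • p0 + e 1 • p + e 2 • ρ M.w p + e 3 • ρ M.w p0 := fun e => by
    simp [j, Fintype.linearCombination_apply, Fin.sum_univ_four]
  refine ⟨j, fun x => ?_, ?_⟩
  · let K : Subgroup G :=
      { carrier := {x | ∀ e, ρ x (j e) = j ((M.ρ x).map σ *ᵥ e)}
        one_mem' := fun e => by simp
        mul_mem' := fun {a b} ha hb e => by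
          rw [rep_mul, hb, ha, map_mul, Matrix.map_mul, mulVec_mulVec]
        inv_mem' := fun {a} ha e => by
          have := ha ((M.ρ a⁻¹).map σ *ᵥ e)
          rw [mulVec_mulVec, ← Matrix.map_mul, ← map_mul, mul_inv_cancel, map_one,
            Matrix.map_one _ (map_zero σ) (map_one σ), one_mulVec] at this
          rw [← this, ← rep_mul, inv_mul_cancel, map_one, Module.End.one_apply] }
    have : K = ⊤ := eq_top_of_ZHw M hT (fun b e => ?_) (fun c e => ?_) fun e => ?_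
    · exact (this ▸ Subgroup.mem_top x : x ∈ K)
    · simp only [jv, map_add, map_smul, z0, z1', zb]
      simp [M.ρ_u, Tits.uM, Tits.f, mulVec, dotProduct, Fin.sum_univ_four]
      module
    · simp only [jv, map_add, map_smul, a0, a1', a2', a3]
      simp [M.ρ_h, Tits.hM, mulVec, dotProduct, Fin.sum_univ_four]
      module
    · simp only [jv, map_add, map_smul, ww]
      simp [M.ρ_w, Tits.wM, mulVec, dotProduct, Fin.sum_univ_four]
      module
  · refine LinearMap.ext fun e => ?_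
    rw [LinearMap.comp_apply, jv]
    simp only [map_add, map_smul, h.comm, e0, e1', h.hΨ.w]
    simp only [← map_smul, ← map_add]
    congr 1
    funext i
    fin_cases i <;> simp

end H47
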