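import Cfsg.Agent.H47.O8M

/-! Stabilisers in `W(D₄) : 3` (blueprint `LOCAL3C.md`, §5). -/

set_option autoImplicit false
set_option maxRecDepth 100000
open H47.MC
open scoped Matrix

namespace H47.O8

def LT : List (Mat × Fin 2 × Fin 2 × Fin 2 × Fin 2 × Fin 3) := [
  (!![1, 0, 0, 0; 0, 1, 0, 0; 0, 0, 1, 0; 0, 0, 0, 1], 0, 0, 0, 0, 0),
  (!![2, 1, 1, 1; 1, 2, 1, 1; 1, 1, 2, 1; 2, 2, 2, 1], 0, 0, 0, 0, 1),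
  (!![2, 1, 1, 2; 1, 2, 1, 2; 1, 1, 2, 2; 1, 1, 1, 1], 0, 0, 0, 0, 2),
  (!![1, 0, 0, 0; 0, 1, 0, 0; 0, 0, 0, 2; 0, 0, 2, 0], 0, 0, 0, 1, 0),
  (!![2, 1, 1, 1; 1, 2, 1, 1; 1, 1, 1, 2; 2, 2, 1, 2], 0, 0, 0, 1, 1),
  (!![2, 1, 1, 2; 1, 2, 1, 2; 2, 2, 2, 2; 2, 2, 1, 1], 0, 0, 0, 1, 2),
  (!![1, 0, 0, 0; 0, 1, 0, 0; 0, 0, 0, 1; 0, 0, 1, 0], 0, 0, 1, 0, 0),
  (!![2, 1, 1, 1; 1, 2, 1, 1; 2, 2, 2, 1; 1, 1, 2, 1], 0, 0, 1, 0, 1),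
  (!![2, 1, 1, 2; 1, 2, 1, 2; 1, 1, 1, 1; 1, 1, 2, 2], 0, 0, 1, 0, 2),
  (!![1, 0, 0, 0; 0, 1, 0, 0; 0, 0, 2, 0; 0, 0, 0, 2], 0, 0, 1, 1, 0),
  (!![2, 1, 1, 1; 1, 2, 1, 1; 2, 2, 1, 2; 1, 1, 1, 2], 0, 0, 1, 1, 1),
  (!![2, 1, 1, 2; 1, 2, 1, 2; 2, 2, 1, 1; 2, 2, 2, 2], 0, 0, 1, 1, 2),
  (!![0, 2, 0, 0; 2, 0, 0, 0; 0, 0, 1, 0; 0, 0, 0, 1], 0, 1, 0, 0, 0),
  (!![2, 1, 2, 2; 1, 2, 2, 2; 1, 1, 2, 1; 2, 2, 2, 1], 0, 1, 0, 0, 1),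
  (!![2, 1, 2, 1; 1, 2, 2, 1; 1, 1, 2, 2; 1, 1, 1, 1], 0, 1, 0, 0, 2),
  (!![0, 2, 0, 0; 2, 0, 0, 0; 0, 0, 0, 2; 0, 0, 2, 0], 0, 1, 0, 1, 0),
  (!![2, 1, 2, 2; 1, 2, 2, 2; 1, 1, 1, 2; 2, 2, 1, 2], 0, 1, 0, 1, 1),
  (!![2, 1, 2, 1; 1, 2, 2, 1; 2, 2, 2, 2; 2, 2, 1, 1], 0, 1, 0, 1, 2),
  (!![0, 2, 0, 0; 2, 0, 0, 0; 0, 0, 0, 1; 0, 0, 1, 0], 0, 1, 1, 0, 0),
  (!![2, 1, 2, 2; 1, 2, 2, 2; 2, 2, 2, 1; 1, 1, 2, 1], 0, 1, 1, 0, 1),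
  (!![2, 1, 2, 1; 1, 2, 2, 1; 1, 1, 1, 1; 1, 1, 2, 2], 0, 1, 1, 0, 2),
  (!![0, 2, 0, 0; 2, 0, 0, 0; 0, 0, 2, 0; 0, 0, 0, 2], 0, 1, 1, 1, 0),
  (!![2, 1, 2, 2; 1, 2, 2, 2; 2, 2, 1, 2; 1, 1, 1, 2], 0, 1, 1, 1, 1),
  (!![2, 1, 2, 1; 1, 2, 2, 1; 2, 2, 1, 1; 2, 2, 2, 2], 0, 1, 1, 1, 2),
  (!![0, 1, 0, 0; 1, 0, 0, 0; 0, 0, 1, 0; 0, 0, 0, 1], 1, 0, 0, 0, 0),
  (!![1, 2, 1, 1; 2, 1, 1, 1; 1, 1, 2, 1; 2, 2, 2, 1], 1, 0, 0, 0, 1),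
  (!![1, 2, 1, 2; 2, 1, 1, 2; 1, 1, 2, 2; 1, 1, 1, 1], 1, 0, 0, 0, 2),
  (!![0, 1, 0, 0; 1, 0, 0, 0; 0, 0, 0, 2; 0, 0, 2, 0], 1, 0, 0, 1, 0),
  (!![1, 2, 1, 1; 2, 1, 1, 1; 1, 1, 1, 2; 2, 2, 1, 2], 1, 0, 0, 1, 1),
  (!![1, 2, 1, 2; 2, 1, 1, 2; 2, 2, 2, 2; 2, 2, 1, 1], 1, 0, 0, 1, 2),
  (!![0, 1, 0, 0; 1, 0, 0, 0; 0, 0, 0, 1; 0, 0, 1, 0], 1, 0, 1, 0, 0),
  (!![1, 2, 1, 1; 2, 1, 1, 1; 2, 2, 2, 1; 1, 1, 2, 1], 1, 0, 1, 0, 1),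
  (!![1, 2, 1, 2; 2, 1, 1, 2; 1, 1, 1, 1; 1, 1, 2, 2], 1, 0, 1, 0, 2),
  (!![0, 1, 0, 0; 1, 0, 0, 0; 0, 0, 2, 0; 0, 0, 0, 2], 1, 0, 1, 1, 0),
  (!![1, 2, 1, 1; 2, 1, 1, 1; 2, 2, 1, 2; 1, 1, 1, 2], 1, 0, 1, 1, 1),
  (!![1, 2, 1, 2; 2, 1, 1, 2; 2, 2, 1, 1; 2, 2, 2, 2], 1, 0, 1, 1, 2),
  (!![2, 0, 0, 0; 0, 2, 0, 0; 0, 0, 1, 0; 0, 0, 0, 1], 1, 1, 0, 0, 0),
  (!![1, 2, 2, 2; 2, 1, 2, 2; 1, 1, 2, 1; 2, 2, 2, 1], 1, 1, 0, 0, 1),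
  (!![1, 2, 2, 1; 2, 1, 2, 1; 1, 1, 2, 2; 1, 1, 1, 1], 1, 1, 0, 0, 2),
  (!![2, 0, 0, 0; 0, 2, 0, 0; 0, 0, 0, 2; 0, 0, 2, 0], 1, 1, 0, 1, 0),
  (!![1, 2, 2, 2; 2, 1, 2, 2; 1, 1, 1, 2; 2, 2, 1, 2], 1, 1, 0, 1, 1),
  (!![1, 2, 2, 1; 2, 1, 2, 1; 2, 2, 2, 2; 2, 2, 1, 1], 1, 1, 0, 1, 2),
  (!![2, 0, 0, 0; 0, 2, 0, 0; 0, 0, 0, 1; 0, 0, 1, 0], 1, 1, 1, 0, 0),
  (!![1, 2, 2, 2; 2, 1, 2, 2; 2, 2, 2, 1; 1, 1, 2, 1], 1, 1, 1, 0, 1),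
  (!![1, 2, 2, 1; 2, 1, 2, 1; 1, 1, 1, 1; 1, 1, 2, 2], 1, 1, 1, 0, 2),
  (!![2, 0, 0, 0; 0, 2, 0, 0; 0, 0, 2, 0; 0, 0, 0, 2], 1, 1, 1, 1, 0),
  (!![1, 2, 2, 2; 2, 1, 2, 2; 2, 2, 1, 2; 1, 1, 1, 2], 1, 1, 1, 1, 1),
  (!![1, 2, 2, 1; 2, 1, 2, 1; 2, 2, 1, 1; 2, 2, 2, 2], 1, 1, 1, 1, 2)]

theorem pow_fin2 (M : Mat) (c : Fin 2) : M ^ c.val = ![1, M] c := by fin_cases c <;> simp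

theorem pow_Q1 : ∀ a : Fin 3, mQ1 ^ a.val =
    ![1, !![2, 1, 1, 1; 1, 2, 1, 1; 1, 1, 2, 1; 2, 2, 2, 1],
      !![2, 1, 1, 2; 1, 2, 1, 2; 1, 1, 2, 2; 1, 1, 1, 1]] a := by decide +kernel

theorem pow_Q2 : ∀ a : Fin 3, mQ2 ^ a.val =
    ![1, mQ2, !![0, 1, 0, 0; 0, 0, 1, 0; 1, 0, 0, 0; 0, 0, 0, 1]] a := by decide +kernel

/-- the `36` elements of the stabiliser of `± z`, in a form for `decide +kernel` -/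
def mZ (a b : Fin 3) (c d : Fin 2) : Mat :=
  mm (mm (![1, !![2, 1, 1, 1; 1, 2, 1, 1; 1, 1, 2, 1; 2, 2, 2, 1],
      !![2, 1, 1, 2; 1, 2, 1, 2; 1, 1, 2, 2; 1, 1, 1, 1]] a)
    (![1, mQ2, !![0, 1, 0, 0; 0, 0, 1, 0; 1, 0, 0, 0; 0, 0, 0, 1]] b))
    (![![1, !![2, 0, 0, 0; 0, 2, 0, 0; 0, 0, 2, 0; 0, 0, 0, 2]],
      ![mT, !![0, 2, 0, 0; 2, 0, 0, 0; 0, 0, 2, 0; 0, 0, 0, 2]]] c d)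

theorem mZ_eq (a b : Fin 3) (c d : Fin 2) :
    mZ a b c d = mQ1 ^ a.val * mQ2 ^ b.val * mT ^ c.val * (-1) ^ d.val := by
  rw [mul_assoc, pow_Q1, pow_Q2, pow_fin2, pow_fin2, mZ, ← mul_eq, ← mul_eq]
  congr 1
  revert c d
  decide +kernel

theorem LT_eq : ∀ p ∈ LT, p.1 = mT ^ p.2.1.val * mR 0 ^ p.2.2.1.val * mR 1 ^ p.2.2.2.1.val *
    mR 2 ^ p.2.2.2.2.1.val * mQ1 ^ p.2.2.2.2.2.val := by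
  simp only [pow_fin2, pow_Q1, mul_eq]
  decide +kernel

/-- the stabiliser of `± z` (`mZ_eq`) -/
theorem stabZ {M : Mat} (h : Iso M) (h1 : Rot M) (h2 : M *ᵥ vz = vz ∨ M *ᵥ vz = -vz) :
    ∃ a b c d, M = mZ a b c d := by
  have h3 := h1.rot'
  simp only [Rot', mulVec_eq] at h2 h3
  exact forall_iso (P := fun M => act M vz = vz ∨ act M vz = -vz →
    fr (act M ![1, 1, 1, 1]) = 1 + fr (act M e0) → ∃ a b c d, M = mZ a b c d) (by decide +kernel)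
    M h h2 h3

theorem comm_T {M : Mat} (h : Iso M) (h2 : M * mT = mT * M) : M *ᵥ vu = vu ∨ M *ᵥ vu = -vu :=
  (by decide +kernel : ∀ x : V, mT *ᵥ x = -x → nrm x = nrm vu → x = vu ∨ x = -vu) _ (by
    rw [Matrix.mulVec_mulVec, ← h2, ← Matrix.mulVec_mulVec,
      show mT *ᵥ vu = -vu by decide +kernel, Matrix.mulVec_neg]) (h.nrm _)

/-- the centraliser of `t` (48 matrices, `LT_eq`) -/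
theorem stabT {M : Mat} (h : Iso M) (h1 : Rot M) (h2 : M *ᵥ vu = vu ∨ M *ᵥ vu = -vu) :
    ∃ p ∈ LT, M = p.1 := by
  have h3 := h1.rot'
  simp only [Rot', mulVec_eq] at h2 h3
  exact forall_iso (P := fun M => act M vu = vu ∨ act M vu = -vu →
    fr (act M ![1, 1, 1, 1]) = 1 + fr (act M e0) → ∃ p ∈ LT, M = p.1) (by decide +kernel) M h h2 h3

end H47.O8
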