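import Cfsg.Agent.H47.O8K

/-! `JobA4` of `H47.O8Sp` (blueprint `LOCAL3C.md`, §5.5). -/

set_option autoImplicit false
set_option maxRecDepth 100000
set_option synthInstance.maxSize 2048
open Cfsg Subgroup H14 H98 H56.L3 H42.L3 H47.MC H42.MC H26.MC
open scoped Matrix commutatorElement

namespace H47.O8

universe u

variable {G : Type*} [Group G] {d : Dat0 G} {g ι : G} {M : Mat} {x : V}

theorem Base.dot_of_Q (h : Base d) (hx : d.v x ∈ d.Q) : dot x vz = 0 := by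
  obtain ⟨α, β, y, hy, e⟩ := (h.memQ _).1 hx
  have h1 := acts_unique h.co (acts_J h.co (v_mem h.co x)) (e ▸ acts_mul (acts_mul
    (acts_pow h.a1 α) (acts_pow h.a2 β)) (acts_J h.co (v_mem h.co y)))
  obtain ⟨rfl, rfl⟩ := (by simp only [pow_Q1, pow_Q2, mul_eq]; decide +kernel :
    ∀ α β : Fin 3, 1 = mQ1 ^ α.val * mQ2 ^ β.val * 1 → α = 0 ∧ β = 0) α β h1
  rw [h.inj (by simpa using e : d.v x = d.v y), hy]

variable [Finite G]

theorem NZ2.exists_w (h : NZ2 d) (hι : Acts d.v ι (-1)) (hg : Acts d.v g M) :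
    ∃ w, g * ι * g⁻¹ = d.v w * ι ∧ Acts d.v (d.v w * g) M ∧ d.v w * g * ι = ι * (d.v w * g) := by
  obtain ⟨w, e⟩ := exists_eq_mul h.co h.cJ (g := g * ι * g⁻¹) (by
    simpa [(h.iso hg).mul_tr] using acts_mul (acts_mul hg hι) (h.inv hg)) hι
  refine ⟨w, e, by simpa using acts_mul (acts_J h.co (v_mem h.co w)) hg, ?_⟩
  rw [mul_assoc, mul_inv_eq_iff_eq_mul.1 e, ← mul_assoc, ← mul_assoc, ← mul_assoc,
    acts_comm hι, ← h.add]
  congr 3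
  exact (by decide +kernel : ∀ w : V, w + w = (-1 : Mat) *ᵥ w) w

theorem NZ2.exO (h : NZ2 d) (hM : Iso M) : (∃ g, Acts d.v g M) ∨ ∃ g, Acts d.v g (M * mC) := by
  obtain ⟨n, N, h1, h2, h3⟩ := h.orb (x := M *ᵥ vz) (fun e => absurd (hM.dot vz vb) (by
    rw [e]; simp only [dot, Pi.zero_apply, zero_mul]; decide)) ((hM.nrm _).trans (by decide))
  have key : ∀ P, Iso P → Rot (Nᵀ * P) → P *ᵥ vz = M *ᵥ vz → ∃ g, Acts d.v g P := fun P a b c => by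
    have h4 : (Nᵀ * P) *ᵥ vz = vz := by
      rw [← Matrix.mulVec_mulVec, c, ← h3, Matrix.mulVec_mulVec, h2, Matrix.one_mulVec]
    obtain ⟨α, β, e, f, h5⟩ := stabZ (h2.tr.mul a) b (.inl h4)
    obtain rfl := (by simp only [mulVec_eq]; decide +kernel : ∀ α β e f,
      mZ α β e f *ᵥ vz = vz → f = 0) α β e f (h5 ▸ h4)
    refine ⟨n * (d.q1 ^ α.val * d.q2 ^ β.val * d.t ^ e.val), ?_⟩
    convert acts_mul h1 (acts_mul (acts_mul (acts_pow h.a1 α) (acts_pow h.a2 β))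
      (acts_pow h.aT e)) using 1
    rw [← mul_one (_ * mT ^ _), ← pow_zero (-1 : Mat)]
    exact (by rw [← mul_assoc, h2.mul_tr, one_mul] : P = N * (Nᵀ * P)).trans
      (by rw [h5, mZ_eq]; rfl)
  exact (h2.tr.mul hM).rot_or.imp (fun e => key M hM e rfl) fun e => key _ (hM.mul iso_C)
    (mul_assoc _ M _ ▸ e) (by rw [← Matrix.mulVec_mulVec]; congr 1; decide +kernel)

theorem NZ2.exRot (h : NZ2 d) (hM : Iso M) (hr : Rot M) : ∃ g, Acts d.v g M := by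
  refine rot_ind (P := fun M => ∃ g, Acts d.v g M) (fun _ _ ⟨_, a⟩ ⟨_, b⟩ => ⟨_, acts_mul a b⟩)
    ⟨_, h.a1⟩ ⟨_, h.a2⟩ ⟨_, h.aT⟩ (fun k => ?_) M hM hr
  obtain ⟨H, -, h1, h2, h3⟩ := (by decide +kernel : ∀ k, ∃ H ∈ [(!![1, 0, 0, 0; 0, -1, 0, 0; 0, 0, 1, 0;
    0, 0, 0, 1] : Mat), !![0, 0, 1, 0; 0, 0, 0, 1; -1, 0, 0, 0; 0, -1, 0, 0],
    !![0, 0, 1, 0; 0, 0, 0, 1; -1, 0, 0, 0; 0, 1, 0, 0]], Iso H ∧ H * mT * Hᵀ = mR k ∧
      H * mC * mT * (H * mC)ᵀ = mR k) k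
  rcases h.exO h1 with ⟨g, hg⟩ | ⟨g, hg⟩
  exacts [⟨_, h2 ▸ acts_mul (acts_mul hg h.aT) (h.inv hg)⟩,
    ⟨_, h3 ▸ acts_mul (acts_mul hg h.aT) (h.inv hg)⟩]

theorem jobA4 : JobA4.{u} := fun G _ _ d h => by
  have sq : ∀ ι, Acts d.v ι (-1) → ι * ι = 1 := fun ι hι => by
    obtain ⟨x, hx⟩ := (h.mem _).1 (h.mem_J (by simpa using acts_mul hι hι))
    have h5 := hι x
    rw [hx, mul_inv_eq_iff_eq_mul, ← mul_assoc, mul_left_inj, ← hx, h.inj.eq_iff] at h5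
    rw [← hx, v_eq_one h.co]
    exact (by decide +kernel : ∀ x : V, x = (-1 : Mat) *ᵥ x → x = 0) x h5
  obtain ⟨ι, hι, ht⟩ : ∃ ι, Acts d.v ι (-1) ∧ d.t * ι = ι * d.t := by
    obtain ⟨ι, hι⟩ := h.exRot (M := -1) (by decide +kernel)
      (Iso.rot (by decide +kernel) (by decide +kernel))
    obtain ⟨w, e, -⟩ := h.exists_w hι h.aT
    have h1 : mT *ᵥ w + w = 0 := by
      have : d.t * (d.t * ι * d.t⁻¹) * d.t⁻¹ = ι := by
        calc _ = d.t * d.t * ι * (d.t * d.t)⁻¹ := by group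
          _ = _ := by simp [h.tt]
      rwa [e, ← conj_mul, e, h.aT, ← mul_assoc, ← h.add, mul_eq_right, v_eq_one h.co] at this
    refine ⟨d.v (-w) * ι, by simpa using acts_mul (acts_J h.co (v_mem h.co (-w))) hι, ?_⟩
    rw [← mul_inv_eq_iff_eq_mul, ← conj_mul, e, h.aT, ← mul_assoc, ← h.add]
    congr 2
    exact (by decide +kernel : ∀ w : V, mT *ᵥ w + w = 0 → mT *ᵥ (-w) + w = -w) w h1
  have hQ : ι ∈ Nr d.Q := h.nQ (mem_Nz.2 (by
    rw [hι, show (-1 : Mat) *ᵥ vz = -vz by decide +kernel, v_neg h.co]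
    exact inv_mem (mem_zpowers _)))
  have key : ∀ q ∈ d.Q, ∀ M, Acts d.v q M → ∃ q' ∈ d.Q, Acts d.v q' M ∧ q' * ι = ι * q' :=
    fun q hq M hM => by
      obtain ⟨w, e, h1, h2⟩ := h.exists_w hι hM
      refine ⟨_, mul_mem ?_ hq, h1, h2⟩
      rw [← mul_inv_eq_iff_eq_mul.2 e]
      simpa [mul_assoc] using mul_mem hq (conj_mem_of_mem_normalizer hQ (inv_mem hq))
  obtain ⟨q1, m1, a1, c1⟩ := key _ h.q1_Q _ h.a1
  obtain ⟨q2, m2, a2, c2⟩ := key _ h.q2_Q _ h.a2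
  have ex : ∀ M, Iso M → Rot M → ∃ k, Acts d.v k M ∧ k * ι = ι * k := fun M a b => by
    obtain ⟨g, hg⟩ := h.exRot a b
    obtain ⟨w, -, h1⟩ := h.exists_w hι hg
    exact ⟨_, h1⟩
  choose τ hτ using fun k => ex (mR k) (by revert k; decide +kernel)
    (Iso.rot (by revert k; decide +kernel) (by revert k; decide +kernel))
  refine ⟨{ d with q1 := q1, q2 := q2, ι := ι, τ := τ }, { h with
    a1 := a1, a2 := a2, memQ := fun g => ⟨fun hg => ?_, ?_⟩, aι := hι, ιι := sq ι hι,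
    ht := ⟨h.aT, ht⟩, h1 := ⟨a1, c1⟩, h2 := ⟨a2, c2⟩, hτ := hτ, exR := ex }⟩
  · obtain ⟨α, β, x, -, e⟩ := (h.memQ g).1 hg
    have h1 := acts_mul (acts_pow a1 α) (acts_pow a2 β)
    obtain ⟨y, e'⟩ := (h.mem _).1 (h.mem_J (g := (q1 ^ α.val * q2 ^ β.val)⁻¹ * g) (by
      have := acts_mul (h.inv h1) (acts_mul (acts_mul
        (acts_pow h.a1 α) (acts_pow h.a2 β)) (acts_J h.co (v_mem h.co x)))
      rwa [mul_one, show _ᵀ * _ = 1 from h.iso h1, ← e] at this))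
    exact ⟨α, β, y, h.dot_of_Q (e' ▸ mul_mem (inv_mem (mul_mem (pow_mem m1 _) (pow_mem m2 _))) hg),
      by rw [e', mul_inv_cancel_left]⟩
  · rintro ⟨α, β, x, hx, rfl⟩
    exact mul_mem (mul_mem (pow_mem m1 _) (pow_mem m2 _)) (h.v_Q hx)

end H47.O8
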