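import Cfsg.Agent.H47.O8Cm
import Cfsg.Agent.H47.O8A4
import Cfsg.Agent.H5.BA3

/-! `JobXQ` and `JobT3` of `H47.O8Sp` (blueprint `LOCAL3C.md`, §5.7). -/

set_option autoImplicit false
set_option maxRecDepth 100000
open Cfsg Subgroup H14 H98 H56.L3 H42.L3 H47.MC H42.MC H26.MC
open scoped Matrix commutatorElement

namespace H47.O8

universe u

variable {G : Type u} [Group G]

/-- the matrix of `q₁ ^ a * q₂ ^ b` -/
def mA (a b : Fin 3) : Mat := mm (![1, !![2, 1, 1, 1; 1, 2, 1, 1; 1, 1, 2, 1; 2, 2, 2, 1],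
    !![2, 1, 1, 2; 1, 2, 1, 2; 1, 1, 2, 2; 1, 1, 1, 1]] a)
  (![1, mQ2, !![0, 1, 0, 0; 0, 0, 1, 0; 1, 0, 0, 0; 0, 0, 0, 1]] b)

/-- `q₁ ^ a * q₂ ^ b` -/
def Dat.qa (d : Dat G) (a b : Fin 3) : G := d.q1 ^ a.val * d.q2 ^ b.val

theorem qa_left (d : Dat G) (b : Fin 3) : d.qa 0 b = d.q2 ^ b.val := by simp [Dat.qa]

theorem qa_right (d : Dat G) (a : Fin 3) : d.qa a 0 = d.q1 ^ a.val := by simp [Dat.qa]

theorem qa_zero (d : Dat G) : d.qa 0 0 = 1 := by simp [Dat.qa]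

def LH : List Mat := [!![0, 0, 0, 2; 0, 0, 1, 0; 0, 2, 0, 0; 1, 0, 0, 0],
  !![0, 0, 2, 0; 0, 0, 0, 2; 1, 0, 0, 0; 0, 1, 0, 0], !![0, 0, 0, 1; 0, 2, 0, 0; 1, 0, 0, 0; 0, 0, 2, 0],
  !![0, 0, 0, 2; 0, 0, 2, 0; 0, 1, 0, 0; 1, 0, 0, 0], !![0, 0, 2, 0; 0, 0, 0, 1; 1, 0, 0, 0; 0, 2, 0, 0],
  !![0, 0, 0, 2; 0, 2, 0, 0; 1, 0, 0, 0; 0, 0, 1, 0], 1]

theorem mem_Ce_of_three [Finite G] {g x : G} (hx : x ^ 3 = 1) {k : ℕ} (h3 : g ^ 3 ^ k = 1)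
    (hg : g ∈ Nz x) : g ∈ Ce x := by
  rcases H52.L3.mem_zp3 hx (mem_Nz.1 hg) with e | e
  · rw [mul_inv_eq_one, mul_eq_left] at e
    exact mem_Ce.2 (by simp [e])
  · exact mem_of_sq h3 (sq_fix e)

namespace Loc

variable {d : Dat G} (h : Loc d) {a b g k m : G} {M N : Mat} {x y : V}
include h

theorem hA (α β : Fin 3) : Hat d (d.qa α β) (mA α β) :=
  ((h.h1.pow α).mul (h.h2.pow β)).cast (by rw [pow_Q1, pow_Q2, mul_eq, mA])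

theorem qa_Q (α β : Fin 3) : d.qa α β ∈ d.Q := mul_mem (pow_mem h.q1_Q _) (pow_mem h.q2_Q _)

theorem acts_v (ha : Acts d.v a M) (x : V) : Acts d.v (d.v x * a) M := by
  simpa using acts_mul (acts_J h.co (v_mem h.co x)) ha

theorem comm_iff (ha : Hat d a M) (hb : Hat d b N) (e : a * b = b * a) :
    d.v x * a ∈ Ce (d.v y * b) ↔ x + M *ᵥ y = y + N *ᵥ x := by
  rw [mem_Ce, vmul h.co ha.1, vmul h.co hb.1, e, mul_left_inj, h.inj.eq_iff]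

theorem cube (ha : Acts d.v a M) :
    (d.v x * a) ^ 3 = d.v (x + M *ᵥ (x + M *ᵥ x)) * a ^ 3 := by
  rw [pow_three, vmul h.co ha, vmul h.co ha, pow_three]

theorem qa_comm (α β γ δ : Fin 3) : d.qa α β * d.qa γ δ = d.qa γ δ * d.qa α β :=
  have c : Commute d.q1 d.q2 := h.qq
  (((Commute.refl _).pow_pow _ _).mul_right (c.pow_pow _ _)).mul_left
    ((c.symm.pow_pow _ _).mul_right ((Commute.refl _).pow_pow _ _))

theorem mem_Q' : g ∈ d.Q ↔ ∃ α β x, dot x vz = 0 ∧ g = d.v x * d.qa α β := by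
  refine ⟨fun hg => ?_, fun ⟨α, β, x, hx, e⟩ => e ▸ mul_mem (h.v_Q hx) (h.qa_Q α β)⟩
  obtain ⟨α, β, x, -, e⟩ := (h.memQ g).1 hg
  replace e := e.trans (acts_comm (h.hA α β).1 x)
  exact ⟨α, β, _, h.dot_of_Q ((Subgroup.mul_mem_cancel_right _ (h.qa_Q α β)).1 (e ▸ hg)), e⟩

theorem qa_y (α β : Fin 3) : d.v x * d.qa α β ∈ Ce (d.v vy) ↔ α = 0 := by
  rw [acts_mem_Ce h.co (h.acts_v (h.hA α β).1 x)]
  revert α β
  decide +kernel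

variable [Finite G]

theorem mem_S' : g ∈ d.J ⊔ d.Q ↔ ∃ α β x, g = d.v x * d.qa α β := by
  refine ⟨fun hg => ?_, fun ⟨α, β, x, e⟩ => e ▸ mul_mem_sup (v_mem h.co x) (h.qa_Q α β)⟩
  obtain ⟨α, β, x, e⟩ := h.mem_S.1 hg
  exact ⟨α, β, _, e.trans (acts_comm (h.hA α β).1 x)⟩

theorem Q_comm (ha : a ∈ d.Q) (hb : b ∈ d.Q) : a ∈ fixm d.z b := by
  have hz : d.Q ≤ Ce d.z := le_sup_right.trans h.S_z
  have k1 : ∀ α β x, dot x vz = 0 → d.qa α β ∈ fixm d.z (d.v x) := fun α β x hx =>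
    ⟨hz (h.qa_Q α β), by
      obtain ⟨c, e⟩ := (by simp only [mulVec_eq]; decide +kernel : ∀ α β x, dot x vz = 0 →
        ∃ c : ZMod 3, mA α β *ᵥ x - x = c • vz) α β x hx
      rw [(h.hA α β).1, ← v_sub h.co, e]
      exact smul_mem_zp h.co _ _⟩
  obtain ⟨α, β, x, hx, rfl⟩ := h.mem_Q'.1 ha
  obtain ⟨γ, δ, y, hy, rfl⟩ := h.mem_Q'.1 hb
  refine mul_mem (fixm_symm (hz (h.v_Q hx)) (mul_mem ⟨hz (h.v_Q hy), ?_⟩ (k1 _ _ _ hx)))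
    (fixm_symm (hz (h.qa_Q α β)) (mul_mem (fixm_symm (hz (h.v_Q hy)) (k1 _ _ _ hy))
      ⟨hz (h.qa_Q _ _), ?_⟩))
  · rw [v_comm h.co]; simp
  · rw [h.qa_comm]; simp

theorem nz_of (hg : g ∈ d.Q) (hy : g ∉ Ce (d.v vy)) (hm : H98.cj m (d.Q ⊓ Ce g) ≤ d.Q) :
    m ∈ Nz d.z := by
  obtain ⟨α, β, x, hx, rfl⟩ := h.mem_Q'.1 hg
  obtain ⟨s, s', h1, h2⟩ := (by simp only [mulVec_eq]; decide +kernel : ∀ α β x, α ≠ 0 →
    dot x vz = 0 → ∃ s s' : ZMod 3, vu + s • vy + mA 0 0 *ᵥ x = x + mA α β *ᵥ (vu + s • vy) ∧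
      s' • vy + mA 0 1 *ᵥ x = x + mA α β *ᵥ (s' • vy)) α β x (mt (h.qa_y α β).2 hy) hx
  have a1 : d.v (vu + s • vy) * d.qa 0 0 ∈ d.Q ⊓ Ce (d.v x * d.qa α β) :=
    ⟨h.mem_Q'.2 ⟨_, _, _, (by decide : ∀ s : ZMod 3, dot (vu + s • vy) vz = 0) s, rfl⟩,
      (h.comm_iff (h.hA _ _) (h.hA _ _) (h.qa_comm _ _ _ _)).2 h1⟩
  have a2 : d.v (s' • vy) * d.qa 0 1 ∈ d.Q ⊓ Ce (d.v x * d.qa α β) :=
    ⟨h.mem_Q'.2 ⟨_, _, _, (by decide : ∀ s : ZMod 3, dot (s • vy) vz = 0) s', rfl⟩,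
      (h.comm_iff (h.hA _ _) (h.hA _ _) (h.qa_comm _ _ _ _)).2 h2⟩
  have a3 := (h.Q_comm (hm (conj_mem_cj a2)) (hm (conj_mem_cj a1))).2
  rw [qa_zero, mul_one, conj_inv, conj_inv, conj_mul, conj_mul, conj_mul, h.acts_v (h.hA 0 1).1, ← v_sub h.co,
    (by decide +kernel : ∀ s : ZMod 3, mA 0 1 *ᵥ (vu + s • vy) - (vu + s • vy) = -vz), v_neg h.co,
    ← conj_inv, inv_mem_iff] at a3
  exact mem_Nz.2 a3

omit [Finite G] in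
theorem nr_S : Nz d.z ⊓ Nr d.J ≤ Nr (d.J ⊔ d.Q) :=
  le_normalizer_sup inf_le_right (inf_le_left.trans h.nQ)

/-- **sylX** -/
theorem sylX (hg : g ∈ d.Q) (hy : g ∉ Ce (d.v vy)) : IsSyl 3 (d.Q ⊓ Ce g) (Ce g) := by
  have h3 : IsPGroup 3 (d.Q ⊓ Ce g : Subgroup G) := h.Q_three.to_le inf_le_left
  refine isSyl_of_isSyl_normalizer ⟨le_inf inf_le_right le_normalizer, h3, fun P hP h1 h2 =>
    le_antisymm (fun p hp => ⟨?_, (h2 hp).1⟩) h1⟩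
  obtain ⟨n, hn⟩ := isPGroup_iff_forall.1 hP p hp
  have a1 := mem_Ce_of_three (v_cube h.co vz) hn
    (h.nz_of hg hy ((cj_eq_self (h2 hp).2).le.trans inf_le_left))
  obtain ⟨c, hc, a2⟩ := (h.syl.of_le h.S_z le_top).exists_cj_le (isPGroup_zpowers hn)
    (zpowers_le.2 a1)
  obtain ⟨r, hr, a3⟩ := h.frat _ (Ce_le_nr (inv_mem hc))
  have a4 := conj_mem_of_mem_normalizer (h.nr_S ⟨Ce_le_nr (mul_mem (inv_mem (h.R_z hr))
    (inv_mem hc)), a3⟩) (a2 (conj_mem_cj (mem_zpowers p)))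
  rw [show r⁻¹ * c⁻¹ * (c * p * c⁻¹) * (r⁻¹ * c⁻¹)⁻¹ = r⁻¹ * p * r⁻¹⁻¹ by group] at a4
  have a5 := h.R_nrQ (inv_mem hr)
  refine (mem_normalizer_iff.1 a5 p).2 ?_
  obtain ⟨γ, δ, w, e⟩ := h.mem_S'.1 a4
  obtain ⟨α, β, x, hx, e'⟩ := h.mem_Q'.1 (conj_mem_of_mem_normalizer a5 hg)
  have a6 := conj_mem_Ce (h2 hp).1 r⁻¹
  rw [e, e', h.comm_iff (h.hA _ _) (h.hA _ _) (h.qa_comm _ _ _ _)] at a6
  refine h.mem_Q'.2 ⟨_, _, _, (by simp only [mulVec_eq]; decide +kernel : ∀ α β w, α ≠ 0 →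
    (mA α β *ᵥ w) 3 = w 3 → dot w vz = 0) α β w (fun e0 => hy ?_) ?_, e⟩
  · have := mul_mem (mul_mem (h.R_y hr) (e' ▸ (h.qa_y α β).2 e0)) (inv_mem (h.R_y hr))
    simpa [mul_assoc] using this
  · have := congrFun a6 3
    rw [Pi.add_apply, Pi.add_apply, (by simp only [mulVec_eq]; decide +kernel : ∀ γ δ x,
      dot x vz = 0 → (mA γ δ *ᵥ x) 3 = x 3) γ δ x hx, add_comm, add_right_inj] at this
    exact this.symm

theorem xJ (hg : g ∈ d.Q) (hy : g ∉ Ce (d.v vy)) : k * g * k⁻¹ ∉ d.J := fun e => by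
  obtain ⟨c, -, h1⟩ := (h.sylX hg hy).exists_cj_le (isPGroup_cj k⁻¹ (J_three h.co)) (by
    rw [cj_le_iff, inv_inv, cj_Ce]
    exact fun a ha => mem_Ce.2 (J_le_cn h.co e a ha))
  rw [cj_cj] at h1
  have h2 := h1.trans inf_le_left
  rw [cj_eq h.co h.wc h.syl.isPGroup le_sup_left (h2.trans le_sup_right)] at h2
  exact absurd (h.dot_of_Q (h2 (v_mem h.co vb))) (by decide)

theorem I_conj (ha : a ∈ d.Q) (e : d.t * a * d.t⁻¹ = a⁻¹) : ∃ r ∈ d.R, r * a * r⁻¹ ∈ d.J := by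
  by_contra! hn
  have h1 : d.t ∉ Ce a := fun e' => hn 1 (one_mem _) (by
    rw [H52.L3.eq_one_of_inv3 (h.expQ a ha) (e.symm.trans (mem_Ce'.1 e'))]; simp)
  choose β x h2 h3 h4 h5 using fun r : d.R => h.mem_I (h.R_I r.2 ha e).1 (h.R_I r.2 ha e).2
  have := Nat.card_le_card_of_injective (fun r : d.R => (⟨(β r, x r), fun e0 => hn r r.2 (by
      rw [h5, show β r = 0 from e0]; simpa using v_mem h.co _), h3 r, h4 r⟩ :
      {p : Fin 3 × V // p.1 ≠ 0 ∧ dot p.2 vz = 0 ∧ mT *ᵥ p.2 = -(mQ2 ^ p.1.val *ᵥ p.2)}))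
    fun r s e => by
      have e1 : β r = β s := congrArg (·.1.1) e
      have e2 : x r = x s := congrArg (·.1.2) e
      have h6 : (s : G)⁻¹ * r ∈ Ce a := mem_Ce'.2 (by
        calc _ = (s : G)⁻¹ * (r * a * (r : G)⁻¹) * s := by group
          _ = a := by rw [h5, e1, e2, ← h5]; group)
      rcases h.R_sq (mul_mem (inv_mem s.2) r.2) with e | e
      · rcases h.mem_zt.1 e with e | e
        exacts [Subtype.ext (inv_mul_eq_one.1 e).symm, absurd (e ▸ h6) h1]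
      · exact absurd (e ▸ mul_mem h6 h6) h1
  rw [h.card_R, Nat.card_eq_fintype_card] at this
  exact absurd this (by decide +kernel)

theorem qconj {β : Fin 3} (e : (d.v x * d.qa 0 β) ^ 3 = 1) :
    ∃ k : G, k * (d.v x * d.qa 0 β) * k⁻¹ ∈ d.J := by
  rw [h.cube (h.hA 0 β).1, h.expQ _ (h.qa_Q _ _), mul_one, v_eq_one h.co] at e
  obtain rfl | ⟨h1, h2, h3⟩ := (by simp only [mulVec_eq]; decide +kernel : ∀ β x,
    x + mA 0 β *ᵥ (x + mA 0 β *ᵥ x) = 0 → β = 0 ∨ dot x vz = 0 ∧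
      mT *ᵥ (x + mA 0 β *ᵥ x - mT *ᵥ x) = x + mA 0 β *ᵥ x - mT *ᵥ x ∧
      dot (x + mA 0 β *ᵥ x - mT *ᵥ x) vz = 0) β x e
  · exact ⟨1, by simpa [qa_zero] using v_mem h.co x⟩
  have hg := h.mem_Q'.2 ⟨0, β, x, h1, rfl⟩
  have ht : d.t ∈ Nr d.Q := h.R_nrQ h.t_mem
  obtain ⟨r, hr, h4⟩ := h.I_conj (mul_mem hg (conj_mem_of_mem_normalizer ht (inv_mem hg))) (by
    calc _ = d.t * (d.v x * d.qa 0 β) * d.t⁻¹ * (d.t * d.t) * (d.v x * d.qa 0 β)⁻¹ *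
          (d.t * d.t)⁻¹ := by group
      _ = _ := by rw [h.tt]; group)
  have h5 : d.t * (d.qa 0 β)⁻¹ * d.t⁻¹ = d.qa 0 β := by
    rw [qa_left, ← conj_inv, ← conj_pow, h.tq2, inv_pow, inv_inv]
  have h6 : d.v x * d.qa 0 β * (d.v x * d.qa 0 β * (d.t * (d.v x * d.qa 0 β)⁻¹ * d.t⁻¹)) =
      d.v (x + mA 0 β *ᵥ x - mT *ᵥ x) := by
    rw [v_sub h.co, h.add, ← (h.hA 0 β).1, ← h.aT, mul_inv_rev, ← conj_mul, h5]
    calc _ = d.v x * d.qa 0 β * d.v x * (d.qa 0 β)⁻¹ * d.qa 0 β ^ 3 * d.t * (d.v x)⁻¹ * d.t⁻¹ := by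
          rw [pow_three]; group
      _ = _ := by rw [h.expQ _ (h.qa_Q 0 β)]; group
  refine ⟨r, (Subgroup.mul_mem_cancel_right _ h4).1 ?_⟩
  rw [conj_mul, h6, mem_Ce'.1 (h.R_v h2 h3 hr)]
  exact v_mem h.co _

theorem fq : FQ d where
  xJ α β x h1 h2 _ := h.xJ ((h.memQ _).2 ⟨α, β, x, h2, rfl⟩) (by
    rw [← Dat.qa, acts_comm (h.hA α β).1, h.qa_y]; exact h1)
  qconj β x := by
    rw [← qa_left, acts_comm (h.hA 0 β).1]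
    exact h.qconj

theorem t3 (h1 : One d) : ∃ N : Subgroup G, N.Normal ∧ N.index = 3 := by
  choose M hM using fun g : Nr d.J => exists_acts h.co g.2
  let f : Nr d.J →* Multiplicative (ZMod 3) := MonoidHom.mk' (fun g => .ofAdd (O8.fr (M g *ᵥ e0)))
    fun a b => by
      rw [acts_unique h.co (hM (a * b)) (acts_mul (hM a) (hM b)), ← Matrix.mulVec_mulVec,
        h1 _ _ (hM a) _ (((h.iso (hM b)).nrm _).trans (by decide)), add_comm, ofAdd_add]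
  have f1 : f ⟨d.q1, h.q1_B.1⟩ = .ofAdd 1 := by
    change Multiplicative.ofAdd (O8.fr _) = _
    rw [acts_unique h.co (hM _) h.a1]
    decide +kernel
  refine H5.exists_normal_index_prime Nat.prime_three (H := Nr d.J) (M := f.ker.map (Nr d.J).subtype)
    (le_normalizer_map_subtype _) ?_ (fun e => h.syl.not_dvd_relIndex
      (by rw [relIndex_top_right]; exact e.trans (index_dvd_of_le h.S_nr))) h.q1_B.1 ?_ fun k g hg => ?_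
  · rw [relIndex, subgroupOf, comap_map_eq_self_of_injective (subtype_injective _), index_ker,
      MonoidHom.range_eq_top.2 fun y => ?_]
    · simp
    · obtain ⟨n, -, rfl⟩ := (by decide : ∀ y : Multiplicative (ZMod 3), ∃ n < 3, .ofAdd 1 ^ n = y) y
      exact ⟨_ ^ n, by rw [map_pow, f1]⟩
  · rintro ⟨x, hx, e⟩
    rw [show x = ⟨_, h.q1_B.1⟩ from Subtype.ext e, SetLike.mem_coe, MonoidHom.mem_ker, f1] at hx
    exact absurd hx (by decide)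
  rw [pow_eq_pow_mod k h.q1_cube] at hg ⊢
  obtain ⟨κ, hκ⟩ : ∃ κ : Fin 3, d.q1 ^ (k % 3) = d.v 0 * d.qa κ 0 :=
    ⟨⟨_, Nat.mod_lt k three_pos⟩, by simp [v_zero h.co, qa_right]⟩
  by_cases h0 : κ = 0
  · exact ⟨1, one_mem _, by simp [hκ, h0, v_zero h.co, qa_zero]⟩
  have b1 := pow_mem h.q1_Q (k % 3)
  have b2 : d.q1 ^ (k % 3) ∉ Ce (d.v vy) := hκ ▸ mt (h.qa_y _ _).1 h0
  have b3 := h.R_q1
  have b4 : ∀ c : G, (c * d.q1 ^ (k % 3) * c⁻¹) ^ 3 = 1 := fun c => by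
    rw [conj_pow, h.expQ _ b1]; simp
  obtain ⟨n, hn, b5⟩ := (h.syl.of_le h.S_nr le_top).exists_cj_le
    (isPGroup_zpowers (k := 1) (by simpa using b4 g⁻¹)) (zpowers_le.2 hg)
  obtain ⟨α, β, w, e⟩ := h.mem_S'.1 (b5 (conj_mem_cj (mem_zpowers _)))
  rw [show n * (g⁻¹ * d.q1 ^ (k % 3) * g) * n⁻¹ = n * g⁻¹ * d.q1 ^ (k % 3) * (n * g⁻¹)⁻¹ by group] at e
  have b6 := e ▸ b4 (n * g⁻¹)
  have hα : α ≠ 0 := by
    rintro rfl
    obtain ⟨c, hc⟩ := h.qconj b6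
    exact h.xJ (k := c * (n * g⁻¹)) b1 b2 (by rw [← e] at hc; simpa [mul_assoc] using hc)
  rw [h.cube (h.hA _ _).1, h.expQ _ (h.qa_Q _ _), mul_one, v_eq_one h.co] at b6
  obtain ⟨H, hH, c1, c2⟩ := (by simp only [mulVec_eq, mul_eq]; decide +kernel : ∀ α β w, α ≠ 0 →
    w + mA α β *ᵥ (w + mA α β *ᵥ w) = 0 → ∃ H ∈ LH, dot (H *ᵥ w) vz = 0 ∧
      H * mA α β = mA α β * H) α β w hα b6
  obtain ⟨c3, c4⟩ := (by decide +kernel : AllL LH fun H => Iso H ∧ Rot' H) H hH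
  obtain ⟨s, hs⟩ := h.exR H c3 (c3.rot c4)
  have e2 : s * n * g⁻¹ * d.q1 ^ (k % 3) * (s * n * g⁻¹)⁻¹ = d.v (H *ᵥ w) * d.qa α β := by
    rw [← hs.1, ← h.conj hs (h.hA α β) (h.hA α β) c2, conj_mul, ← e]; group
  have c5 := h.mem_Q'.2 ⟨α, β, _, c1, rfl⟩
  have c0 := (h.sylX b1 b2).cj (s * n * g⁻¹)
  rw [cj_Ce, e2] at c0
  obtain ⟨c, hc, c6⟩ := c0.exists_cj_eq (h.sylX c5 (mt (h.qa_y _ _).1 hα))
  rw [cj_cj] at c6
  obtain ⟨r, hr, c7⟩ := h.frat _ (inv_mem (h.nz_of b1 b2 (c6.le.trans inf_le_left)))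
  refine ⟨_, mul_mem (mul_mem c7 (acts_nr h.co hs.1)) hn, ?_⟩
  have c8 := mem_Ce'.1 hc
  rw [← e2] at c8
  have c9 : r * d.q1 ^ (k % 3) * r⁻¹ = d.q1 ^ (k % 3) := by rw [← conj_pow, mem_Ce'.1 (b3 hr)]
  calc _ = (s * n)⁻¹ * (s * n * g⁻¹ * d.q1 ^ (k % 3) * (s * n * g⁻¹)⁻¹) * (s * n) := by group
    _ = _ := by rw [← c8]; nth_rw 1 [← c9]; group

end Loc

theorem jobXQ : JobXQ.{u} := fun _ _ _ _ h _ => h.fq

theorem jobT3 : JobT3.{u} := fun _ _ _ _ h _ => h.t3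

end H47.O8
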