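import Cfsg.Agent.H47.E6V
import Cfsg.Agent.H78.F22K

/-! `JobN2` of `H39.E6Spec` (blueprint `PS3B.md`, E6-N2). -/

set_option autoImplicit false
set_option linter.unusedSectionVars false
set_option maxRecDepth 100000

open Cfsg Subgroup H98 H42.L3 H7.PS H39.F22 H39.E6 H78.F22
open H56.L3 (Ce Nz)
open H28.PS (SL3 Zt)
open scoped Matrix

namespace H47.E6

universe u

variable {G : Type*} [Group G] [Finite G] {D : D3 G} {g k t π : G} {c r x : Fin 3 → G}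
  {ε : ZMod 3} {J : Subgroup G}

section

variable (h : H3 D) (full : Full D) (H : HJ3 D t c r x π k ε J)
include h full H

theorem mvc (hg : g ∈ Nz D.z) : ∃ p ∈ NN h r, ∀ i, ∃ n,
    p * g * c i * (p * g)⁻¹ = zp D.z n * c (sg D g i) := by
  have h1 : ∀ i, g * c i * g⁻¹ ∈ D.Q (sg D g i) := fun i => sg_spec h hg i ▸ conj_mem_cj (H.cQ i)
  have h2 : ∀ i, g * c i * g⁻¹ ∉ zpowers D.z := fun i e => H.cz i (by
    rwa [← cj_eq_self hg, conj_mem_cj_iff] at e)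
  choose A hA e using fun j => H84.PS.sl_tr _ _
    (H84.PS.lne (co h _) (h1 ((sg D g).symm j)) (h2 _)) (H84.PS.lne (co h j) (H.cQ j) (H.cz j))
  obtain ⟨p, hp, e1⟩ := full A hA
  obtain ⟨p', hp', e2⟩ := onN h (jty h H) hp
  refine ⟨p', hp', fun i => ?_⟩
  rw [show p' * g * c i * (p' * g)⁻¹ = p' * (g * c i * g⁻¹) * p'⁻¹ by group]
  refine (co h _).eq_zp ((co h _).conj_mem (BN hp'.1.1 _) (h1 i)) (H.cQ _) ?_
  have := e (sg D g i)
  rw [Equiv.symm_apply_apply] at this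
  rw [(co h _).act _ (BN hp'.1.1 _) _ (h1 i), e2, e1, this]

theorem exπ : ∃ π ∈ Ce D.z, (∀ i, π * r i * π⁻¹ = r (i + 1)) ∧ ∀ i, π * c i * π⁻¹ = c (i + 1) := by
  obtain ⟨p, hp, e⟩ := mvc h full H (CeN H.πz)
  have h1 : ∀ i, p * π * r i * (p * π)⁻¹ = r (i + 1) := fun i => by
    rw [← mem_Ce'.1 (hp.2 (i + 1)), ← H.πr]; group
  refine ⟨p * π, mul_mem (Bz hp.1.1) H.πz, h1, fun i => ?_⟩
  have h2 : sg D π i = i + 1 := by_contra fun n => neg_ne ((H.rm (i + 1)).symm.trans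
    ((H.πr i ▸ (jty h H i).conj h H.πz).one _ (Ne.symm n)))
  obtain ⟨n, e⟩ := e i
  rw [h2] at e
  have h3 : r (i + 1) * (zp D.z n * c (i + 1)) * (r (i + 1))⁻¹ = (zp D.z n * c (i + 1))⁻¹ := by
    rw [← e, ← h1, conj_inv (a := c i), ← H.rcr i]; group
  rw [← conj_mul, H.rcr, zp_conj (Bz (H.rB _)), mul_inv_rev, ← zp_neg h.ord, zp_comm ((co h _).le_Ce (inv_mem (H.cQ _))), mul_left_inj] at h3
  rw [e, (by decide : ∀ n : ZMod 3, n = -n → n = 0) n (zp_inj h.ord h3), zp_zero, one_mul]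

theorem flip (v : HV0 D) (e : ε = -1) : ∃ k', HJ3 D t⁻¹ c r (fun i => (x i)⁻¹) π k' 1 J := by
  subst e
  have ot : orderOf t = 3 := H.hz ▸ (H3.dc h k).ord
  obtain ⟨s, -, hs⟩ := zreal h v H
  have h0 : s ∈ Nz D.z := mem_Nz.2 (hs ▸ inv_mem (mem_zpowers _))
  obtain ⟨p, hp, e⟩ := mvc h full H h0
  have h1 : p * s * D.z * (p * s)⁻¹ = D.z⁻¹ := by
    rw [show p * s * D.z * (p * s)⁻¹ = p * (s * D.z * s⁻¹) * p⁻¹ by group, hs, ← conj_inv,
      mem_Ce'.1 (Bz hp.1.1)]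
  have h2 : p * s ∈ nr J := H.Jeq ▸ nrJ (h1 ▸ inv_mem z_cnJ) fun i =>
    let ⟨n, e⟩ := e i; e ▸ mul_mem (zp_mem' z_cnJ n) (c_cnJ _)
  have h3 : ∀ a b α, el D.z t⁻¹ c a b α = el D.z t c (-a) b α := fun a b α => by
    rw [el_eq, el_eq, zp_neg ot, zp, inv_pow]; rfl
  have h4 := fun i α => xel (α := α) h (jtf h H) (H.xQ i) (H.xt i) (H.xc i)
  have h5 : ∀ i a b, el D.z t c a b (Pi.single i 1) = zp t a * c i * zp D.z b := fun i a b => by
    rw [el_eq, cc_single, mul_assoc, mul_assoc, zp_comm ((co h i).le_Ce (H.cQ i))]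
  refine ⟨k * (p * s), { H with
    eps := .inl rfl, tB := inv_mem H.tB, t3 := by rw [inv_pow, H.t3, inv_one]
    tm := fun i => by rw [m_inv h H.tB, inv_pow]; exact mt inv_eq_one.1 (H.tm i)
    tc := fun i => (show Commute _ _ from H.tc i).inv_left
    tr := fun i => (show Commute _ _ from H.tr i).inv_left
    xQ := fun i => inv_mem (H.xQ i), xt := fun i => ?_, xc := fun i => ?_, memJ := fun g => ?_
    el_inj := fun a b α e => ?_, zset := fun a b α => ?_, hJ := mul_mem H.hJ h2, hz := ?_, At := ?_ }⟩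
  · have := h4 i (Pi.single i 1) (-1) (-1)
    rw [h5, zp_neg ot, zp_one, Pi.single_eq_same, neg_smul, one_smul, add_neg_cancel,
      show (-1 - -1 * -1 + -1 * 1 : ZMod 3) = 0 by decide, el_eq, zp_neg ot, zp_one, zp_zero, cc_zero,
      mul_one, mul_one] at this
    conv_lhs => rw [← this]
    simp only [zp]; group
  · have := h4 i (Pi.single i 1) 0 1
    rw [h5, Pi.single_eq_same, zero_smul, add_zero, show (1 - -1 * 0 + -1 * 1 : ZMod 3) = 0 by decide,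
      h5, zp_zero, zp_zero, one_mul, mul_one] at this
    conv_lhs => rw [← this]
    simp only [zp]; group
  · rw [H.memJ]
    exact ⟨fun ⟨a, b, α, e⟩ => ⟨-a, b, α, by rw [h3, neg_neg, e]⟩, fun ⟨a, b, α, e⟩ => ⟨_, b, α, h3 a b α ▸ e⟩⟩
  · simpa using H.el_inj _ _ _ ((h3 a b α).symm.trans e)
  · rw [h3, H.zset]; simp
  · rw [← H.hz, conj_inv, ← h1]; group
  · rw [← cj_cj, cj_eq_self (NQ h (mul_mem (CeN (Bz hp.1.1)) h0)), H.At]
    exact le_antisymm ((closure_le _).2 (Set.insert_subset (inv_mem_iff.1 (subset_closure (by simp)))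
      fun _ e => subset_closure (.inr e))) ((closure_le _).2 (Set.insert_subset
      (inv_mem (subset_closure (by simp))) fun _ e => subset_closure (.inr e)))

end

variable {E : Dat G} {f f' : V5 → V5} {a a' : G} {u v : V5} {i j : Fin 3}

theorem act_mul (ha : E.Act a f) (ha' : E.Act a' f') : E.Act (a * a') (fun v => f (f' v)) := fun v => by
  rw [← ha, ← ha']; group

/-- `f` is induced by an element of `N(J)` -/
def Re (E : Dat G) (f : V5 → V5) : Prop := ∃ g ∈ nr E.J, E.Act g f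

theorem Re.mul (a : Re E f) (b : Re E f') : Re E fun v => f (f' v) :=
  let ⟨_, a1, a2⟩ := a; let ⟨_, b1, b2⟩ := b; ⟨_, mul_mem a1 b1, act_mul a2 b2⟩

theorem Re.one : Re E fun v => v := ⟨1, one_mem _, fun v => by simp⟩

section

variable (h : H3 E.D) (H : HJ3 E.D E.t E.c E.r E.x E.π E.h 1 E.J)
include h H

theorem φ_add (u v : V5) : E.φ (u + v) = E.φ u * E.φ v := by
  rw [Dat.φ, Dat.φ, Dat.φ, ← el_add h (jtf h H)]
  congr 1
  ext i; fin_cases i <;> rfl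

omit h H in
theorem φ_zero : E.φ 0 = 1 := by
  rw [← el_zero (D := E.D) (t := E.t) (c := E.c), Dat.φ]
  congr 1
  ext i; fin_cases i <;> rfl

theorem φ_neg (v : V5) : E.φ (-v) = (E.φ v)⁻¹ := by
  rw [eq_inv_iff_mul_eq_one, ← φ_add h H, neg_add_cancel, φ_zero]

omit h in
theorem φ_one (e : E.φ v = 1) : v = 0 := by
  obtain ⟨h1, h2, h3⟩ := H.el_inj _ _ _ e
  ext i; fin_cases i
  exacts [h1, h2, congrFun h3 0, congrFun h3 1, congrFun h3 2]

theorem φ_inj (e : E.φ u = E.φ v) : u = v := sub_eq_zero.1 (φ_one H (by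
  rw [sub_eq_add_neg, φ_add h H, φ_neg h H, e, mul_inv_cancel]))

omit h in
theorem φ_J : g ∈ E.J ↔ ∃ v, E.φ v = g := (H.memJ g).trans
  ⟨fun ⟨a, b, α, e⟩ => ⟨![a, b, α 0, α 1, α 2], e ▸ by
    rw [Dat.φ]; congr 1; ext i; fin_cases i <;> rfl⟩, fun ⟨_, e⟩ => ⟨_, _, _, e.symm⟩⟩

omit h in
theorem φ_Z : Zt E.z (E.φ v) ↔ v ≠ 0 ∧ q5 v = 0 := (H.zset _ _ _).trans (and_congr
  ⟨fun n e => n (e ▸ φ_zero), fun n e => n (φ_one H e)⟩ (Eq.congr_left (by simp [q5]; ring)))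

omit h H in
theorem φ_t : E.φ vt = E.t := by simp [Dat.φ, vt, el, ZMod.val_one]

omit h H in
theorem φ_z : E.φ vz = E.z := by simp [Dat.φ, vz, el, ZMod.val_one]

omit h H in
theorem φ_c (i : Fin 3) : E.φ (vc i) = E.c i := by
  fin_cases i <;> simp [Dat.φ, vc, el, ZMod.val_one]

theorem φ_comm (u v : V5) : E.φ u * E.φ v = E.φ v * E.φ u := by
  rw [← φ_add h H, add_comm, φ_add h H]

theorem act_J (u : V5) : E.Act (E.φ u) fun v => v := fun v => by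
  rw [φ_comm h H, mul_inv_cancel_right]

theorem act_nr (ha : E.Act a f) : a ∈ nr E.J := mem_normalizer_of_cj_le (by
  rintro _ ⟨b, hb, rfl⟩
  obtain ⟨v, rfl⟩ := (φ_J H).1 hb
  exact (φ_J H).2 ⟨_, (ha v).symm⟩)

theorem cnJ : cn E.J ≤ E.J := by
  have : closure {E.z, E.c 0, E.c 1, E.c 2} ≤ E.J := (closure_le _).2 (by
    rintro _ (rfl | rfl | rfl | rfl)
    exacts [(φ_J H).2 ⟨_, φ_z⟩, (φ_J H).2 ⟨_, φ_c 0⟩, (φ_J H).2 ⟨_, φ_c 1⟩, (φ_J H).2 ⟨_, φ_c 2⟩])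
  exact (centralizer_anti this).trans H.Jeq.ge

theorem act_of (hf : ∀ u v, f (u + v) = f u + f v) (ht : a * E.t * a⁻¹ = E.φ (f vt))
    (hz : a * E.z * a⁻¹ = E.φ (f vz)) (hc : ∀ i, a * E.c i * a⁻¹ = E.φ (f (vc i))) : E.Act a f :=
  fun v => ind5 (P := fun v => a * E.φ v * a⁻¹ = E.φ (f v))
    (by rw [show f 0 = 0 from (AddMonoidHom.mk' f hf).map_zero, φ_zero, mul_one, mul_inv_cancel])
    (fun u v a b => by rw [hf, φ_add h H, φ_add h H, ← a, ← b, conj_mul]) (φ_z (E := E) ▸ hz)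
    (fun i => φ_c (E := E) i ▸ hc i) v fun _ => φ_t (E := E) ▸ ht

theorem act_r (i : Fin 3) : E.Act (E.r i) (rf (vc i)) := by
  obtain ⟨h1, h2, h3, h4⟩ := (by decide +kernel : ∀ i, rf (vc i) vt = vt ∧ rf (vc i) vz = vz ∧
    rf (vc i) (vc i) = -vc i ∧ ∀ j, j ≠ i → rf (vc i) (vc j) = vc j) i
  refine act_of h H (rf_add _) (by rw [h1, φ_t, ← H.tr, mul_inv_cancel_right])
    (by rw [h2, φ_z, mem_Ce'.1 (Bz (H.rB i))]) fun j => ?_
  by_cases e : j = i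
  · rw [e, h3, φ_neg h H, φ_c, H.rcr]
  · rw [h4 j e, φ_c, ← H.rc i j e _ (H.cQ j), mul_inv_cancel_right]

theorem act_x (i : Fin 3) : E.Act (E.x i) (sie vz (vc i)) := fun v => by
  rw [Dat.φ, xel h (jtf h H) (H.xQ i) (H.xt i) (H.xc i), sie_z rfl, Dat.φ]
  congr 1
  · fin_cases i <;> simp [vc] <;> ring
  · ext j; fin_cases i <;> fin_cases j <;> simp [vc]

theorem iso (hg : g ∈ nr E.J) :
    ∃ f, E.Act g f ∧ (∀ u v, f (u + v) = f u + f v) ∧ ∀ v, q5 (f v) = q5 v := by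
  choose f hf using fun v => (φ_J H).1 (conj_mem_of_mem_normalizer hg ((φ_J H).2 ⟨v, rfl⟩))
  have h1 : ∀ u v, f (u + v) = f u + f v := fun u v => φ_inj h H (by
    rw [φ_add h H, hf, hf, hf, φ_add h H, conj_mul])
  have h2 : Function.Injective f := fun u v e => φ_inj h H (by
    simpa using (hf u).symm.trans ((congrArg E.φ e).trans (hf v)))
  have h3 : ∀ v, q5 (f v) = 0 ↔ q5 v = 0 := fun v => by
    by_cases e : v = 0
    · rw [e, show f 0 = 0 from (AddMonoidHom.mk' f h1).map_zero]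
    have : Zt E.z (E.φ (f v)) ↔ Zt E.z (E.φ v) := by
      rw [hf]; exact ⟨fun e => by simpa [mul_assoc] using Zt_cj e g⁻¹, fun e => Zt_cj e g⟩
    rwa [φ_Z H, φ_Z H, and_iff_right e, and_iff_right fun e1 => e (φ_one H (by
      simpa [e1, φ_zero] using (hf v).symm))] at this
  refine ⟨f, fun v => (hf v).symm, h1, fun v => ?_⟩
  have h4 : N5 v = N5 (f v) := Finset.card_bijective f (Finite.injective_iff_bijective.1 h2)
    fun s => by simp [← h1, h3]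
  have h5 := h3 v
  rcases N5_eq v with e | ⟨e, e'⟩ | ⟨e, e'⟩ <;> rcases N5_eq (f v) with a | ⟨a, a'⟩ | ⟨a, a'⟩ <;>
    first | exact a.trans e.symm | omega | (rw [a, e] at h5; exact absurd h5 (by decide))

/-- the maps induced by `N(J)` are isometries -/
theorem Re.iso (a : Re E f) : Function.Surjective f ∧ (∀ u v, f (u + v) = f u + f v) ∧
    (∀ (n : ZMod 3) v, f (n • v) = n • f v) ∧ (∀ u v, f (u - v) = f u - f v) ∧
    (∀ v, q5 (f v) = q5 v) ∧ ∀ u v, b5 (f u) (f v) = b5 u v := by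
  obtain ⟨g, hg, a⟩ := a
  obtain ⟨f', a', h1, h2⟩ := E6.iso h H hg
  obtain rfl : f = f' := funext fun v => φ_inj h H ((a v).symm.trans (a' v))
  let F := AddMonoidHom.mk' f h1
  refine ⟨Finite.injective_iff_surjective.1 fun u v e => φ_inj h H (by
    simpa using (a u).trans ((congrArg E.φ e).trans (a v).symm)), h1, fun n v => ?_, F.map_sub, h2,
    fun u v => ?_⟩
  · rw [← ZMod.natCast_zmod_val n, Nat.cast_smul_eq_nsmul, Nat.cast_smul_eq_nsmul]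
    exact F.map_nsmul _ v
  · have := h2 (u + v)
    rwa [h1, q5_add, q5_add, h2, h2, add_right_inj] at this

theorem act_cj {s : V5 → V5} (ha : E.Act a f) (ha' : E.Act a' f') (e : ∀ v, f (f' v) = s (f v)) :
    E.Act (a * a' * a⁻¹) s := fun v => by
  obtain ⟨w, rfl⟩ := (Re.iso h H ⟨_, act_nr h H ha, ha⟩).1 v
  rw [← e, ← ha, ← ha, ← ha']; group

theorem Re.cj {s : V5 → V5} (a : Re E f) (b : Re E f') (e : ∀ v, f (f' v) = s (f v)) : Re E s :=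
  let ⟨_, a1, a2⟩ := a; let ⟨_, b1, b2⟩ := b
  ⟨_, mul_mem (mul_mem a1 b1) (inv_mem a1), act_cj h H a2 b2 e⟩

theorem Re.rf_eq (a : Re E f) (u v : V5) : f (rf u v) = rf (f u) (f v) := by
  obtain ⟨-, -, h1, h2, -, h3⟩ := a.iso h H
  simp only [rf, h1, h2, h3]

theorem re_z (e : u 0 = 0) : Re E (sie vz u) :=
  ind5 (P := fun u => u 0 = 0 ∧ Re E (sie vz u)) ⟨rfl, funext (sie_zero vz) ▸ Re.one⟩
    (fun u v a b => ⟨by simp [a.1, b.1], funext (sie_zz a.1 b.1) ▸ a.2.mul b.2⟩)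
    ⟨rfl, funext sie_self ▸ Re.one⟩ (fun i => ⟨rfl, _, act_nr h H (act_x h H i), act_x h H i⟩) u
    (fun n => absurd e n) |>.2

theorem re_t (e : u 1 = 0) : Re E (sie vt u) := by
  obtain ⟨f, a, -⟩ := iso h H H.hJ
  have b : Re E f := ⟨_, H.hJ, a⟩
  obtain ⟨h0, h1, h2, h3, h4, h5⟩ := b.iso h H
  have h6 : f vz = vt := φ_inj h H (by rw [← a, φ_z, φ_t, H.hz])
  obtain ⟨w, rfl⟩ := h0 u
  refine b.cj h H (re_z h H (u := w) ?_) fun v => by simp only [sie, h1, h2, h3, ← h6, h4, h5]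
  have := (h5 w vz).symm
  rw [h6] at this
  simpa [b5, vt, vz, e] using this

theorem re_rf (e : q5 u = 1) : Re E (rf u) := by
  have h1 : ∀ i, Re E (rf (vc i)) := fun i => ⟨_, act_nr h H (act_r h H i), act_r h H i⟩
  have h2 : ∀ {f u}, Re E f → Re E (rf u) → Re E (rf (f u)) := fun a b => a.cj h H b (a.rf_eq h H _)
  have h3 : ∀ {u}, Re E (rf u) → Re E (rf (-u)) := fun a => (funext (rf_neg _)).symm ▸ a
  have h4 : Re E (rf vw) := (by decide +kernel : sie vt (-vc 0) (sie vz (vc 0) (vc 0)) = vw) ▸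
    h2 (re_t h H (u := -vc 0) rfl) (h2 (re_z h H (u := vc 0) rfl) (h1 0))
  obtain ⟨i, rfl | rfl⟩ | ⟨s, hs, e⟩ := one_cases u e
  exacts [h1 i, h3 (h1 i), by
    have h5 : Re E (rf (s • vw)) := hs.elim (fun e => e.symm ▸ h4) fun e => e.symm ▸ h3 h4
    rcases e with e | e <;> rw [e]
    exacts [h2 (re_z h H (by simp [cp])) h5, h2 (re_t h H (by simp [cp])) h5]]

theorem fixr (ha : E.Act a f) (e : f (vc i) = vc j ∨ f (vc i) = -vc j) :
    ∃ n : ZMod 3, E.φ (n • vc j) * a * E.r i * (E.φ (n • vc j) * a)⁻¹ = E.r j := by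
  have h1 : E.Act (a * E.r i * a⁻¹) (rf (vc j)) := act_cj h H ha (act_r h H i) fun v => by
    rw [Re.rf_eq h H ⟨_, act_nr h H ha, ha⟩]
    rcases e with e | e <;> rw [e]
    rw [rf_neg]
  have ri : ∀ i, (E.r i)⁻¹ = E.r i := fun i => inv_eq_of_mul_eq_one_right (H.rsq i)
  obtain ⟨w, hw⟩ := (φ_J H).1 (cnJ h H (x := a * E.r i * a⁻¹ * (E.r j)⁻¹) fun y hy => by
    obtain ⟨v, rfl⟩ := (φ_J H).1 hy
    obtain ⟨v, rfl⟩ := (Re.iso h H ⟨_, act_nr h H (act_r h H j), act_r h H j⟩).1 v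
    conv_lhs => rw [← h1]
    rw [← act_r h H j]; group)
  have h2 : rf (vc j) w = -w := φ_inj h H (by
    rw [← act_r h H j, φ_neg h H, hw]
    conv_lhs => rw [← ri i, mul_assoc (E.r j), mul_assoc _ _ (E.r j)⁻¹, ← mul_inv_rev, H.rsq]
    group)
  obtain ⟨n, rfl⟩ := (by decide +kernel : ∀ j w, rf (vc j) w = -w → ∃ n : ZMod 3, w = n • vc j) j w h2
  refine ⟨n, ?_⟩
  have h3 : E.φ (n • vc j) * E.φ (n • vc j) * E.φ (n • vc j) = 1 := by
    rw [← φ_add h H, ← φ_add h H, ← add_smul, ← add_smul, (by decide : ∀ n : ZMod 3, n + n + n = 0),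
      zero_smul, φ_zero]
  calc _ = E.φ (n • vc j) * (a * E.r i * a⁻¹ * (E.r j)⁻¹) * (E.r j * E.φ (n • vc j) * (E.r j)⁻¹)⁻¹ *
        E.r j := by group
    _ = _ := by rw [← hw, act_r h H, h2, φ_neg h H, inv_inv, h3, one_mul]

theorem YI (ha : a ∈ nr E.J) (hc : a ∈ Ce (E.c 0)) (hr : a ∈ Ce (E.r 0)) : a ∈ E.Y ⊓ nr E.I :=
  ⟨⟨hc, hr⟩, le_normalizer_inf (H := nr E.J ⊓ Ce (E.r 0)) inf_le_left
    (inf_le_right.trans le_normalizer) ⟨ha, hr⟩⟩

theorem toY (a : Re E f) (e : f (vc 0) = vc 0) : ∃ g ∈ E.Y ⊓ nr E.I, E.Act g f := by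
  obtain ⟨a, -, ha⟩ := a
  obtain ⟨n, hn⟩ := fixr h H ha (.inl e)
  have h1 := act_mul (act_J h H (n • vc 0)) ha
  exact ⟨_, YI h H (act_nr h H h1) (mem_Ce'.2 (by rw [← φ_c, h1]; exact congrArg _ e)) (mem_Ce'.2 hn), h1⟩

theorem re_z1 (e : Z1 u) : Re E (rf u) :=
  e.elim (fun e => e ▸ funext rf_zero ▸ Re.one) (re_rf h H)

theorem nj : NJ E := by
  have hb : E.φ vb = E.b := by simp [Dat.φ, vb, el, ZMod.val_one]
  have h0 : ∀ u : V5, u 2 = 0 → rf u (vc 0) = vc 0 := by decide +kernel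
  refine ⟨φ_add h H, fun _ => φ_one H, fun _ => φ_J H, fun g => ?_, fun _ => φ_Z H, cnJ h H,
    fun _ => iso h H, fun _ => re_rf h H, fun u e e' => toY h H (re_rf h H e) (h0 u e'),
    fun a ha n => ?_, ?_, ?_⟩
  · have h1 : ∀ v, E.φ v ∈ Ce (E.r 0) ↔ v 2 = 0 := fun v => by
      rw [← (by decide +kernel : ∀ v : V5, rf (vc 0) v = v ↔ v 2 = 0)]
      exact ⟨fun e => φ_inj h H ((act_r h H 0 v).symm.trans (mem_Ce'.1 (Ce_symm e))),
        fun e => Ce_symm (mem_Ce'.2 (by rw [act_r h H, e]))⟩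
    exact ⟨fun e => let ⟨v, e1⟩ := (φ_J H).1 e.1; ⟨v, (h1 v).1 (e1 ▸ e.2), e1⟩,
      fun ⟨v, e, e1⟩ => e1 ▸ ⟨(φ_J H).2 ⟨v, rfl⟩, (h1 v).2 e⟩⟩
  · obtain ⟨v, rfl⟩ := (φ_J H).1 ha.1
    obtain ⟨h1, h2, h3, h4⟩ := typ_tab v ((by decide +kernel : ∀ v : V5, rf (vc 0) v = v → v 2 = 0) v
      (φ_inj h H ((act_r h H 0 v).symm.trans (mem_Ce'.1 (Ce_symm ha.2))))) fun e => n (e ▸ φ_zero)
    obtain ⟨g, hg, e⟩ := toY h H ((re_z1 h H h3).mul ((re_z1 h H h2).mul (re_z1 h H h1)))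
      (by rw [h0 _ rfl, h0 _ rfl, h0 _ rfl])
    refine ⟨g, hg, ?_⟩
    rw [e v, ← φ_z, ← φ_c, ← hb]
    simp only [List.mem_cons, List.not_mem_nil, or_false] at h4
    exact h4.imp (congrArg _) (Or.imp (congrArg _) (congrArg _))
  · obtain ⟨g, -, e⟩ := (re_rf h H (u := ![1, 1, 1, 1, 2]) (by decide)).mul
      (re_rf h H (u := vw) (by decide))
    refine ⟨g, mem_Ce'.2 (by rw [← hb, e]; congr 1; decide +kernel), ?_⟩
    rw [← φ_z, e, ← φ_c, ← φ_c, ← φ_c, ← φ_neg h H, ← φ_add h H, ← φ_add h H, ← φ_add h H]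
    congr 1; decide +kernel
  · obtain ⟨g, hg, e⟩ := toY h H ((re_rf h H (u := ![1, 2, 0, 1, 2]) (by decide)).mul
      (re_rf h H (u := ![1, 2, 0, 2, 1]) (by decide))) (by decide +kernel)
    obtain ⟨n, hn⟩ := fixr h H (i := 2) (j := 1) e (by decide +kernel)
    refine ⟨_, mul_mem (YI h H (act_nr h H (act_J h H _)) (mem_Ce.2 (φ_c (E := E) 0 ▸ φ_comm h H _ _))
      (Ce_symm (mem_Ce'.2 ?_))) hg, hn⟩
    rw [act_r h H, (by decide +kernel : ∀ n : ZMod 3, rf (vc 0) (n • vc 1) = n • vc 1)]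

theorem πt (hz : g ∈ Ce E.z) (hc : ∀ i, g * E.c i * g⁻¹ = E.c (i + 1)) : g * E.t = E.t * g := by
  have h1 : g ∈ nr E.J := H.Jeq ▸ nrJ (by rw [mem_Ce'.1 hz]; exact z_cnJ) fun i => hc i ▸ c_cnJ _
  obtain ⟨f, a, -⟩ := iso h H h1
  obtain ⟨-, -, -, -, h2, h3⟩ := Re.iso h H ⟨_, h1, a⟩
  have h4 : f vz = vz := φ_inj h H (by rw [← a, φ_z, mem_Ce'.1 hz])
  have h5 : ∀ i, f (vc i) = vc (i + 1) := fun i => φ_inj h H (by rw [← a, φ_c, φ_c, hc])
  rw [← mul_inv_eq_iff_eq_mul, ← φ_t, a, (by decide +kernel : ∀ w, q5 w = q5 vt →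
    b5 w vz = b5 vt vz → (∀ i, b5 w (vc (i + 1)) = b5 vt (vc i)) → w = vt) _ (h2 vt) (by rw [← h3 vt vz, h4])
    fun i => h5 i ▸ h3 vt (vc i)]

end

theorem jobN2 : JobN2.{u} := fun G _ _ D t c r x π k ε J h full h9 v H => by
  obtain ⟨t, x, k, H⟩ : ∃ t x k, HJ3 D t c r x π k 1 J := H.eps.elim (fun e => ⟨t, x, k, e ▸ H⟩)
    fun e => let ⟨k', H'⟩ := flip h full H v e; ⟨_, _, k', H'⟩
  obtain ⟨π', h1, h2, h3⟩ := exπ h full H
  have H' : HJ3 D t c r x π' k 1 J := { H with πz := h1, πr := h2 }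
  exact ⟨⟨D, t, c, r, x, π', k, J⟩, rfl, ⟨h, full, h9, v, H',
    πt (E := ⟨D, t, c, r, x, π', k, J⟩) h H' h1 h3, h3⟩, nj (E := ⟨D, t, c, r, x, π', k, J⟩) h H'⟩

end H47.E6
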