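import Cfsg.Agent.H47.CA1
import Cfsg.Agent.H34.BS
import Cfsg.Agent.H24.WalZ
import Cfsg.Agent.H89.SylowIn
import Cfsg.Agent.H8.TransferEval
import Cfsg.Agent.H61.Dihedral

/-! Nonsolvable groups all of whose proper subgroups are CA-groups: the solvable radical is
central (odd primes), the socle of the central quotient. -/

set_option autoImplicit false
set_option linter.unusedSectionVars false

namespace H47.CA

open Cfsg Subgroup H98
open scoped commutatorElement

universe u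

variable {G : Type u} [Group G] [Finite G]

section Odd

variable {A : Subgroup G} {p : ℕ} [hp : Fact p.Prime]

omit [Finite G] in
theorem eq_one_of_sq (hA : IsPGroup p A) (h2 : p ≠ 2) {c : G} (hc : c ∈ A) (h : c * c = 1) :
    c = 1 := by
  obtain ⟨k, hk⟩ := isPGroup_iff_forall.1 hA c hc
  exact orderOf_eq_one_iff.1 (Nat.eq_one_of_dvd_coprimes
    (((Nat.coprime_primes hp.out Nat.prime_two).2 h2).pow_left k) (orderOf_dvd_of_pow_eq_one hk)
    (orderOf_dvd_of_pow_eq_one (sq c ▸ h)))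

omit [Finite G] in
theorem conj_inv_of_sq {a t : G} (h : Commute a (t * t)) :
    t * (a⁻¹ * (t * a * t⁻¹)) * t⁻¹ = (a⁻¹ * (t * a * t⁻¹))⁻¹ := by
  calc _ = t * a⁻¹ * t⁻¹ * ((t * t) * a * (t * t)⁻¹) := by group
    _ = _ := by rw [← h.eq]; group

theorem Hyp.odd_inv (h : Hyp G) (m : MinNC A) (hA : IsPGroup p A) (h2 : p ≠ 2) {t : G}
    (ht : t * t ∈ center G) (h1 : t ∉ cz A) {a : G} (ha : a ∈ A) :
    pz G t * pz G a * (pz G t)⁻¹ = (pz G a)⁻¹ := by
  have := m.normal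
  have hs := sol_p hA
  have h3 : t ∉ centralizer (A : Set G) := fun e => h1 (mem_cz.2 fun a ha => Commute.map (e a ha) _)
  have k1 : ∀ b ∈ A, t * b * t⁻¹ = b⁻¹ → Commute b t → b = 1 := fun b hb e1 e2 =>
    eq_one_of_sq hA h2 hb (by rwa [← e2.eq, mul_inv_cancel_right, eq_inv_iff_mul_eq_one] at e1)
  have k2 : ∀ a ∈ A, a⁻¹ * (t * a * t⁻¹) ∈ A := fun a ha =>
    mul_mem (inv_mem ha) (m.normal.conj_mem a ha t)
  have key : ∀ w ∈ A, Commute w t → w ∈ center G := fun w => h.fix_le m hs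
    (mem_cz.2 fun a _ => (comm_center ht a).map _) h3 fun X h4 h5 h6 w h7 h8 g h9 =>
      by_contra fun e => h3 fun a ha => by
        have e1 := conj_inv_of_sq (comm_center ht a)
        obtain ⟨c, h10, e2⟩ := exists_conj (mem_cz.1 (m.le_cz hs (k2 a ha)) w h7).symm
        set b := a⁻¹ * (t * a * t⁻¹)
        have e3 : Commute w b := by
          have e4 : b * (b⁻¹ * w * b) * b⁻¹ = b * (c * w) * b⁻¹ := by
            have := congrArg (fun x => t * x * t⁻¹) e2
            simp only [← conj_mul, ← conj_inv, e1, (comm_center h10 t).eq, h8.symm.eq,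
              mul_inv_cancel_right, inv_inv] at this
            rw [this]
          rw [← mul_assoc b c, (comm_center h10 b).eq, mul_assoc c, mul_assoc c, e2,
            ← mul_assoc c] at e4
          have e5 : c = 1 := eq_one_of_sq hA h2 (by
            rw [← mul_inv_eq_iff_eq_mul] at e2
            exact e2 ▸ mul_mem (m.normal.conj_mem w h7 b) (inv_mem h7))
            (mul_eq_right.1 (e4.symm.trans (by group)))
          rw [e5, one_mul, mul_inv_eq_iff_eq_mul] at e2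
          exact e2.symm
        have := k1 b (k2 a ha) e1 (h.ca X h4 w (h5 h7) g h9 b (h5 (k2 a ha)) t h6 e e3 h8)
        rw [inv_mul_eq_one, eq_mul_inv_iff_mul_eq] at this
        exact this
  have h4 := m.normal.conj_mem a ha t
  have h5 := mul_mem ha h4
  have h6 : (a * (t * a * t⁻¹))⁻¹ * (t * (a * (t * a * t⁻¹)) * t⁻¹) ∈ center G := by
    have e1 := (mem_cz.1 (m.le_cz hs ha) _ h4).eq
    have e2 : t * (a * (t * a * t⁻¹)) * t⁻¹ = t * a * t⁻¹ * a := by
      calc _ = t * a * t⁻¹ * ((t * t) * a * (t * t)⁻¹) := by group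
        _ = _ := by rw [← (comm_center ht a).eq]; group
    rw [← pz_eq_one, e2, map_mul, map_inv, map_mul _ a, map_mul _ _ a, e1, inv_mul_cancel]
  have h7 := k1 _ (k2 _ h5) (conj_inv_of_sq (comm_center ht _)) (comm_center h6 t).symm
  rw [inv_mul_eq_one, eq_mul_inv_iff_mul_eq] at h7
  have h8 := pz_eq_one.2 (key _ h5 h7)
  simp only [map_mul, map_inv] at h8
  exact eq_inv_of_mul_eq_one_right h8

theorem Hyp.odd (h : Hyp G) (m : MinNC A) (hA : IsPGroup p A) (h2 : p ≠ 2) : False := by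
  have := m.normal
  have hs := sol_p hA
  obtain ⟨S, hS⟩ := exists_isSyl 2 (⊤ : Subgroup G)
  obtain ⟨t, ht, h1, h3⟩ := h.exists_sq m.nc hS
  set X := cz A ⊔ S
  have hX : X ≠ ⊤ := h.ne_top (H46.sol_sup le_normalizer_of_normal (h.sol_cz m.nc)
    (sol_p hS.isPGroup))
  have hAX : A ≤ X := (m.le_cz hs).trans le_sup_left
  obtain ⟨a, ha, h4⟩ : ∃ a ∈ A, ¬ Commute a t := by
    by_contra! e
    exact h1 (mem_cz.2 fun a ha => (e a ha).map _)
  have hC : centralizer (A : Set G) ≤ cz A := fun x e => mem_cz.2 fun a ha => Commute.map (e a ha) _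
  have h5 : ∀ s ∈ S, s ∈ cz A → s ∈ center G := fun s h5 h6 => by
    have h7 := hS.inf_of_le_normalizer (N := centralizer (A : Set G)) le_top le_normalizer_of_normal
    have : (S ⊓ centralizer (A : Set G)).Normal := normalizer_eq_top_iff.1 (eq_top_iff.2 fun g _ => by
      obtain ⟨x, hx, n, hn, rfl⟩ := h7.frattini_mem (g := g) (le_normalizer_of_normal (mem_top g))
      refine mul_mem hx (centralizer_le_normalizer _ fun y hy => ?_)
      exact h.ca X hX a (hAX ha) t (mem_sup_right ht) y (mem_sup_right hy.1) n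
        (mem_sup_left (hC hn)) h4 (hy.2 a ha) (hn a ha))
    refine h.two_le _ h7.isPGroup ⟨h5, fun b hb => ?_⟩
    obtain ⟨k, hk⟩ := isPGroup_iff_forall.1 hA b hb
    obtain ⟨j, hj⟩ := isPGroup_iff_forall.1 hS.isPGroup s h5
    exact comm_of_coprime (mem_cz.1 h6 b hb) (hk ▸ Commute.one_left s) (hj ▸ Commute.one_right b)
      (Nat.Coprime.pow _ _ ((Nat.coprime_primes hp.out Nat.prime_two).2 h2))
  have h6 := h5 _ (mul_mem ht ht) h3
  have h7 : ∀ s, s * s ∈ center G → s ∉ cz A → s * t⁻¹ ∈ cz A := fun s e1 e2 => mem_cz.2 fun b hb => by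
    have k1 := mul_inv_eq_iff_eq_mul.1 (h.odd_inv m hA h2 e1 e2 (inv_mem hb))
    have k2 := mul_inv_eq_iff_eq_mul.1 (h.odd_inv m hA h2 h6 h1 hb)
    rw [map_inv, inv_inv] at k1
    change _ = _
    rw [map_mul, map_inv, ← mul_assoc, ← k1, mul_assoc, mul_assoc, mul_right_inj,
      eq_inv_mul_iff_mul_eq, ← mul_assoc, mul_inv_eq_iff_eq_mul, mul_inv_eq_iff_eq_mul, mul_assoc, k2,
      mul_inv_cancel_left]
  have h8 : ∀ s ∈ S, s * s ∈ cz A → s ∈ center G ∨ s * t⁻¹ ∈ center G := fun s e1 e2 =>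
    or_iff_not_imp_left.2 fun e3 => h5 _ (mul_mem e1 (inv_mem ht))
      (h7 s (h5 _ (mul_mem e1 e1) e2) (mt (h5 s e1) e3))
  have h9 : ∀ s ∈ S, Commute t s := fun s e1 => by_contra fun e2 => by
    have k1 : s * t * s⁻¹ * t⁻¹ ∈ center G := h5 _ (mul_mem (mul_mem (mul_mem e1 ht) (inv_mem e1))
      (inv_mem ht)) (h7 _ (by rw [conj_mul]; exact Normal.conj_mem inferInstance _ h6 s)
        fun e => h1 (by simpa [mul_assoc] using Normal.conj_mem' inferInstance _ e s))
    have k2 : Commute (pz G t) (pz G s) := by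
      rw [← pz_eq_one, ← commutatorElement_def, map_commutatorElement,
        commutatorElement_eq_one_iff_commute] at k1
      exact k1.symm
    rcases h8 s e1 (hC fun b hb => (h.sq_cent hX (mem_sup_right ht) k2 h6 (mem_sup_right e1) e2
      (hAX hb)).symm) with e | e
    · exact e2 (comm_center e t)
    · exact e2 (by simpa using (comm_center e t).mul_right (Commute.refl t))
  have h10 : ∀ x ∈ S, ∀ y ∈ S, Commute x y := fun x hx y hy => h.ca X hX t (mem_sup_right ht) a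
    (hAX ha) x (mem_sup_right hx) y (mem_sup_right hy) (fun e => h4 e.symm) (h9 x hx) (h9 y hy)
  let f := QuotientGroup.mk' (cz A)
  have h11 := hS.map f
  rw [map_top_of_surjective _ (QuotientGroup.mk'_surjective _)] at h11
  have h12 : ∀ s ∈ S, orderOf (f s) = 2 → f s = f t := fun s e1 e2 => by
    have k1 : s * s ∈ cz A := (QuotientGroup.eq_one_iff _).1 (by
      change f (s * s) = 1
      rw [map_mul, ← sq, ← e2, pow_orderOf_eq_one])
    have k2 : ∀ z ∈ center G, f z = 1 := fun z hz =>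
      (QuotientGroup.eq_one_iff _).2 (hC (center_le_centralizer _ hz))
    rcases h8 s e1 k1 with e | e
    · rw [k2 s e, orderOf_one] at e2
      omega
    · simpa [mul_inv_eq_one] using k2 _ e
  refine h.ns (H24.solvable_of_normal _ (h.sol_cz m.nc) (H24.solvable_of_cyclic h11.toSylowTop
    (isCyclic_of_comm h11.isPGroup ?_ ?_)))
  · rintro _ ⟨x, hx, rfl⟩ _ ⟨y, hy, rfl⟩
    exact (h10 x hx y hy).map f
  · rintro _ ⟨x, hx, rfl⟩ _ ⟨y, hy, rfl⟩ e1 e2
    rw [h12 x hx e1, h12 y hy e2]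

end Odd

theorem Hyp.p_le (h : Hyp G) {p : ℕ} [Fact p.Prime] (N : Subgroup G) [N.Normal]
    (hN : IsPGroup p N) : N ≤ center G := by
  by_cases e : p = 2
  · subst e
    exact h.two_le N hN
  · exact by_contra fun e' => let ⟨_, m, h1⟩ := exists_minNC N e'; h.odd m (hN.to_le h1) e

theorem Hyp.sol_le (h : Hyp G) (N : Subgroup G) [N.Normal] (hN : Group.IsSolvable N) :
    N ≤ center G := by
  have h1 : fittingSubgroup G ≤ center G := by
    rw [H2.fitting_eq_iSup_pCore]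
    exact iSup_le fun p => haveI := Fact.mk p.2; h.p_le _ (H98.isPGroup_pCore p G)
  exact (H2.le_fitting_of_isSolvable_of_le_centralizer N fun x _ y hy =>
    (comm_center (h1 hy) x).symm).trans h1

omit [Finite G] in
theorem sol_comap_pz {K : Subgroup (G ⧸ center G)} (hK : Group.IsSolvable K) :
    Group.IsSolvable (K.comap (pz G)) :=
  sol_comap _ (by rw [QuotientGroup.ker_mk']; exact H46.sol_of_comm inferInstance) hK

theorem Hyp.sol_bot (h : Hyp G) (N : Subgroup (G ⧸ center G)) [N.Normal]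
    (hN : Group.IsSolvable N) : N = ⊥ := eq_bot_iff.2 fun x hx => by
  obtain ⟨x, rfl⟩ := QuotientGroup.mk'_surjective _ x
  exact pz_eq_one.2 (h.sol_le (N.comap (pz G)) (sol_comap_pz hN) hx)

theorem Hyp.exists_socle (h : Hyp G) : ∃ M : Subgroup (G ⧸ center G), M.Normal ∧ IsSimpleGroup M ∧
    ¬ IsMulCommutative M ∧ centralizer (M : Set (G ⧸ center G)) = ⊥ := by
  have : Nontrivial (G ⧸ center G) := not_subsingleton_iff_nontrivial.1 fun e =>
    h.ns (H24.solvable_of_normal (center G) (H46.sol_of_comm inferInstance) inferInstance)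
  refine H24.exists_socle_of (fun N _ => h.sol_bot N) fun K K' h1 h2 _ h3 => ?_
  have k : ∀ K : Subgroup (G ⧸ center G), ¬ Group.IsSolvable K →
      ¬ Group.IsSolvable (K.comap (pz G)) := fun K h1 e => h1 (by
    rw [← map_comap_eq_self_of_surjective (QuotientGroup.mk'_surjective (center G)) K]
    exact Group.isSolvable_of_surjective (MonoidHom.subgroupMap_surjective _ _))
  have h4 := le_cent_commutator (A := K.comap (pz G)) (B := K'.comap (pz G)) fun b hb =>
    mem_cz.2 fun a ha => h3 _ ha _ hb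
  have h5 := mt sol_of_commutator (k K' h2)
  set L := ⁅K'.comap (pz G), K'.comap (pz G)⁆
  obtain ⟨x, hx, g, hg, e⟩ : ∃ x ∈ K.comap (pz G), ∃ g ∈ K.comap (pz G), ¬ Commute x g := by
    by_contra! e
    exact k K h1 (H46.sol_of_comm ⟨⟨fun a b => Subtype.ext (e _ a.2 _ b.2)⟩⟩)
  by_cases h6 : normalizer (L : Set G) = ⊤
  · have := normalizer_eq_top_iff.1 h6
    exact e (comm_center (h.cent_le L h5 (h4 hg)) x)
  · exact h5 (H46.sol_of_comm ⟨⟨fun a b => Subtype.ext (h.ca _ h6 x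
      (centralizer_le_normalizer _ (h4 hx)) g (centralizer_le_normalizer _ (h4 hg)) a
      (le_normalizer a.2) b (le_normalizer b.2) e (h4 hx a a.2).symm (h4 hx b b.2).symm)⟩⟩)

/-- The centralizer of `x` is abelian. -/
def Good (x : G) : Prop := ∀ a b : G, Commute x a → Commute x b → Commute a b

omit [Finite G] in
theorem Good.conj {x : G} (h : Good x) (g : G) : Good (g * x * g⁻¹) := fun a b h1 h2 => by
  have k : ∀ a, Commute (g * x * g⁻¹) a → Commute x (g⁻¹ * a * g) := fun a e => by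
    simpa [mul_assoc] using e.conj g⁻¹
  simpa [mul_assoc] using (h _ _ (k a h1) (k b h2)).conj g

omit [Finite G] in
theorem Good.of_pz {x y : G} (h : Good x) (e : pz G x = pz G y) : Good y := fun a b h1 h2 => by
  have k : ∀ a, Commute y a → Commute x a := fun a e' => by
    simpa using ((comm_center (pz_eq_one.1 (by rw [map_mul, map_inv, e, mul_inv_cancel] :
      pz G (x * y⁻¹) = 1)) a).symm.mul_left e')
  exact h a b (k a h1) (k b h2)

omit [Finite G] in
theorem Hyp.bad_comm (h : Hyp G) {x : G} (hx : ¬ Good x) {X : Subgroup G} (hX : X ≠ ⊤)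
    (hC : ∀ a, Commute x a → a ∈ X) {g : G} (hg : g ∈ X) : Commute x g :=
  by_contra fun e => hx fun a b h1 h2 =>
    h.ca X hX x (hC x (Commute.refl x)) g hg a (hC a h1) b (hC b h2) e h1 h2

theorem Hyp.bad_conj (h : Hyp G) {x : G} (hz : x ∉ center G) (hx : ¬ Good x) {g : G}
    (hg : ∀ a, Commute x a → Commute x (g * a * g⁻¹)) : Commute x g := by
  have k : ∀ a, a ∈ centralizer ({x} : Set G) ↔ Commute x a := fun a =>
    mem_centralizer_singleton_iff.trans eq_comm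
  refine h.bad_comm hx (X := normalizer (centralizer ({x} : Set G) : Set G)) (fun e => hz ?_)
    (fun a e => le_normalizer ((k a).2 e)) (mem_normalizer_of_cj_le ?_)
  · have := normalizer_eq_top_iff.1 e
    by_cases h1 : Group.IsSolvable (centralizer ({x} : Set G))
    · exact h.sol_le _ h1 ((k x).2 (Commute.refl x))
    · exact h.cent_le _ h1 fun a ha => ((k a).1 ha).symm
  · rintro _ ⟨a, ha, rfl⟩
    exact (k _).2 (hg a ((k a).1 ha))

theorem Hyp.bad_pow (h : Hyp G) {x : G} (hz : x ∉ center G) (hx : ¬ Good x) {g : G} {n : ℤ}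
    (hg : pz G g * pz G x * (pz G g)⁻¹ = pz G x ^ n) : Commute x g := by
  have h1 : g * x * g⁻¹ * (x ^ n)⁻¹ ∈ center G := pz_eq_one.1 (by
    simp only [map_mul, map_inv, map_zpow, hg, mul_inv_cancel])
  refine Commute.inv_right_iff.1 (h.bad_conj hz hx (g := g⁻¹) fun a ha => ?_)
  simpa [mul_assoc] using (((comm_center h1 a).symm.mul_left (ha.zpow_left n))).conj g⁻¹

theorem Hyp.odd_bot (h : Hyp G) : oddCore (G ⧸ center G) = ⊥ :=
  h.sol_bot _ (H42.odd_order (H2.odd_card_oddCore _))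

theorem Hyp.mem_center (h : Hyp G) {z : G}
    (hz : ∀ g, pz G z * g * (pz G z)⁻¹ * g⁻¹ ∈ oddCore (G ⧸ center G)) : z ∈ center G := by
  rw [← pz_eq_one, ← mem_bot, ← h.sol_bot (center _) (H46.sol_of_comm inferInstance), mem_center_iff]
  intro g
  have := hz g
  rw [h.odd_bot, mem_bot, mul_inv_eq_one, mul_inv_eq_iff_eq_mul] at this
  exact this.symm

omit [Finite G] in
theorem orderOf_pz {z : G} (h1 : z ∉ center G) (h2 : z ^ 2 ∈ center G) : orderOf (pz G z) = 2 :=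
  orderOf_eq_prime (by rw [← map_pow, pz_eq_one]; exact h2) (mt pz_eq_one.1 h1)

theorem exists_nor {T D C S : Subgroup G} (hT : IsSyl 2 T D) (hD : D ≤ C) (hS : IsSyl 2 S C)
    (h1 : ∀ a ∈ D, ∀ b ∈ D, Commute a b) (h2 : ¬ ∀ a ∈ S, ∀ b ∈ S, Commute a b) :
    ∃ n ∈ C, n ∈ normalizer (T : Set G) ∧ n ∉ D := by
  obtain ⟨g, hg, h3⟩ := hS.exists_le_cj hT.isPGroup (hT.le.trans hD)
  have h4 := hS.cj_of_mem hg
  obtain ⟨n, h5, h6, h7⟩ := H89.exists_mem_normalizer_of_lt h4.isPGroup (h3.lt_of_ne fun e =>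
    h2 fun a ha b hb => (Commute.conj_iff g).1 (h1 _ (hT.le (e.ge (mem_map_of_mem _ ha))) _
      (hT.le (e.ge (mem_map_of_mem _ hb)))))
  exact ⟨n, h4.le h5, h7, fun e => h6 (hT.le_of_le_normalizer' (h4.isPGroup.to_le
    (zpowers_le_of_mem h5)) (zpowers_le_of_mem e) (zpowers_le_of_mem h7) (mem_zpowers n))⟩

variable {S : Subgroup G}

theorem Hyp.center_syl (h : Hyp G) (hS : IsSyl 2 S ⊤) (hn : ¬ ∀ a ∈ S, ∀ b ∈ S, Commute a b)
    {z : G} (hz : z ∈ S) (hc : ∀ s ∈ S, Commute z s) : z ∈ center G := by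
  by_contra h0
  obtain ⟨k, hk⟩ := isPGroup_iff_forall.1 hS.isPGroup z hz
  obtain ⟨j, h1, h2⟩ := H16.exists_pow_not_mem ⟨k, hk ▸ one_mem (center G)⟩ h0
  replace hc : ∀ s ∈ S, Commute (z ^ 2 ^ j) s := fun s hs => (hc s hs).pow_left _
  replace hz : z ^ 2 ^ j ∈ S := S.pow_mem hz _
  generalize z ^ 2 ^ j = z at h1 h2 hc hz
  have hb : ¬ Good z := fun e => hn fun a ha b hb => e a b (hc a ha) (hc b hb)
  refine h1 (h.mem_center (H34.zstar ⟨orderOf_pz h1 h2, fun g h3 => ?_⟩))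
  obtain ⟨g, rfl⟩ := QuotientGroup.mk'_surjective _ g
  suffices e : Commute z g by rw [← (e.map (pz G)).eq, mul_inv_cancel_right]
  have k : ∀ {x : G} (a), a ∈ centralizer ({x} : Set G) ↔ Commute x a := fun a =>
    mem_centralizer_singleton_iff.trans eq_comm
  set y := g * z * g⁻¹ with hy
  have h4 : Commute z y := h.bad_pow h1 hb (n := 1) (by
    rw [zpow_one, mul_inv_eq_iff_eq_mul]; simpa [hy] using h3.symm.eq)
  by_contra h5
  obtain ⟨m, h6, h7⟩ : ∃ m, Commute z m ∧ ¬ Commute y m := by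
    by_contra! e
    exact h5 (Commute.inv_right_iff.1 (h.bad_conj h1 hb (g := g⁻¹) fun a ha => by
      simpa [hy, mul_assoc] using (e a ha).conj g⁻¹))
  have h8 : centralizer ({z} : Set G) ≠ ⊤ := fun e =>
    h1 (mem_center_iff.2 fun a => ((k a).1 (e.ge (mem_top a))).symm)
  set D := centralizer ({z} : Set G) ⊓ centralizer ({y} : Set G)
  have h9 : ∀ a ∈ D, ∀ b ∈ D, Commute a b := fun a ha b hb =>
    h.ca _ h8 y ((k y).2 h4) m ((k m).2 h6) a ha.1 b hb.1 h7 ((k a).1 ha.2) ((k b).1 hb.2)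
  obtain ⟨T, hT⟩ := exists_isSyl 2 D
  obtain ⟨n, h10, h11, h12⟩ := exists_nor hT inf_le_left
    (hS.of_le (fun s hs => (k s).2 (hc s hs)) le_top) h9 hn
  obtain ⟨n', h13, h14, h15⟩ := exists_nor hT inf_le_right ((hS.cj_of_mem (mem_top g)).of_le
    (by rintro _ ⟨s, hs, rfl⟩; exact (k _).2 ((hc s hs).conj g)) le_top) h9
    fun e => hn fun a ha b hb => (Commute.conj_iff g).1
      (e _ (mem_map_of_mem _ ha) _ (mem_map_of_mem _ hb))
  have h16 : ∀ x ∈ D, x ∈ normalizer (T : Set G) := fun x hx =>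
    centralizer_le_normalizer _ fun t ht => h9 t (hT.le ht) x hx
  have h17 : z ∈ D := ⟨(k z).2 (Commute.refl z), (k z).2 h4.symm⟩
  have h18 : y ∈ D := ⟨(k y).2 h4, (k y).2 (Commute.refl y)⟩
  refine h12 ⟨h10, (k n).2 (h.ca _ (fun e => h1 ?_) z (h16 z h17) n' h14 y (h16 y h18) n h11
    (fun e => h15 ⟨(k _).2 e, h13⟩) h4 ((k n).1 h10))⟩
  have := normalizer_eq_top_iff.1 e
  exact h.two_le T hT.isPGroup (hT.le_of_le_normalizer' (hS.isPGroup.to_le (zpowers_le_of_mem hz))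
    (zpowers_le_of_mem h17) (zpowers_le_of_mem (h16 z h17)) (mem_zpowers z))

theorem isSyl_pz (hS : IsSyl 2 S ⊤) : IsSyl 2 (S.map (pz G)) ⊤ := by
  have h1 := hS.map (pz G)
  rwa [map_top_of_surjective _ (QuotientGroup.mk'_surjective _)] at h1

theorem exists_lift (hS : IsSyl 2 S ⊤) {x : G ⧸ center G} {k : ℕ} (hk : x ^ 2 ^ k = 1) :
    ∃ g, ∃ s ∈ S, x = pz G (g * s * g⁻¹) := by
  obtain ⟨g, -, h1⟩ := (isSyl_pz hS).exists_le_cj (Q := zpowers x)
    (((Nat.dvd_prime_pow Nat.prime_two).1 (orderOf_dvd_of_pow_eq_one hk)).elim fun _ e =>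
      IsPGroup.of_card ((Nat.card_zpowers x).trans e.2)) le_top
  obtain ⟨g, rfl⟩ := QuotientGroup.mk'_surjective _ g
  obtain ⟨_, ⟨s, hs, rfl⟩, e⟩ := h1 (mem_zpowers x)
  exact ⟨g, s, hs, e.symm⟩

omit [Finite G] in
theorem sol_cent {t : G} (h : Good t) : Group.IsSolvable (centralizer ({pz G t} : Set _)) := by
  have h1 := le_cent_commutator (A := zpowers t) (B := (centralizer {pz G t}).comap (pz G))
    fun b hb => mem_cz.2 (by
      rintro _ ⟨n, rfl⟩
      rw [map_zpow]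
      exact Commute.zpow_left (mem_centralizer_singleton_iff.1 hb).symm n)
  rw [← map_comap_eq_self_of_surjective (QuotientGroup.mk'_surjective (center G)) (centralizer _)]
  have := sol_of_commutator (H46.sol_of_comm ⟨⟨fun a b => Subtype.ext (h _ _
    (h1 (mem_zpowers t) a a.2).symm (h1 (mem_zpowers t) b b.2).symm)⟩⟩)
  exact Group.isSolvable_of_surjective (MonoidHom.subgroupMap_surjective _ _)

section B

variable (h : Hyp G) (hS : IsSyl 2 S ⊤) (hn : ¬ ∀ a ∈ S, ∀ b ∈ S, Commute a b)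
include h hS hn

theorem Hyp.exists_y : ∃ y ∈ S, y ∉ center G ∧ (∀ s ∈ S, Commute (pz G y) (pz G s)) ∧
    ∀ s ∈ S, ¬ Commute y s → s * s ∈ center G := by
  obtain ⟨y, hy, h1, h2, h3⟩ := exists_cz hS.isPGroup le_rfl le_normalizer
    fun e => hn fun a _ b hb => comm_center (e hb) a
  exact ⟨y, hy, h1, h3, fun s hs e => h.center_syl hS hn (mul_mem hs hs) fun g hg =>
    h.sq_cent (h.ne_top (sol_p hS.isPGroup)) hy (h3 s hs) (sq y ▸ h2) hs e hg⟩

omit hn hS h [Finite G] in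
theorem inv_of_y {y : G} (h4 : ∀ s ∈ S, ¬ Commute y s → s * s ∈ center G) {s x : G} (hs : s ∈ S)
    (hx : x ∈ S) (h1 : ¬ Commute y s) (h2 : Commute y x) :
    pz G s * pz G x * (pz G s)⁻¹ = (pz G x)⁻¹ := by
  have e1 := pz_eq_one.2 (h4 s hs h1)
  have e2 := pz_eq_one.2 (h4 _ (mul_mem hs hx) fun e => h1 (by simpa using e.mul_right h2.inv_right))
  simp only [map_mul] at e1 e2
  rw [inv_eq_of_mul_eq_one_right e1, eq_inv_iff_mul_eq_one, mul_assoc _ (pz G s), e2]

theorem Hyp.good_mem {x : G} (hx : x ∈ S) (hz : x ∉ center G) : Good x := by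
  obtain ⟨y, hy, h1, h3, h4⟩ := h.exists_y hS hn
  have k : ∀ x ∈ S, x ∉ center G → ∃ s ∈ S, ¬ Commute x s := fun x h1 h2 => by
    by_contra! e
    exact h2 (h.center_syl hS hn h1 e)
  by_contra hb
  by_cases e : Commute y x
  · obtain ⟨s, hs, h5⟩ := k y hy h1
    obtain ⟨t, ht, h6⟩ := k x hx hz
    exact h5 (h.ca _ (h.ne_top (sol_p hS.isPGroup)) x hx t ht y hy s hs h6 e.symm
      (h.bad_pow hz hb (n := -1) (by rw [zpow_neg_one, inv_of_y h4 hs hx h5 e])))
  · exact e (h.bad_pow hz hb (n := 1) (by rw [zpow_one, (h3 x hx).eq, mul_inv_cancel_right])).symm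

theorem Hyp.good_two {x : G} (hz : x ∉ center G) {k : ℕ} (hk : pz G x ^ 2 ^ k = 1) : Good x := by
  obtain ⟨g, s, hs, e⟩ := exists_lift hS hk
  refine ((h.good_mem hS hn hs fun e' => hz ?_).conj g).of_pz e.symm
  rw [← pz_eq_one, e, pz_eq_one]
  exact Normal.conj_mem inferInstance _ e' g

theorem Hyp.dih {M : Subgroup (G ⧸ center G)} [M.Normal] [IsSimpleGroup M]
    (hM : ¬ IsMulCommutative M) (T : Sylow 2 M) (hT : (T : Subgroup M) = (S.map (pz G)).subgroupOf M) :
    IsMulCommutative T ∨ ∃ n, 2 ≤ n ∧ Nonempty (T ≃* DihedralGroup n) := by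
  obtain ⟨y, hy, h1, h3, h4⟩ := h.exists_y hS hn
  set R := centralizer ({y} : Set G)
  have hR : ∀ s, s ∈ R ↔ Commute y s := fun s => mem_centralizer_singleton_iff.trans eq_comm
  have k0 : ∀ a : T, ∃ s ∈ S, pz G s = a := fun a => (hT.le a.2 :)
  by_cases h5 : ∃ b ∈ S, ∃ c ∈ S, b ∉ R ∧ c ∉ R ∧ b * c ∉ R
  · obtain ⟨b, hb, c, hc, h5, h6, h7⟩ := h5
    refine Or.inl ⟨⟨fun a a' => Subtype.ext (Subtype.ext ?_)⟩⟩
    obtain ⟨s, hs, e⟩ := k0 a
    obtain ⟨s', hs', e'⟩ := k0 a'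
    have := comm_of_exp_two (pz G) (fun s hs e => by
      rw [← map_mul, pz_eq_one]; exact h4 s hs (mt (hR s).2 e)) hb hc h5 h6 h7 hs hs'
    rwa [e, e'] at this
  push Not at h5
  have hy2 := h.good_mem hS hn hy h1
  set C := (((S ⊓ R).map (pz G)).subgroupOf M).subgroupOf T
  have k1 : ∀ a : T, a ∉ C → ∃ s ∈ S, s ∉ R ∧ pz G s = a := fun a ha =>
    let ⟨s, hs, e⟩ := k0 a; ⟨s, hs, fun e' => ha ⟨s, ⟨hs, e'⟩, e⟩, e⟩
  have k2 : ∀ a ∈ (S ⊓ R).map (pz G), ∀ b ∈ (S ⊓ R).map (pz G), Commute a b := by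
    rintro _ ⟨a, ha, rfl⟩ _ ⟨b, hb, rfl⟩
    exact (hy2 a b ((hR a).1 ha.2) ((hR b).1 hb.2)).map _
  by_cases h6 : C = ⊤
  · exact Or.inl ⟨⟨fun a b => Subtype.ext (Subtype.ext (k2 _ (h6.ge (mem_top a)) _
      (h6.ge (mem_top b))))⟩⟩
  obtain ⟨w', hw'⟩ : ∃ a, a ∉ C := not_forall.1 (mt (eq_top_iff' C).2 h6)
  have h7 : C.index = 2 := index_eq_two_iff'.2 ⟨w', fun b => by
    by_cases e : b ∈ C
    · exact Or.inr ⟨e, fun e' => hw' ((C.mul_mem_cancel_right e).1 e')⟩
    · obtain ⟨s, hs, e1, e2⟩ := k1 _ hw'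
      obtain ⟨t, ht, e3, e4⟩ := k1 _ e
      exact Or.inl ⟨⟨s * t, ⟨mul_mem hs ht, h5 s hs t ht e1 e3⟩, by rw [map_mul, e2, e4]; rfl⟩, e⟩⟩
  have h8 : ∀ a, a ∉ C → a * a = 1 := fun a ha => Subtype.ext (Subtype.ext (by
    obtain ⟨s, hs, e1, e2⟩ := k1 _ ha
    change a.1.1 * a.1.1 = 1
    rw [← e2, ← map_mul, pz_eq_one]
    exact h4 s hs (mt (hR s).2 e1)))
  obtain ⟨g, hg⟩ : ∃ g : M, g * w' * g⁻¹ ∈ ((S ⊓ R).map (pz G)).subgroupOf M := by
    by_contra! e
    obtain ⟨N, h9, h10, -⟩ := H8.thompson_transfer (T : Subgroup M) _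
      (Nat.odd_iff.mpr (Nat.two_dvd_ne_zero.mp T.not_dvd_index)) h7 w'
      (by rw [sq]; exact congrArg Subtype.val (h8 _ hw')) e
    rcases h9.eq_bot_or_eq_top with rfl | rfl
    · have := isCyclic_of_prime_card (p := 2) (index_bot.symm.trans h10)
      exact hM inferInstance
    · simp at h10
  obtain ⟨u, hu, e1⟩ := hg
  obtain ⟨w, hw, h9, e2⟩ := k1 _ hw'
  obtain ⟨g, e3⟩ := QuotientGroup.mk'_surjective _ g.1
  replace e1 : pz G u = pz G (g * w * g⁻¹) := by
    rw [map_mul, map_mul, map_inv, e1, e2, e3]; rfl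
  have h10 := h4 w hw (mt (hR w).2 h9)
  have h11 : u * u ∈ center G := by
    rw [← pz_eq_one, map_mul, e1, ← map_mul, conj_mul, pz_eq_one]
    exact Normal.conj_mem inferInstance _ h10 g
  have k3 : ∀ r ∈ S ⊓ R, Commute r w → r ∈ center G := fun r hr e => by_contra fun e' =>
    h9 ((hR w).2 (h.good_mem hS hn hr.1 e' y w ((hR r).1 hr.2).symm e))
  have k4 : ∀ r ∈ S ⊓ R, r * r ∈ center G → ∀ s ∈ S, Commute (pz G s) (pz G r) :=
    fun r hr e s hs => by
      by_cases e' : Commute y s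
      · exact (hy2 s r e' ((hR r).1 hr.2)).map _
      · have := inv_of_y h4 hs hr.1 e' ((hR r).1 hr.2)
        rw [inv_eq_of_mul_eq_one_right ((map_mul _ r r).symm.trans (pz_eq_one.2 e)),
          mul_inv_eq_iff_eq_mul] at this
        exact this
  have k5 : ∀ a, Commute (pz G a) (pz G u) → ¬ Commute a u →
      ∃ s ∈ S, s ∉ R ∧ a * u * a⁻¹ = s * u * s⁻¹ := fun a e4 e5 => by
    obtain ⟨s, hs, r, hr, rfl⟩ := (hS.of_le (K := (centralizer {pz G u}).comap (pz G))
      (fun s hs => mem_centralizer_singleton_iff.2 (k4 u hu h11 s hs)) le_top).exists_mul_res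
      (x := a) (mem_centralizer_singleton_iff.2 e4)
    have e6 : Commute r u := mem_centralizer_singleton_iff.1 (res_le_of_forall_pow (p := 2)
      (fun x hx => ⟨1, mem_centralizer_singleton_iff.2 (comm_pow_swap (a := u) (b := x) (n := 2)
        (mem_centralizer_singleton_iff.1 (mem_comap.1 hx)).symm
        (sq u ▸ (comm_center h11 x).symm)).symm⟩) hr)
    refine ⟨s, hs, fun e => e5 ((hy2 s u ((hR s).1 e) ((hR u).1 hu.2)).mul_left e6), ?_⟩
    rw [mul_assoc s, e6.eq]; group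
  have k6 : ∀ a, Commute (g * a * g⁻¹) u ↔ Commute a w := fun a => by
    have e : u * (g * w * g⁻¹)⁻¹ ∈ center G := by
      rw [← pz_eq_one, map_mul, map_inv, e1, mul_inv_cancel]
    refine Iff.trans ⟨fun e' => ?_, fun e' => ?_⟩ (Commute.conj_iff g)
    · simpa using (comm_center e _).inv_right.mul_right e'
    · have := (comm_center e _).mul_right e'
      rwa [inv_mul_cancel_right] at this
  have h12 : IsCyclic ((S ⊓ R).map (pz G)) := by
    refine isCyclic_of_comm ((hS.isPGroup.to_le inf_le_left).map _) k2 ?_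
    rintro _ ⟨a, ha, rfl⟩ _ ⟨b, hb, rfl⟩ e4 e5
    have k : ∀ a ∈ S ⊓ R, orderOf (pz G a) = 2 →
        ∃ s ∈ S, s ∉ R ∧ g * a * g⁻¹ * u * (g * a * g⁻¹)⁻¹ = s * u * s⁻¹ := fun a ha e => by
      refine k5 _ ?_ fun e' => ?_
      · rw [e1]
        simp only [map_mul, map_inv]
        refine (k4 a ha ?_ w hw).symm.conj _
        rw [← pz_eq_one, map_mul, ← sq, ← e, pow_orderOf_eq_one]
      · rw [pz_eq_one.2 (k3 a ha ((k6 a).1 e')), orderOf_one] at e
        omega
    obtain ⟨s, hs, e6, e7⟩ := k a ha e4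
    obtain ⟨t, ht, e8, e9⟩ := k b hb e5
    have e10 := (hy2 _ u ((hR _).1 (h5 _ (inv_mem ht) s hs (mt R.inv_mem_iff.1 e8) e6))
      ((hR u).1 hu.2)).eq
    rw [← inv_mul_eq_one, ← map_inv, ← map_mul, pz_eq_one]
    refine k3 _ (mul_mem (inv_mem ha) hb) ((k6 _).1 ?_)
    have e11 : s * u * s⁻¹ = t * u * t⁻¹ := by
      calc _ = t * (t⁻¹ * s * u) * s⁻¹ := by group
        _ = _ := by rw [e10]; group
    rw [e11, ← e9] at e7
    calc _ = g * a⁻¹ * g⁻¹ * (g * b * g⁻¹ * u * (g * b * g⁻¹)⁻¹) * (g * b * g⁻¹) := by group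
      _ = _ := by rw [← e7]; group
  have h13 : IsCyclic C := isCyclic_of_injective (G' := (S ⊓ R).map (pz G))
    ((M.subtype.comp ((T : Subgroup M).subtype.comp C.subtype)).codRestrict _ fun x => x.2)
    fun a b e => Subtype.ext (Subtype.ext (Subtype.ext (congrArg Subtype.val e :)))
  refine Or.inr ⟨_, ?_, H61.dihedral_of_index_two C h13 h7 h8⟩
  have h14 : pz G u ∈ M := by
    rw [e1, map_mul, map_mul, map_inv, e2]
    exact Normal.conj_mem inferInstance _ w'.1.2 _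
  refine Finite.one_lt_card_iff_nontrivial.2 ⟨⟨⟨⟨⟨_, h14⟩, hT.ge ⟨u, hu.1, rfl⟩⟩, u, hu, rfl⟩, 1,
    fun e => h9 ((hR w).2 (comm_center ?_ y))⟩⟩
  have e4 : pz G u = 1 := congrArg (fun x : C => x.1.1.1) e
  rw [e1, pz_eq_one] at e4
  simpa [mul_assoc] using Normal.conj_mem' inferInstance _ e4 g

end B

section A

variable (h : Hyp G) (hS : IsSyl 2 S ⊤) (hc : ∀ a ∈ S, ∀ b ∈ S, Commute a b)
include h hS hc

theorem Hyp.ab_center {z : G} (hz : z ∈ S) (h0 : ∀ n ∈ normalizer (S : Set G), Commute z n) :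
    z ∈ center G := by
  by_contra e
  obtain ⟨k, hk⟩ := isPGroup_iff_forall.1 hS.isPGroup z hz
  obtain ⟨j, h1, h2⟩ := H16.exists_pow_not_mem ⟨k, hk ▸ one_mem (center G)⟩ e
  refine h1 (h.mem_center fun g => ?_)
  have := H24.zstar_ab (isSyl_pz hS) (by
    rintro _ ⟨a, ha, rfl⟩ _ ⟨b, hb, rfl⟩
    exact (hc a ha b hb).map _) (mem_map_of_mem _ (S.pow_mem hz _)) (orderOf_pz h1 h2)
    (fun n hn => ?_) (mem_top g)
  · rwa [H14.opp_top] at this
  obtain ⟨n, rfl⟩ := QuotientGroup.mk'_surjective _ n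
  refine mem_centralizer_singleton_iff.2 (((h0 n (mem_normalizer_of_cj_le ?_)).pow_left _).map _).symm
  refine hS.le_of_le_normalizer' (hS.cj n).isPGroup le_top ?_
  rintro _ ⟨s, hs, rfl⟩
  obtain ⟨t, ht, e⟩ := conj_mem_of_mem_normalizer hn.2 (mem_map_of_mem (pz G) hs)
  have e' : t⁻¹ * (n * s * n⁻¹) ∈ center G := pz_eq_one.1 (by
    simp only [map_mul, map_inv, e, inv_mul_cancel])
  simpa using mul_mem (le_normalizer ht) (center_le_normalizer _ e')

omit hc in
theorem Hyp.exists_odd : ∃ m ∈ normalizer (S : Set G), (orderOf m).Coprime 2 ∧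
    (∃ s ∈ S, ¬ Commute s m) ∨ ¬ ∀ a ∈ S, ∀ b ∈ S, Commute a b := by
  by_contra! e
  refine h.ne_top (sol_of_burnside hS fun n _ hn t ht => ?_) rfl
  obtain ⟨s, hs, r, hr, rfl⟩ := (hS.of_le le_normalizer le_top).exists_mul_res hn
  exact ((e 1 (one_mem _)).2 t ht s hs).mul_right
    (res_le_of_forall (K := centralizer (S : Set G)) (fun x h1 h2 => (e x h1).1 h2) hr t ht)

omit hc in
theorem Hyp.nor_ne : normalizer (S : Set G) ≠ ⊤ := fun e => by
  have := normalizer_eq_top_iff.1 e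
  exact h.ne_top (sol_of_burnside hS fun n _ _ t ht =>
    (comm_center (h.two_le S hS.isPGroup ht) n).symm) rfl

theorem Hyp.ab_comm {z : G} (hz : z ∈ S) (h0 : z ∉ center G) {n : G}
    (hn : n ∈ normalizer (S : Set G)) (h1 : Commute z n) {s : G} (hs : s ∈ S) : Commute s n := by
  obtain ⟨m, hm, h2⟩ : ∃ m ∈ normalizer (S : Set G), ¬ Commute z m := by
    by_contra! e
    exact h0 (h.ab_center hS hc hz e)
  exact h.ca _ (h.nor_ne hS) z (le_normalizer hz) m hm s (le_normalizer hs) n hn h2 (hc z hz s hs) h1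

theorem Hyp.ab_sol {t : G} (ht : t ∈ S) (h0 : t ∉ center G) :
    Group.IsSolvable (centralizer ({pz G t} : Set _)) := by
  by_cases hb : Good t
  · exact sol_cent hb
  have h1 := sol_of_burnside (hS.of_le (K := centralizer {t}) (fun s hs =>
    mem_centralizer_singleton_iff.2 (hc s hs t ht)) le_top) fun n h1 h2 s hs =>
      h.ab_comm hS hc ht h0 h2 (mem_centralizer_singleton_iff.1 h1).symm hs
  refine H24.solvable_of_le (L := (centralizer {t}).map (pz G)) (fun g hg => ?_)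
    (Group.isSolvable_of_surjective (MonoidHom.subgroupMap_surjective _ _))
  obtain ⟨g, rfl⟩ := QuotientGroup.mk'_surjective _ g
  exact mem_map_of_mem _ (mem_centralizer_singleton_iff.2 (h.bad_pow h0 hb (n := 1) (by
    rw [zpow_one, mem_centralizer_singleton_iff.1 hg, mul_inv_cancel_right])).symm)

theorem Hyp.ab_top {M : Subgroup (G ⧸ center G)} [hM : M.Normal] (h2 : ∀ g, ∃ k, g ^ 2 ^ k ∈ M) :
    M = ⊤ := by
  have h1 := isSyl_pz hS
  rw [eq_top_iff, ← h1.sup_res]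
  refine sup_le ?_ (res_le_of_forall_pow fun x _ => h2 x)
  obtain ⟨m, hm, ⟨h3, s, hs, h4⟩ | e⟩ := h.exists_odd hS
  swap
  · exact absurd hc e
  have h5 : pz G m ∈ M := let ⟨_, hk⟩ := h2 (pz G m)
    mem_of_pow_mem_of_coprime hk ((h3.coprime_dvd_left (orderOf_map_dvd _ _)).pow_right _)
  refine inf_eq_left.1 (eq_of_le_of_card_ge inf_le_left (Nat.card_le_card_of_injective
    (fun x => ⟨x.1⁻¹ * (pz G m * x * (pz G m)⁻¹), Subgroup.mul_mem _ (Subgroup.inv_mem _ x.2)
      (conj_mem_of_mem_normalizer (map_le_normalizer_map _ le_rfl (mem_map_of_mem _ hm)) x.2), by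
        simpa [mul_assoc] using mul_mem (hM.conj_mem' _ h5 x) (inv_mem h5)⟩) ?_))
  rintro ⟨_, a, ha, rfl⟩ ⟨_, b, hb, rfl⟩ e
  have e1 : Commute (pz G m) (pz G (b * a⁻¹)) := by
    have e2 := congrArg Subtype.val e
    simp only at e2
    rw [map_mul, map_inv]
    calc _ = pz G b * ((pz G b)⁻¹ * (pz G m * pz G b * (pz G m)⁻¹)) * pz G m * (pz G a)⁻¹ := by group
      _ = _ := by rw [← e2]; group
  obtain ⟨k, hk⟩ := isPGroup_iff_forall.1 hS.isPGroup _ (mul_mem hb (inv_mem ha))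
  refine Subtype.ext (mul_inv_eq_one.1 ?_).symm
  rw [← map_inv, ← map_mul, pz_eq_one]
  exact by_contra fun e2 => h4 (h.ab_comm hS hc (mul_mem hb (inv_mem ha)) e2 hm (comm_of_coprime e1
    (pow_orderOf_eq_one m ▸ Commute.one_left _) (hk ▸ Commute.one_right m) (h3.pow_right k)).symm hs)

end A

end H47.CA
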