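import Cfsg.Agent.H61.PSLMax3
import Cfsg.Agent.H61.PSLOdd

/-! The groups `PSL(2, q)`, `q` odd, which are minimal non-CA-groups. -/

set_option autoImplicit false

namespace H47.CA

open Subgroup H61 MulAction Matrix
open scoped MatrixGroups

/-- The subgroup `X` is a CA-group. -/
def CAs {G : Type*} [Group G] (X : Subgroup G) : Prop :=
  ∀ x ∈ X, ∀ g ∈ X, ∀ a ∈ X, ∀ b ∈ X, ¬ Commute x g → Commute x a → Commute x b → Commute a b

theorem cas_iff {G : Type*} [Group G] (X : Subgroup G) :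
    (∀ x : X, x ∉ center X → IsMulCommutative (centralizer ({x} : Set X))) ↔ CAs X := by
  refine ⟨fun h x hx g hg a ha b hb h1 h2 h3 => ?_, fun h x hx => ⟨⟨fun a b => ?_⟩⟩⟩
  · exact congrArg (fun y : centralizer ({⟨x, hx⟩} : Set X) => y.1.1)
      ((h ⟨x, hx⟩ fun e => h1 (congrArg Subtype.val (mem_center_iff.1 e ⟨g, hg⟩)).symm).is_comm.comm
        ⟨⟨a, ha⟩, mem_centralizer_singleton_iff.2 (Subtype.ext h2.symm)⟩
        ⟨⟨b, hb⟩, mem_centralizer_singleton_iff.2 (Subtype.ext h3.symm)⟩)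
  · obtain ⟨g, hg⟩ := not_forall.1 (mt mem_center_iff.2 hx)
    exact Subtype.ext (Subtype.ext (h x x.2 g g.2 a a.1.2 b b.1.2 (fun e => hg (Subtype.ext e.symm))
      (congrArg Subtype.val (mem_centralizer_singleton_iff.1 a.2)).symm
      (congrArg Subtype.val (mem_centralizer_singleton_iff.1 b.2)).symm))

theorem CAs.comap {G G' : Type*} [Group G] [Group G'] {X : Subgroup G} (h : CAs X) {f : G' →* G}
    (hf : Function.Injective f) : CAs (X.comap f) := fun _ hx _ hg _ ha _ hb h1 h2 h3 =>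
  (h _ hx _ hg _ ha _ hb (fun e => h1 (e.of_map hf)) (h2.map f) (h3.map f)).of_map hf

section Hur

variable {p : ℕ} {G X : Type*} [Group G] [MulAction G X] [Finite G] {h : Hur p G X} {x y : X}
  {q d n : ℕ}

theorem exists_nor_cent (m : Main h x y q d n) (hq : 4 ≤ q) {t : G} (h1 : t ≠ 1)
    (h2 : t ^ p = 1 ∨ t * t ≠ 1) :
    ∃ w, ¬ Commute t w ∧ ∀ a, Commute t a → Commute t (w * a * w⁻¹) := by
  by_cases e : t ^ p = 1
  · obtain ⟨c, hc⟩ := h.fix t
    have h3 : t ∈ h.Q c := ⟨hc, e⟩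
    have m' := m.of_mem (m.mem_orbit_of_Q fun e' => h1 (e'.le h3)) (mem_orbit_self y)
    obtain ⟨w, h4, h5⟩ := SetLike.exists_of_lt ((h.Q_le c).lt_of_ne fun e' => by
      have h4 := m'.card_stab
      rw [← e', m'.card_Q] at h4
      rcases m.params with h5 | h5 <;> nlinarith)
    refine ⟨w, fun e' => h5 (h.mem_Q_of_commute h3 h1 e'.symm), fun a ha => h.Q_comm h3 ?_⟩
    have := h.conj_mem_Q (h.mem_Q_of_commute h3 h1 ha.symm) w
    rwa [show w • c = c from h4] at this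
  · obtain ⟨a, b, hab, h3⟩ := h.exists_tor e
    have h4 := h2.resolve_left e
    obtain ⟨w, h5, h6⟩ := m.exists_swap hab fun e' => h1 (e'.le h3)
    refine ⟨w, fun e' => h4 ?_, fun c hc => ?_⟩
    · have := h.swap_conj hab h5 h6 h3
      rwa [← e'.eq, mul_inv_cancel_right, eq_inv_iff_mul_eq_one] at this
    · rw [h.swap_conj hab h5 h6 ((h.centralizer_eq_tor hab h3 h4).le
        (mem_centralizer_singleton_iff.2 hc.symm))]
      exact hc.inv_right

theorem not_cas (m : Main h x y q d (d + 1)) (hp : p ≠ 2) (hd : 3 ≤ d)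
    (hZ : ∀ t : G, t ≠ 1 → ∃ g, ¬ Commute t g) : ¬ CAs (⊤ : Subgroup G) := fun hc => by
  obtain ⟨g, k, h1, h2⟩ : ∃ (g : G) (k : ℕ), orderOf g = 2 * k ∧ 2 ≤ k := by
    obtain ⟨k, e | e⟩ := Nat.even_or_odd' d
    · obtain ⟨g, hg⟩ := m.exists_orderOf_eq_d
      exact ⟨g, k, hg.trans e, by omega⟩
    · obtain ⟨g, hg⟩ := m.exists_orderOf_eq_n
      exact ⟨g, k + 1, by omega, by omega⟩
  obtain ⟨a, b, hab, h3⟩ := h.exists_tor (g := g) fun e => hp ((Nat.prime_dvd_prime_iff_eq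
    Nat.prime_two h.prime).1 ((Dvd.intro _ h1.symm).trans (orderOf_dvd_of_pow_eq_one e))).symm
  have h4 : g ^ k ≠ 1 := pow_ne_one_of_lt_orderOf (by omega) (by omega)
  obtain ⟨w, h5, h6⟩ := m.exists_swap hab fun e' => h4 (e'.le (pow_mem h3 k))
  obtain ⟨u, hu⟩ := hZ _ h4
  have h7 := h.swap_conj hab h5 h6 (pow_mem h3 k)
  rw [inv_eq_of_mul_eq_one_right (show g ^ k * g ^ k = 1 by
    rw [← pow_add, ← two_mul, ← h1, pow_orderOf_eq_one]), mul_inv_eq_iff_eq_mul] at h7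
  have h8 := h.swap_conj hab h5 h6 h3
  rw [(hc _ trivial u trivial w trivial g trivial hu h7.symm (Commute.pow_self g k)).eq,
    mul_inv_cancel_right, eq_inv_iff_mul_eq_one, ← sq] at h8
  exact pow_ne_one_of_lt_orderOf two_ne_zero (by omega) h8

theorem core (m : Main h x y q d (d + 1)) (h4 : ¬ 4 ∣ d) (h4' : ¬ 4 ∣ d + 1) {H : Subgroup G}
    (hH : ¬ CAs H) : (∃ s ∈ H, 6 ≤ orderOf s) ∧ (∀ c : X, ¬ H ≤ stabilizer G c) ∧
      ∀ a b : X, a ≠ b → ¬ H ≤ pairStab G a b := by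
  simp only [CAs, not_forall] at hH
  obtain ⟨t, ht, g, hg, u, hu, v, hv, h1, h2, h3, h5⟩ := hH
  have h0 : t ≠ 1 := fun e => h1 (e ▸ Commute.one_left g)
  have k : ∀ {K : Subgroup G}, centralizer {t} = K → ∀ u, Commute t u → u ∈ K := fun e u hu =>
    e.le (mem_centralizer_singleton_iff.2 hu.symm)
  obtain ⟨a, b, hab, h6⟩ := h.exists_tor (g := t) fun e => by
    obtain ⟨c, hc⟩ := h.fix t
    exact h5 (h.Q_comm (k (h.centralizer_eq_Q ⟨hc, e⟩ h0) u h2) (k (h.centralizer_eq_Q ⟨hc, e⟩ h0) v h3))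
  have h7 : t * t = 1 := by_contra fun e => h5 (h.tor_comm hab
    (k (h.centralizer_eq_tor hab h6 e) u h2) (k (h.centralizer_eq_tor hab h6 e) v h3))
  have hC := h.centralizer_eq_pairStab hab h6 h0 h7
  have k1 : ∀ s ∈ tor G a b, ∀ w : G, w • a = b → w • b = a → s * s = 1 → Commute s w :=
    fun s hs w e1 e2 e3 => by
      have := h.swap_conj hab e1 e2 hs
      rw [inv_eq_of_mul_eq_one_right e3, mul_inv_eq_iff_eq_mul] at this
      exact this.symm
  obtain ⟨s, hs, h8, h9, w, hw, h10, h11⟩ : ∃ s ∈ H, s ∈ tor G a b ∧ s * s ≠ 1 ∧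
      ∃ w ∈ H, w • a = b ∧ w • b = a := by
    rcases k hC u h2 with e1 | e1 <;> rcases k hC v h3 with e2 | e2
    · exact absurd (h.tor_comm hab e1 e2) h5
    · exact ⟨u, hu, e1, fun e => h5 (k1 u e1 v e2.1 e2.2 e), v, hv, e2⟩
    · exact ⟨v, hv, e2, fun e => h5 (k1 v e2 u e1.1 e1.2 e).symm, u, hu, e1⟩
    · have e3 : u * v ∈ tor G a b := by simp [mul_smul, e1, e2]
      exact ⟨u * v, mul_mem hu hv, e3, fun e => h5 (by
        simpa using (k1 _ e3 v e2.1 e2.2 e).mul_left (Commute.refl v).inv_left), v, hv, e2⟩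
  refine ⟨⟨t * (s * s), mul_mem ht (mul_mem hs hs), ?_⟩, fun c hc => ?_, fun c c' hc e => h1 ?_⟩
  · have h12 : ¬ 2 ∣ orderOf (s * s) := fun e => by
      have h12 : 4 ∣ orderOf s := by
        rw [← sq, orderOf_pow] at e
        obtain ⟨j, e' | e'⟩ := Nat.even_or_odd' (orderOf s)
        · rw [e', Nat.gcd_eq_right (Dvd.intro _ rfl)] at e
          omega
        · have := e.trans (Nat.div_dvd_of_dvd (Nat.gcd_dvd_left _ _))
          omega
      have := h12.trans (orderOf_dvd_natCard _ h8)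
      rcases m.tor_cases hab fun e' => h0 (e'.le h6) with e' | e'
      exacts [h4 (e'.2.2 ▸ this), h4' (e'.2.2.2 ▸ this)]
    have h13 := mt orderOf_eq_one_iff.1 h9
    rw [(show Commute t (s * s) from h.tor_comm hab h6 (mul_mem h8 h8)
      ).orderOf_mul_eq_mul_orderOf_of_coprime (by
        rw [orderOf_eq_two_iff'.2 ⟨h0, h7⟩]
        exact (Nat.prime_two.coprime_iff_not_dvd).2 h12), orderOf_eq_two_iff'.2 ⟨h0, h7⟩]
    omega
  · rcases h.fix_two h0 hab h6.1 h6.2 (hc ht) with rfl | rfl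
    · exact hab ((hc hw).symm.trans h10)
    · exact hab (h11.symm.trans (hc hw))
  · have h12 : s • c = c ∧ s • c' = c' := (e hs).resolve_right fun e' => h9 (h.swap_mul_self hc e'.1 e'.2)
    have h13 : s ≠ 1 := fun e' => h9 (by rw [e', one_mul])
    refine (mem_centralizer_singleton_iff.1 (hC.ge ?_)).symm
    have h14 := e hg
    rcases h.fix_two h13 hab h8.1 h8.2 h12.1 with rfl | rfl <;>
      rcases h.fix_two h13 hab h8.1 h8.2 h12.2 with rfl | rfl
    · exact absurd rfl hc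
    · exact h14
    · exact h14.imp And.symm And.symm
    · exact absurd rfl hc

end Hur

variable {F : Type*} [Field F] [Finite F]

theorem exists_nor_cent_psl (hq : 4 ≤ Nat.card F) (p : ℕ) [Fact p.Prime] [CharP F p] {t : PSL(2, F)}
    (h1 : t ≠ 1) (h2 : t ^ p = 1 ∨ t * t ≠ 1) :
    ∃ w, ¬ Commute t w ∧ ∀ a, Commute t a → Commute t (w * a * w⁻¹) :=
  let ⟨_, m⟩ := main_psl (F := F) p
  exists_nor_cent m hq h1 h2

theorem not_cas_psl (h : Odd (Nat.card F)) (h5 : 5 < Nat.card F) :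
    ¬ CAs (⊤ : Subgroup PSL(2, F)) := by
  obtain ⟨p, _, _, y, d, hp, hd, m⟩ := main_psl_odd h
  have := isSimpleGroup_psl (F := F) (by omega)
  refine not_cas m hp (by omega) fun t ht => by_contra fun e => ?_
  push Not at e
  rcases (center PSL(2, F)).normal_of_characteristic.eq_bot_or_eq_top with e' | e'
  · exact ht (e'.le (mem_center_iff.2 fun g => (e g).symm))
  · exact not_isMulCommutative_psl ⟨⟨fun a b => mem_center_iff.1 (e'.ge (mem_top b)) a⟩⟩

theorem orderOf_le_five (h : Nat.card F = 3 ∨ Nat.card F = 5) (g : PSL(2, F)) : orderOf g ≤ 5 := by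
  obtain ⟨p, _, _, y, d, hp, hd, m⟩ := main_psl_odd (F := F) (by rcases h with h | h <;> rw [h] <;> decide)
  have := Nat.le_of_dvd (by omega) (char_dvd_card (F := F) p)
  rcases m.orderOf_cases g with e | e | e
  · exact (orderOf_le_of_pow_eq_one (Fact.out : p.Prime).pos e).trans (by omega)
  · exact (Nat.le_of_dvd m.d_pos e).trans (by omega)
  · exact (Nat.le_of_dvd d.succ_pos e).trans (by omega)

theorem core_psl (h : Nat.card F % 8 = 3 ∨ Nat.card F % 8 = 5) {H : Subgroup PSL(2, F)}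
    (hH : ¬ CAs H) : (∃ s ∈ H, 6 ≤ orderOf s) ∧ (H = ⊤ ∨ ∃ (k : Subfield F) (e : ℕ), 2 ≤ e ∧
      Nat.card k ^ e = Nat.card F ∧ Nonempty (H ≃* PSL(2, k))) := by
  have ho : Odd (Nat.card F) := Nat.odd_iff.2 (by omega)
  obtain ⟨p, _, _, y, d, hp, hd, m⟩ := main_psl_odd ho
  obtain ⟨⟨s, hs, h1⟩, h2, h3⟩ := core m (by omega) (by omega) hH
  refine ⟨⟨s, hs, h1⟩, or_iff_not_imp_left.2 fun h4 => ?_⟩
  rcases dickson_psl_proper p m H h4 with ⟨a, -, e⟩ | ⟨a, -, e⟩ | ⟨a, b, e, -, e', -⟩ | ⟨-, ⟨e⟩⟩ |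
    ⟨-, ⟨e⟩⟩ | ⟨-, ⟨e⟩⟩ | ⟨k, γ, e, h5, h6, -, -, -, ⟨f⟩⟩ | ⟨k, γ, e, h5, h6, -, -, f⟩
  · exact absurd e (h2 a)
  · exact absurd e (h2 a)
  · exact absurd e' (h3 a b e)
  · have := orderOf_le_of_alt4 e hs; omega
  · have := orderOf_le_of_sym4 e hs; omega
  · have := orderOf_le_of_alt5 e hs; omega
  · obtain ⟨j, rfl⟩ := even_of_card_pgl_dvd ho h6 (Nat.card_congr f.toEquiv ▸ card_subgroup_dvd_card H)
    rw [pow_add, ← sq] at h6
    have := Nat.pow_mod (Nat.card k ^ j) 2 8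
    have h7 := Nat.mod_lt (Nat.card k ^ j) (by norm_num : 0 < 8)
    generalize Nat.card k ^ j % 8 = r at this h7
    interval_cases r <;> omega
  · exact ⟨k, e, h5, h6, f⟩

/-- The list of the theorem. -/
def InList (q : ℕ) : Prop :=
  (q.Prime ∧ 5 < q ∧ ¬ 16 ∣ q ^ 2 - 1) ∨ ∃ p : ℕ, p.Prime ∧ p ≠ 2 ∧ (q = 3 ^ p ∨ q = 5 ^ p)

theorem InList.facts {q : ℕ} (h : InList q) : 5 < q ∧ (q % 8 = 3 ∨ q % 8 = 5) ∧
    ∀ k e : ℕ, 2 ≤ e → k ^ e = q → k = 3 ∨ k = 5 := by
  rcases h with ⟨h1, h2, h3⟩ | ⟨p, h1, h2, h3⟩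
  · refine ⟨h2, by_contra fun e => h3 ?_, fun k e h4 h5 => absurd h5 (not_pow_eq_prime h1 h4)⟩
    have h4 := h1.eq_two_or_odd.resolve_left (by omega)
    have h5 : q ^ 2 % 16 = 1 := by
      have := Nat.pow_mod q 2 16
      have h7 := Nat.mod_lt q (by norm_num : 0 < 16)
      have h8 : q % 16 % 8 = q % 8 := by omega
      generalize q % 16 = r at this h7 h8
      interval_cases r <;> omega
    omega
  · have h4 := h1.odd_of_ne_two h2
    have h5 : ∀ r : ℕ, r.Prime → ∀ k e, 2 ≤ e → k ^ e = r ^ p → k = r := fun r hr k e h5 h6 => by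
      obtain ⟨c, -, hc⟩ := (Nat.dvd_prime_pow hr).1 (h6 ▸ dvd_pow_self k (by omega : e ≠ 0))
      exact eq_of_pow_prime hr.two_le h1 h5 hc h6
    have h6 := h1.two_le
    rcases h3 with rfl | rfl
    · exact ⟨lt_of_lt_of_le (by norm_num) (Nat.pow_le_pow_right (by norm_num) h6),
        .inl (pow_odd_mod_eight (by decide) h4), fun k e h7 h8 => .inl (h5 3 (by norm_num) k e h7 h8)⟩
    · exact ⟨lt_of_lt_of_le (by norm_num) (Nat.pow_le_pow_right (by norm_num) h6),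
        .inr (pow_odd_mod_eight (by decide) h4), fun k e h7 h8 => .inr (h5 5 (by norm_num) k e h7 h8)⟩

theorem cas_of_list (h : InList (Nat.card F)) {H : Subgroup PSL(2, F)} (hH : H ≠ ⊤) : CAs H := by
  obtain ⟨-, h1, h2⟩ := h.facts
  by_contra h3
  obtain ⟨⟨s, hs, h4⟩, e | ⟨k, e, h5, h6, ⟨f⟩⟩⟩ := core_psl h1 h3
  · exact hH e
  have := orderOf_le_five (h2 _ _ h5 h6) (f ⟨s, hs⟩)
  rw [← orderOf_eq_of_equiv f hs] at this
  omega

theorem list_of_cas (h : Nat.card F % 8 = 3 ∨ Nat.card F % 8 = 5) (h1 : ¬ CAs (⊤ : Subgroup PSL(2, F)))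
    (h2 : ∀ H : Subgroup PSL(2, F), H ≠ ⊤ → CAs H) : InList (Nat.card F) := by
  obtain ⟨⟨s, -, h3⟩, -⟩ := core_psl h h1
  have h4 : 5 < Nat.card F := by_contra fun e => by
    have := orderOf_le_five (F := F) (by omega) s
    omega
  obtain ⟨p, hp, _⟩ := exists_char F
  obtain ⟨f, h5, h6⟩ := exists_card_eq_pow (F := F) p
  by_cases h7 : f = 1
  · refine .inl ⟨by rw [h6, h7, pow_one]; exact hp.out, h4, fun e => ?_⟩
    have := Nat.pow_mod (Nat.card F) 2 16
    have h8 := Nat.mod_lt (Nat.card F) (by norm_num : 0 < 16)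
    have h9 : Nat.card F % 16 % 8 = Nat.card F % 8 := by omega
    have h10 : 0 < Nat.card F ^ 2 := by positivity
    generalize Nat.card F % 16 = r at this h8 h9
    interval_cases r <;> omega
  obtain ⟨r, hr, c, rfl⟩ := Nat.exists_prime_and_dvd h7
  have h8 : c ≠ 0 := by rintro rfl; simp at h5
  have h9 : Nat.card (GaloisField p c) ^ r = Nat.card F := by
    rw [GaloisField.card p c h8, h6, ← pow_mul, mul_comm]
  obtain ⟨ι⟩ := nonempty_ringHom_of_card_pow h9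
  have h10 := (h2 _ (range_pslMap_ne_top ι hr.two_le h9)).comap (pslMap_injective ι)
  rw [MonoidHom.comap_range_self] at h10
  have h11 := odd_of_pow hr.two_le h9 (Nat.odd_iff.2 (by omega))
  have h12 := mt (not_cas_psl h11) (not_not.2 h10)
  have h13 := two_le_card_field (F := GaloisField p c)
  refine .inr ⟨r, hr, ?_, ?_⟩
  · rintro rfl
    have := Nat.pow_mod (Nat.card (GaloisField p c)) 2 8
    have h7 := Nat.mod_lt (Nat.card (GaloisField p c)) (by norm_num : 0 < 8)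
    generalize Nat.card (GaloisField p c) % 8 = r at this h7
    interval_cases r <;> omega
  · rw [← h9]
    rcases (show Nat.card (GaloisField p c) = 3 ∨ Nat.card (GaloisField p c) = 5 by
      obtain ⟨j, hj⟩ := h11; omega) with e | e <;> simp [e]

end H47.CA
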