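import Cfsg.Agent.H47.CA2
import Cfsg.Agent.H47.CA3
import Cfsg.Agent.H10.WBFinal
import Cfsg.Agent.H24.OrdA
import Cfsg.Agent.H85.Wrap1
import Cfsg.Agent.S0483
import Cfsg.Agent.S2086
import Cfsg.Agent.H30.WBSet
import Cfsg.Agent.H21.MultCard
import Cfsg.Agent.H61.DicksonGen

/-! The nonsolvable minimal non-CA-groups. -/

set_option autoImplicit false
set_option linter.unusedSectionVars false

namespace H47.CA

open Cfsg Subgroup H98 H61 H57 Matrix
open scoped commutatorElement MatrixGroups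

universe u

variable {G : Type u} [Group G] [Finite G] {S : Subgroup G} {M : Subgroup (G ⧸ center G)}

theorem Hyp.sol_inv (h : Hyp G) (hS : IsSyl 2 S ⊤) {t : G ⧸ center G} (ht : orderOf t = 2) :
    Group.IsSolvable (centralizer ({t} : Set _)) := by
  have h1 : t ^ 2 ^ 1 = 1 := by rw [pow_one, ← ht, pow_orderOf_eq_one]
  have h2 : t ≠ 1 := fun e => by simp [e] at ht
  by_cases hc : ∀ a ∈ S, ∀ b ∈ S, Commute a b
  · obtain ⟨g, s, hs, rfl⟩ := exists_lift hS h1
    refine h.ab_sol (hS.cj_of_mem (mem_top g)) ?_ (mem_map_of_mem _ hs) (mt pz_eq_one.2 h2)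
    rintro _ ⟨a, ha, rfl⟩ _ ⟨b, hb, rfl⟩
    exact (hc a ha b hb).conj g
  · obtain ⟨t, rfl⟩ := QuotientGroup.mk'_surjective _ t
    exact sol_cent (h.good_two hS hc (mt pz_eq_one.2 h2) h1)

theorem Hyp.not_alt7 (h : Hyp G) (hS : IsSyl 2 S ⊤) (hn : ¬ ∀ a ∈ S, ∀ b ∈ S, Commute a b)
    (e : M ≃* alternatingGroup (Fin 7)) : False := by
  let f := M.subtype.comp e.symm.toMonoidHom
  have hf : Function.Injective f := M.subtype_injective.comp e.symm.injective
  let d : alternatingGroup (Fin 7) := ⟨c[0, 2, 1, 3] * c[4, 5], Equiv.Perm.mem_alternatingGroup.2 (by decide)⟩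
  let x : alternatingGroup (Fin 7) := ⟨c[4, 5, 6], Equiv.Perm.mem_alternatingGroup.2 (by decide)⟩
  obtain ⟨d', hd⟩ := QuotientGroup.mk'_surjective _ (f d)
  obtain ⟨x', hx⟩ := QuotientGroup.mk'_surjective _ (f x)
  have h1 : pz G (d' * d') = f (d * d) := by rw [map_mul, map_mul, hd]
  have h2 : pz G (d' * d') ^ 2 ^ 1 = 1 := by
    rw [h1, ← map_pow, show (d * d) ^ 2 ^ 1 = 1 by decide, map_one]
  have h3 := (h.good_two hS hn (fun e' => absurd (hf ((h1.symm.trans (pz_eq_one.2 e')).trans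
    (map_one f).symm)) (by decide)) h2 d' x' ((Commute.refl _).mul_left (Commute.refl _))
    (comm_of_coprime (m := 2 ^ 1) (n := 3) (by
      rw [h1, hx]; exact Commute.map (show d * d * x = x * (d * d) by decide) f)
    (comm_center (pz_eq_one.1 (by rw [map_pow, h2])) _).symm
    (comm_center (pz_eq_one.1 (by
      rw [map_pow, hx, ← map_pow, show x ^ 3 = 1 by decide, map_one])) _) (by norm_num))).map (pz G)
  rw [hd, hx] at h3
  exact absurd (h3.of_map hf).eq (by decide)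

variable [hM : M.Normal] [IsSimpleGroup M]

theorem Hyp.exists_psl (h : Hyp G) (hS : IsSyl 2 S ⊤) (hn : ¬ IsMulCommutative M) :
    ∃ (F : Type) (_ : Field F) (_ : Fintype F), 4 ≤ Nat.card F ∧ Nonempty (M ≃* PSL(2, F)) ∧
      ((∀ a ∈ S, ∀ b ∈ S, Commute a b) →
        Even (Nat.card F) ∨ Nat.card F % 8 = 3 ∨ Nat.card F % 8 = 5) := by
  have h1 := ((isSyl_pz hS).inf_of_le_normalizer (N := M) le_top le_normalizer_of_normal).subgroupOf_top
  rw [inf_subgroupOf_right] at h1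
  have key : IsMulCommutative h1.toSylowTop → ∃ (F : Type) (_ : Field F) (_ : Fintype F),
      4 ≤ Nat.card F ∧ Nonempty (M ≃* PSL(2, F)) ∧
        (Even (Nat.card F) ∨ Nat.card F % 8 = 3 ∨ Nat.card F % 8 = 5) := fun e => by
    rcases H24.l2_of_solvable H10.W.walterA' hn (H10.W.ab2_of_sylow _ e) fun t ht => by
      have := h.sol_inv hS ((orderOf_coe t).trans ht)
      exact H24.solvable_of_le (L := (centralizer {t.1}).subgroupOf M) (fun g hg =>
        mem_centralizer_singleton_iff.2 (congrArg Subtype.val (mem_centralizer_singleton_iff.1 hg)))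
        (H2.isSolvable_subgroupOf _ _) with ⟨n, h2, F, _, _, h3, e⟩ | ⟨q, h2, h4, F, _, _, h3, e⟩
    · rw [← Nat.card_eq_fintype_card] at h3
      exact ⟨F, _, ‹_›, (Nat.pow_le_pow_right two_pos h2).trans h3.ge, e,
        .inl (h3 ▸ (Nat.even_pow' (by omega)).2 even_two)⟩
    · rw [← Nat.card_eq_fintype_card] at h3
      exact ⟨F, _, ‹_›, by omega, e, .inr (h3 ▸ h4)⟩
  by_cases hc : ∀ a ∈ S, ∀ b ∈ S, Commute a b
  · obtain ⟨F, _, _, h2, h3, h4⟩ := key ⟨⟨by
      rintro ⟨x, a, ha, e1⟩ ⟨y, b, hb, e2⟩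
      have := (hc a ha b hb).map (pz G)
      rw [e1, e2] at this
      exact Subtype.ext (Subtype.ext this)⟩⟩
    exact ⟨F, _, ‹_›, h2, h3, fun _ => h4⟩
  rcases h.dih hS hc hn h1.toSylowTop rfl with e | ⟨n, h2, e⟩
  · obtain ⟨F, _, _, h2, h3, h4⟩ := key e
    exact ⟨F, _, ‹_›, h2, h3, fun _ => h4⟩
  rcases H85.gw_simple @Cfsg.Agent.S0483.result hn _ h2 e with ⟨F, _, _, -, h3, e⟩ | ⟨⟨e⟩⟩
  · exact ⟨F, _, ‹_›, by rw [Nat.card_eq_fintype_card]; exact h3, e, fun e => absurd e hc⟩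
  · exact (h.not_alt7 hS hc e).elim

variable {F : Type} [Field F] [Fintype F]

theorem Hyp.good_of_mem (h : Hyp G) (hC : centralizer (M : Set (G ⧸ center G)) = ⊥)
    (e : M ≃* PSL(2, F)) (hq : 4 ≤ Nat.card F) (p : ℕ) [Fact p.Prime] [CharP F p] {x : G}
    (hx : pz G x ∈ M) (h1 : pz G x ≠ 1) (h2 : pz G x ^ p = 1 ∨ pz G x * pz G x ≠ 1) : Good x := by
  by_contra hb
  have k : ∀ a b : M, Commute (e a) (e b) ↔ Commute a.1 b.1 := fun a b =>
    ⟨fun h => (h.of_map e.injective).map M.subtype, fun h => Commute.map (Subtype.ext h : a * b = b * a) e⟩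
  obtain ⟨w, h3, h4⟩ := exists_nor_cent_psl hq p (t := e ⟨_, hx⟩)
    (fun e' => h1 (congrArg Subtype.val (e.map_eq_one_iff.1 e')))
    (h2.imp (fun e' => by rw [← map_pow, e.map_eq_one_iff]; exact Subtype.ext e') fun e' e'' =>
      e' (congrArg Subtype.val (e.map_eq_one_iff.1 ((map_mul e _ _).trans e''))))
  obtain ⟨⟨w, hw⟩, rfl⟩ := e.surjective w
  obtain ⟨w, rfl⟩ := QuotientGroup.mk'_surjective _ w
  set D := M ⊓ centralizer {pz G x}
  refine h3 ((k _ _).2 ((h.bad_comm hb (X := (normalizer (D : Set _)).comap (pz G)) (fun e' => ?_)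
    (fun a ha => mem_normalizer_of_cj_le ?_) (mem_normalizer_of_cj_le ?_)).map (pz G)))
  · have : D.Normal := normalizer_eq_top_iff.1 (eq_top_iff.2 fun g _ => by
      obtain ⟨g, rfl⟩ := QuotientGroup.mk'_surjective _ g
      exact e'.ge (mem_top g))
    rcases (this.subgroupOf M).eq_bot_or_eq_top with e'' | e''
    · exact h1 (congrArg Subtype.val (e''.le (show (⟨_, hx⟩ : M) ∈ _ from
        ⟨hx, mem_centralizer_singleton_iff.2 rfl⟩)))
    · exact h1 (hC.le fun m hm => mem_centralizer_singleton_iff.1 (e''.ge (mem_top ⟨m, hm⟩)).2)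
  · rintro _ ⟨b, hb, rfl⟩
    refine ⟨hM.conj_mem b hb.1 _, mem_centralizer_singleton_iff.2 ?_⟩
    have := (show Commute b _ from mem_centralizer_singleton_iff.1 hb.2).conj (pz G a)
    rwa [← (ha.map (pz G)).eq, mul_inv_cancel_right] at this
  · rintro _ ⟨b, hb, rfl⟩
    refine ⟨hM.conj_mem b hb.1 _, mem_centralizer_singleton_iff.2 ?_⟩
    have := h4 _ ((k _ ⟨b, hb.1⟩).2 (mem_centralizer_singleton_iff.1 hb.2).symm)
    rw [← map_inv, ← map_mul, ← map_mul, k] at this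
    exact this.symm

omit hM [IsSimpleGroup M] in
theorem pow_mult (e : M ≃* PSL(2, F)) (hq : 4 ≤ Nat.card F) (h4 : Nat.card F ≠ 4)
    (h9 : Nat.card F ≠ 9) {z : G} (hz : z ∈ center G) (hz' : z ∈ ⁅M.comap (pz G), M.comap (pz G)⁆) :
    z ^ Nat.gcd 2 (Nat.card F - 1) = 1 := by
  have h1 := H21.pow_multCard_subgroup (π := pz G) ⟨QuotientGroup.mk'_surjective _,
    (QuotientGroup.ker_mk' _).le⟩ M (pz_eq_one.2 hz) hz'
  rwa [← H21.multCard_congr e, H21.multCard_eq (Cfsg.Agent.S2086.result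
    Nat.card_eq_fintype_card.symm 2 le_rfl (fun _ => hq) (by simp [-Nat.card_eq_fintype_card, h4, h9])),
    Nat.card_congr Multiplicative.toAdd, Nat.card_zmod] at h1

theorem exists_lift_comm (hn : ¬ IsMulCommutative M) {y : G ⧸ center G} (hy : y ∈ M) :
    ∃ u ∈ ⁅M.comap (pz G), M.comap (pz G)⁆, pz G u = y := by
  have h1 : ⁅M.comap (pz G), M.comap (pz G)⁆.map (pz G) = M := by
    rw [map_commutator, map_comap_eq_self_of_surjective (QuotientGroup.mk'_surjective _),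
      ← map_subtype_commutator, H87.commutator_eq_top hn, ← MonoidHom.range_eq_map, range_subtype]
  exact h1.ge hy

theorem Hyp.odd_mem (h : Hyp G) (hn : ¬ IsMulCommutative M)
    (hC : centralizer (M : Set (G ⧸ center G)) = ⊥) (e : M ≃* PSL(2, F)) (hq : 4 ≤ Nat.card F)
    {x : G ⧸ center G} {m : ℕ} (hm : Odd m) (hx : x ^ m = 1) : x ∈ M := by
  obtain ⟨φ, R⟩ := H24.GW.exists_rep hC e
  obtain ⟨p, hp, _⟩ := exists_char F
  obtain ⟨y, σ, h1⟩ : ∃ (y : PSL(2, F)) (σ : RingAut F),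
      φ x = MulAut.conj y * pslField (Fin 2) F σ := by
    rcases Nat.even_or_odd (Nat.card F) with e' | e'
    · obtain ⟨g, σ, h1⟩ := psl_aut_two (φ x)
      obtain ⟨y, hy⟩ := toP_surjective_of_even e' (ProjGenLinGroup.mk g)
      exact ⟨y, σ, by rw [h1, ← H24.GW.pglDiag_toP, hy, pglDiag_mk]⟩
    · exact H30.WB.exists_inner_field e' hm (by rw [← map_pow, hx, map_one]; exact one_mem _)
  suffices σ = 1 from R.mem_iff.1 ⟨y, by rw [h1, this, map_one, mul_one]⟩
  obtain ⟨π, h2, h3⟩ := exists_aut_psl_two_proj (F := F)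
  have h4 : σ ^ m = 1 := by
    have := congrArg π h1
    rw [map_mul, show π _ = 1 from h2.ge (H24.GW.inn_le ⟨y, rfl⟩), one_mul, h3] at this
    rw [← this, ← map_pow, ← map_pow, hx, map_one, map_one]
  by_cases h5 : Nat.card F = 4 ∨ Nat.card F = 9
  · have : Nat.card (RingAut F) = 2 := by
      rw [Nat.card_eq_fintype_card] at h5
      rcases h5 with e' | e'
      exacts [card_ringAut_finite_field (p := 2) e', card_ringAut_finite_field (p := 3) e']
    exact H21.eq_one_of_pow_of_coprime hm.coprime_two_right h4 (this ▸ pow_card_eq_one')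
  push Not at h5
  obtain ⟨y, rfl⟩ := e.surjective y
  obtain ⟨x', hx'⟩ := QuotientGroup.mk'_surjective _ (y.1⁻¹ * x)
  have h6 : φ (pz G x') = pslField (Fin 2) F σ := by
    rw [hx', map_mul, map_inv, R.inner, h1, inv_mul_cancel_left]
  have k : ∀ c : F, ∃ u ∈ ⁅M.comap (pz G), M.comap (pz G)⁆, pz G u = e.symm (proj F (upper c)) ∧
      pz G u ^ p = 1 ∧ ∀ a, Commute (pz G a) (pz G u) → Commute a u := fun c => by
    obtain ⟨u, hu, h7⟩ := exists_lift_comm hn (e.symm (proj F (upper c))).2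
    have h8 : pz G u ^ p = 1 := by
      rw [h7, ← coe_pow, ← map_pow, ← map_pow, upper_pow_char, map_one, map_one, coe_one]
    refine ⟨u, hu, h7, h8, fun a ha => ?_⟩
    obtain ⟨z, hz, h9⟩ := exists_conj ha
    have h10 := conj_pow_left hz h9 (Nat.gcd 2 (Nat.card F - 1))
    rw [pow_mult e hq h5.1 h5.2 hz (by
      rw [← mul_inv_eq_iff_eq_mul.2 h9]
      exact mul_mem (Normal.conj_mem inferInstance u hu a) (inv_mem hu)), one_mul,
      mul_inv_eq_iff_eq_mul] at h10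
    refine comm_of_coprime ha h10 (comm_center (pz_eq_one.1 ((map_pow _ _ _).trans h8)) a)
      (Nat.Coprime.coprime_dvd_left (Nat.gcd_dvd_right _ _) ?_)
    exact ((Nat.coprime_self_sub_left (by omega)).2 (Nat.coprime_one_left _)).coprime_dvd_right
      (char_dvd_card p)
  have k1 : ∀ c : F, pslField (Fin 2) F σ (proj F (upper c)) = proj F (upper (σ c)) := fun c =>
    (pslField_mk σ _).trans (congrArg _ (Subtype.ext (by
      rw [slField_coe, upper_coe, upper_coe]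
      ext i j
      fin_cases i <;> fin_cases j <;> simp)))
  obtain ⟨u, -, h7, h8, h9⟩ := k 1
  have h10 := h.good_of_mem hC e hq p (h7 ▸ (e.symm _).2) (fun e' => proj_upper_ne_one
    (one_ne_zero' F) (e.symm.map_eq_one_iff.1 (Subtype.ext (h7.symm.trans e')))) (.inl h8)
  ext c
  obtain ⟨v, -, h11, -, -⟩ := k c
  have h12 := (h10 x' v (h9 x' (by
    rw [h7]
    exact R.commute_of_fix (by rw [h6, e.apply_symm_apply, k1, map_one]))).symm (h9 v (by
    rw [h7, h11]
    refine Commute.map (Commute.map (Commute.map ?_ _) _) M.subtype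
    change _ = _
    rw [← upper_add, ← upper_add, add_comm])).symm).map (pz G)
  rw [h11] at h12
  have h13 := R.act (pz G x') _ _ (mul_inv_eq_iff_eq_mul.2 h12.eq)
  rw [h6, e.apply_symm_apply, k1, ← mul_inv_eq_one, ← map_inv, ← map_mul, ← upper_neg,
    ← upper_add] at h13
  exact add_neg_eq_zero.1 (by_contra fun e' => proj_upper_ne_one e' h13)

omit hM [IsSimpleGroup M] in
theorem Hyp.perfect (h : Hyp G) [IsSimpleGroup (⊤ : Subgroup (G ⧸ center G))]
    (hn : ¬ IsMulCommutative (⊤ : Subgroup (G ⧸ center G))) (hb : ¬ CAs (⊤ : Subgroup G)) :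
    ⁅(⊤ : Subgroup G), (⊤ : Subgroup G)⁆ = ⊤ := by_contra fun e' => hb fun x _ g _ a _ b _ h1 h2 h3 => by
  have k1 : ∀ x : G, ∃ x' ∈ ⁅(⊤ : Subgroup G), (⊤ : Subgroup G)⁆, ∀ y, Commute x' y ↔ Commute x y :=
    fun x => by
      obtain ⟨u, hu, h1⟩ := exists_lift_comm hn (y := pz G x) trivial
      rw [comap_top] at hu
      have h2 : x * u⁻¹ ∈ center G := pz_eq_one.1 (by rw [map_mul, map_inv, h1, mul_inv_cancel])
      exact ⟨u, hu, fun y => ⟨fun e => by simpa using (comm_center h2 y).symm.mul_left e,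
        fun e => by simpa using (comm_center h2 y).symm.inv_left.mul_left e⟩⟩
  obtain ⟨x', h4, h5⟩ := k1 x
  obtain ⟨g', h6, h7⟩ := k1 g
  obtain ⟨a', h8, h9⟩ := k1 a
  obtain ⟨b', h10, h11⟩ := k1 b
  exact ((h11 a).1 ((h9 b').1 (h.ca _ e' x' h4 g' h6 a' h8 b' h10
    (fun e => h1 ((h7 x).1 ((h5 g').1 e).symm).symm) ((h5 a').2 ((h9 x).2 h2.symm).symm)
    ((h5 b').2 ((h11 x).2 h3.symm).symm))).symm).symm

omit hM [IsSimpleGroup M] in
theorem center_bot (hS : IsSyl 2 S ⊤) (hc : ∀ a ∈ S, ∀ b ∈ S, Commute a b)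
    (e : (⊤ : Subgroup (G ⧸ center G)) ≃* PSL(2, F)) (hq : 4 ≤ Nat.card F)
    (h8 : Nat.card F % 8 = 3 ∨ Nat.card F % 8 = 5) (h6 : commutator G = ⊤) : center G = ⊥ :=
  eq_bot_iff.2 fun z hz => by
    have h9 := pow_mult e hq (by omega) (by omega) hz (by rw [comap_top]; exact h6.ge (mem_top z))
    rw [gcd_two_of_odd (Nat.odd_iff.2 (by omega))] at h9
    have h10 := H21.pow_index_mem_commutator S hz (h6.ge (mem_top z))
    rw [commutator_eq_bot_iff_le_centralizer.2 fun a ha b hb => (hc b hb a ha).eq] at h10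
    have h11 := odd_relIndex hS
    rw [relIndex_top_right] at h11
    exact H21.eq_one_of_pow_of_coprime h11.coprime_two_right h10 h9

omit hM [IsSimpleGroup M] in
theorem Hyp.main (h : Hyp G) (hb : ¬ CAs (⊤ : Subgroup G)) :
    ∃ (F : Type) (_ : Field F) (_ : Fintype F), Nonempty (G ≃* PSL(2, F)) ∧
      (Nat.card F % 8 = 3 ∨ Nat.card F % 8 = 5) := by
  obtain ⟨M, _, _, hn, hC⟩ := h.exists_socle
  obtain ⟨S, hS⟩ := exists_isSyl 2 (⊤ : Subgroup G)
  obtain ⟨F, _, _, hq, ⟨e⟩, h8⟩ := h.exists_psl hS hn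
  obtain ⟨p, hp, _⟩ := exists_char F
  obtain ⟨x, h1, h2⟩ : ∃ x, pz G x ≠ 1 ∧ ¬ Good x := by
    by_contra! e'
    exact hb fun x _ g _ a _ b _ h1 => e' x (fun e'' => h1 (comm_center (pz_eq_one.1 e'') g).symm) a b
  have k : ∀ g : G ⧸ center G, ∃ k m, Odd m ∧ (g ^ 2 ^ k) ^ m = 1 := fun g => by
    obtain ⟨k, m, h1, h2⟩ := Nat.exists_eq_two_pow_mul_odd (orderOf_pos g).ne'
    exact ⟨k, m, h1, by rw [← pow_mul, ← h2, pow_orderOf_eq_one]⟩
  obtain ⟨j, m, h3, h4⟩ := k (pz G x)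
  have h5 : pz G x ^ 2 ^ j = 1 := by_contra fun e' => by
    rw [← map_pow] at h4 e'
    exact h2 fun a b h1 h2 => h.good_of_mem hC e hq p (h.odd_mem hn hC e hq h3 h4) e'
      (.inr fun e'' => e' (H21.eq_one_of_pow_of_coprime h3.coprime_two_right h4 ((sq _).trans e'')))
      a b (h1.pow_left _) (h2.pow_left _)
  have hc : ∀ a ∈ S, ∀ b ∈ S, Commute a b := by_contra fun e' =>
    h2 (h.good_two hS e' (mt pz_eq_one.2 h1) h5)
  obtain rfl : M = ⊤ := h.ab_top hS hc fun g => by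
    obtain ⟨j, _, h1, h2⟩ := k g
    exact ⟨j, h.odd_mem hn hC e hq h1 h2⟩
  replace h8 := (h8 hc).resolve_left fun e' => h2 (h.good_of_mem hC e hq p trivial h1 (by
    rw [← eq_char_of_prime_dvd (F := F) p Nat.prime_two e'.two_dvd, sq]
    exact em _))
  have h7 := center_bot hS hc e hq h8 (h.perfect hn hb)
  have e1 : G ≃* G ⧸ center G :=
    QuotientGroup.quotientBot.symm.trans (QuotientGroup.quotientMulEquivOfEq h7.symm)
  exact ⟨F, inferInstance, inferInstance, ⟨e1.trans (topEquiv.symm.trans e)⟩, h8⟩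

theorem cas_congr {A B : Type*} [Group A] [Group B] (e : A ≃* B)
    (h : ∀ H : Subgroup B, H ≠ ⊤ → CAs H) (H : Subgroup A) (hH : H ≠ ⊤) : CAs H := by
  have := (h (H.map e.toMonoidHom) fun e' => hH (map_injective (f := e.toMonoidHom) e.injective
    (e'.trans (map_top_of_surjective _ e.surjective).symm))).comap (f := e.toMonoidHom) e.injective
  rwa [comap_map_eq_self_of_injective e.injective] at this

omit hM [IsSimpleGroup M] in
theorem s4369 : (¬ Group.IsSolvable G ∧ ¬ CAs (⊤ : Subgroup G) ∧ ∀ H : Subgroup G, H ≠ ⊤ → CAs H) ↔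
    ∃ (F : Type) (_ : Field F) (_ : Fintype F), Nonempty (G ≃* PSL(2, F)) ∧
      InList (Fintype.card F) := by
  refine ⟨fun ⟨h1, h2, h3⟩ => ?_, fun ⟨F, _, _, ⟨e⟩, h⟩ => ?_⟩
  · obtain ⟨F, _, _, ⟨e⟩, h4⟩ := Hyp.main ⟨h3, h1⟩ h2
    exact ⟨F, _, _, ⟨e⟩, Nat.card_eq_fintype_card (α := F) ▸ list_of_cas h4
      (fun e' => h2 (e'.comap (f := e.toMonoidHom) e.injective)) (cas_congr e.symm h3)⟩
  · rw [← Nat.card_eq_fintype_card] at h
    obtain ⟨h1, h2, -⟩ := h.facts
    exact ⟨fun _ => not_isSolvable_psl (F := F) (by omega) (H2.isSolvable_of_mulEquiv e),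
      fun e' => not_cas_psl (Nat.odd_iff.2 (by omega)) h1
        (e'.comap (f := e.symm.toMonoidHom) e.symm.injective), cas_congr e fun H => cas_of_list h⟩

end H47.CA
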