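import Cfsg.Agent.H96.U2CenSpec
import Cfsg.Agent.H48.DP3Kit

/-! S3275, chapter U2F, central case: the facts at one vertex. -/

set_option autoImplicit false

namespace H47.CenVx

open Subgroup Cfsg H98 H48.DP H96.U2I H96.Cen
open scoped commutatorElement

universe u

theorem jobVx : JobVx.{u} := by
  intro G _ _ M Q T R Q0 F y z c hz ab
  set v := y * z * y⁻¹ with hv
  set M0 := T ⊔ F with hM0
  have MM : M0 ≤ M := sup_le c.TM c.FM
  have QT : Q ≤ T := c.QQ.trans c.QT
  have nQ : M0 ≤ No Q0 := sup_le c.TQ c.FQ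
  have Mz : M0 ≤ C1 z := sup_le (fun t ht => mem_C1.2 (mem_Ce.1 hz.zc t ht).symm)
    fun f hf => mem_C1.2 (mem_Ce.1 (c.cen z (c.RT hz.zR) hz.zc hz.zz) f hf).symm
  have zM : ∀ m ∈ M0, Commute m z := fun m hm => (mem_C1.1 (Mz hm)).symm
  have gen : ∀ m ∈ M0, m * v * m⁻¹ ∈ Uv M0 v := fun m hm => subset_closure ⟨m, hm, rfl⟩
  have vU : v ∈ Uv M0 v := by simpa using gen 1 M0.one_mem
  have vv : v * v = 1 := by
    calc v * v = y * (z * z) * y⁻¹ := by rw [hv]; group
      _ = 1 := by rw [hz.zz]; group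
  have UQ : Uv M0 v ≤ Q := (closure_le _).2 (by
    rintro _ ⟨m, hm, rfl⟩
    exact conj_mem_of_mem_normalizer (c.MQ (MM hm)) ab.1)
  have UM : Uv M0 v ≤ M0 := UQ.trans (QT.trans le_sup_left)
  have hab : ∀ a ∈ Uv M0 v, ∀ b ∈ Uv M0 v, Commute a b := by
    have h1 : ∀ m ∈ M0, ∀ n ∈ M0, Commute (m * v * m⁻¹) (n * v * n⁻¹) := fun m hm n hn => by
      have h2 := mem_Ce.1 hz.vc _ (ab.2 _ (Mz (M0.mul_mem (M0.inv_mem hm) hn)))
      rw [← hv] at h2
      calc m * v * m⁻¹ * (n * v * n⁻¹) = m * (v * (m⁻¹ * n * v * (m⁻¹ * n)⁻¹)) * m⁻¹ := by group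
        _ = n * v * n⁻¹ * (m * v * m⁻¹) := by rw [← h2]; group
    intro a ha b hb
    induction ha using closure_induction with
    | mem a ha =>
      obtain ⟨m, hm, rfl⟩ := ha
      induction hb using closure_induction with
      | mem b hb =>
        obtain ⟨n, hn, rfl⟩ := hb
        exact h1 m hm n hn
      | one => exact Commute.one_right _
      | mul _ _ _ _ h h' => exact h.mul_right h'
      | inv _ _ h => exact h.inv_right
    | one => exact Commute.one_left _
    | mul _ _ _ _ h h' => exact h.mul_left h'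
    | inv _ _ h => exact h.inv_left
  have el : ∀ a ∈ Uv M0 v, a * a = 1 := by
    intro a ha
    induction ha using closure_induction with
    | mem a ha =>
      obtain ⟨m, -, rfl⟩ := ha
      calc m * v * m⁻¹ * (m * v * m⁻¹) = m * (v * v) * m⁻¹ := by group
        _ = 1 := by rw [vv]; group
    | one => simp
    | mul a b ha hb h h' =>
      rw [mul_assoc, ← mul_assoc b, ← (hab a ha b hb).eq, mul_assoc, h', mul_one, h]
    | inv a _ h => rw [← mul_inv_rev, h, inv_one]
  have nN : M0 ≤ No (Q0 ⊔ F) := by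
    refine sup_le (fun t ht => mem_normalizer_fintype fun n hn => ?_)
      (le_sup_right.trans le_normalizer)
    obtain ⟨q, hq, f, hf, rfl⟩ := (mem_sup_right_norm c.FQ).1 hn
    obtain ⟨f', hf', h⟩ := c.TF t ht f hf
    rw [show t * (q * f) * t⁻¹ = t * q * t⁻¹ * (t * f * t⁻¹ * f'⁻¹) * f' by group]
    exact mul_mem (mem_sup_left (mul_mem (conj_mem_of_mem_normalizer (c.TQ ht) hq) h))
      (mem_sup_right hf')
  have nF : ∀ m ∈ M0, ∀ f ∈ F, ∃ f' ∈ F, m * f * m⁻¹ * f'⁻¹ ∈ Q0 := fun m hm f hf => by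
    obtain ⟨q, hq, f', hf', e⟩ := (mem_sup_right_norm c.FQ).1
      (conj_mem_of_mem_normalizer (nN hm) (mem_sup_right hf))
    exact ⟨f', hf', by rwa [e, mul_inv_cancel_right]⟩
  refine ⟨MM, le_sup_right, c.QT.trans le_sup_left, c.MQ, c.QQ, UQ, fun m hm => ?_, nQ, ?_, hz.z1,
    zM, el, hab, fun q hq a ha => ?_, nF, c.F3, c.e27, fun f hf h => ?_, fun g hg gg h => ?_, hz.cz,
    fun w w1 ww ⟨E, EF, e1, e2, e3⟩ => ?_, c.ti, c.fix⟩
  · refine mem_normalizer_fintype fun a ha => ?_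
    induction ha using closure_induction with
    | mem a ha =>
      obtain ⟨n, hn, rfl⟩ := ha
      rw [show m * (n * v * n⁻¹) * m⁻¹ = m * n * v * (m * n)⁻¹ by group]
      exact gen _ (M0.mul_mem hm hn)
    | one => simp
    | mul a b _ _ h h' =>
      rw [show m * (a * b) * m⁻¹ = m * a * m⁻¹ * (m * b * m⁻¹) by group]
      exact mul_mem h h'
    | inv a _ h =>
      rw [show m * a⁻¹ * m⁻¹ = (m * a * m⁻¹)⁻¹ by group]
      exact inv_mem h
  · obtain ⟨q, hq, hq'⟩ := c.nQ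
    rw [← hz.cm q (QT hq) hq', commutatorElement_def]
    exact mul_mem (gen q (mem_sup_left (QT hq))) (inv_mem vU)
  · induction ha using closure_induction with
    | mem a ha =>
      obtain ⟨m, hm, rfl⟩ := ha
      have h1 := c.QT (conj_mem_of_mem_normalizer' (nQ hm) hq)
      have e : ⁅q, m * v * m⁻¹⁆ = m * ⁅m⁻¹ * q * m, v⁆ * m⁻¹ := by
        simp only [commutatorElement_def]; group
      rw [e]
      by_cases h2 : m⁻¹ * q * m ∈ R
      · left
        rw [commutatorElement_eq_one_iff_mul_comm.2 (mem_Ce.1 hz.vc _ h2)]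
        group
      · right
        rw [hz.cm _ h1 h2, (zM m hm).eq, mul_inv_cancel_right]
    | one => simp
    | mul a b ha _ h h' =>
      have e : ⁅q, a * b⁆ = ⁅q, a⁆ * (a * ⁅q, b⁆ * a⁻¹) := by
        simp only [commutatorElement_def]; group
      have e' : a * z * a⁻¹ = z := by rw [(zM a (UM ha)).eq, mul_inv_cancel_right]
      rw [e]
      rcases h with h | h <;> rcases h' with h' | h' <;> simp [h, h', e', hz.zz]
    | inv a ha h => rwa [inv_eq_of_mul_eq_one_right (el a ha)]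
  · by_contra f1
    have fz := zM f (mem_sup_right hf)
    obtain ⟨n, hn⟩ := h v vU
    have e : f * v * f⁻¹ = z ^ n * v := by
      simp only at hn
      rw [hn, commutatorElement_def]; group
    have h2 : Commute (f ^ 2) v := by
      have a1 : f * z ^ n * f⁻¹ = z ^ n := by rw [(fz.zpow_right n).eq, mul_inv_cancel_right]
      have a2 : z ^ n * z ^ n = 1 := by rw [← (Commute.refl z).mul_zpow, hz.zz, one_zpow]
      have : f ^ 2 * v * (f ^ 2)⁻¹ = v := by
        calc f ^ 2 * v * (f ^ 2)⁻¹ = f * (f * v * f⁻¹) * f⁻¹ := by rw [pow_two]; group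
          _ = f * (z ^ n * v) * f⁻¹ := by rw [e]
          _ = f * z ^ n * f⁻¹ * (f * v * f⁻¹) := by group
          _ = v := by rw [a1, e, ← mul_assoc, a2, one_mul]
      exact mul_inv_eq_iff_eq_mul.1 this
    obtain ⟨k, hk⟩ := isPGroup_iff_forall.1 c.F3 f hf
    obtain ⟨j, -, hj⟩ := (Nat.dvd_prime_pow Nat.prime_three).1 (orderOf_dvd_of_pow_eq_one hk)
    obtain ⟨i, rfl⟩ : ∃ i, j = i + 1 := by
      cases j with
      | zero => exact (f1 (orderOf_eq_one_iff.1 hj)).elim
      | succ i => exact ⟨i, rfl⟩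
    have x3 : orderOf (f ^ 3 ^ i) = 3 := by
      rw [orderOf_pow_of_dvd (by positivity) (hj ▸ pow_dvd_pow 3 (Nat.le_succ i)), hj, pow_succ,
        Nat.mul_div_cancel_left _ (by positivity)]
    have x2 := orderOf_sq_three x3
    have h3 : Commute ((f ^ 3 ^ i) ^ 2) v := by
      rw [← pow_mul, mul_comm, pow_mul]
      exact h2.pow_left _
    refine c.yM (M.inv_mem_iff.1 (c.ti _ y⁻¹ x2 (c.FM (F.pow_mem (F.pow_mem hf _) _))
      (hz.cz (mem_C1.2 ?_))))
    set x := (f ^ 3 ^ i) ^ 2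
    calc z * (y⁻¹ * x * y⁻¹⁻¹) = y⁻¹ * (v * x) * y := by rw [hv]; group
      _ = y⁻¹ * x * y⁻¹⁻¹ * z := by rw [← h3.eq, hv]; group
  · obtain ⟨m, hm, h1⟩ := (c.syl.of_le (le_sup_left : T ≤ M0) le_top).exists_cj_le
      (isPGroup_zpowers (k := 1) (by rw [pow_one, pow_two, gg])) ((zpowers_le (G := G)).2 hg)
    have h2 : m * g * m⁻¹ ∈ T := h1 ⟨g, mem_zpowers g, rfl⟩
    have h3 := c.fd _ h2 fun f hf => by
      obtain ⟨f', hf', h4⟩ := nF _ (M0.inv_mem hm) f hf
      set q := m⁻¹ * f * m⁻¹⁻¹ * f'⁻¹ with hq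
      have e : ⁅m * g * m⁻¹, f⁆ = m * (g * q * g⁻¹ * ⁅g, f'⁆ * q⁻¹) * m⁻¹ := by
        simp only [commutatorElement_def, hq]; group
      rw [e]
      exact conj_mem_of_mem_normalizer (nQ hm) (mul_mem (mul_mem
        (conj_mem_of_mem_normalizer (nQ hg) h4) (h f' hf')) (inv_mem h4))
    have := conj_mem_of_mem_normalizer' (nQ hm) h3
    rwa [show m⁻¹ * (m * g * m⁻¹) * m = g by group] at this
  · have h1 : C1 w ≤ No (zpowers w) := fun g hg => by
      apply centralizer_le_normalizer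
      rintro _ ⟨n, rfl⟩
      exact ((show Commute w g from mem_C1.1 hg).zpow_left n).eq
    exact h1.trans (c.eq9 _ E (isPGroup_zpowers (k := 1) (by rw [pow_one, pow_two, ww]))
      (fun e' => w1 (zpowers_eq_bot.1 e')) (EF.trans c.FM) e1 e2 (e3.trans h1))

end H47.CenVx
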