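/- Cyclic normal subgroups of Sylow subgroups of `p`-solvable groups; a relative trace lemma. -/
import Cfsg.Agent.H47.Sections
import Cfsg.Agent.H47.Rank2
import Cfsg.Agent.H18.PSolv

namespace H47
open Cfsg hiding pRank
open H46 Subgroup
open scoped commutatorElement

universe u v

variable {G : Type u} [Group G] {p : ℕ} {Q R T V : Subgroup G}

theorem pow_relIndex_mem_commutator_sup_cent [Finite G] (hV : IsMulCommutative V) (hR : R ≤ Nrm V)
    {v : G} (hv : v ∈ V) (hT : v ∈ Cent T) : v ^ T.relIndex R ∈ ⁅V, R⁆ ⊔ (V ⊓ Cent R) := by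
  classical
  let _ : CommGroup V := { (inferInstance : Group V) with mul_comm := hV.is_comm.comm }
  have := Fintype.ofFinite (R ⧸ T.subgroupOf R)
  let φ : R →* MulAut V := V.normalizerMonoidHom.comp (inclusion hR)
  let F : R ⧸ T.subgroupOf R → V := Quotient.lift (fun g => φ g ⟨v, hv⟩) (by
    intro g h hgh
    have h1 : g⁻¹ * h ∈ T.subgroupOf R := QuotientGroup.leftRel_apply.1 hgh
    have h2 : φ (g⁻¹ * h) ⟨v, hv⟩ = ⟨v, hv⟩ := Subtype.ext (by
      change ((g⁻¹ * h : R) : G) * v * ((g⁻¹ * h : R) : G)⁻¹ = v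
      rw [mem_cent.1 hT ((g⁻¹ * h : R) : G) h1, mul_inv_cancel_right])
    calc φ g ⟨v, hv⟩ = φ g (φ (g⁻¹ * h) ⟨v, hv⟩) := by rw [h2]
      _ = φ h ⟨v, hv⟩ := by rw [← MulAut.mul_apply, ← map_mul, mul_inv_cancel_left])
  have hF : ∀ (r : R) q, φ r (F q) = F (r • q) := by
    intro r q
    obtain ⟨g, rfl⟩ := QuotientGroup.mk_surjective q
    change φ r (φ g _) = φ (r * g) _
    rw [map_mul, MulAut.mul_apply]
  set w : V := ∏ q, F q with hw
  have h1 : (w : G) ∈ Cent R := mem_cent.2 fun y hy => by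
    have : φ ⟨y, hy⟩ w = w := by
      rw [hw, map_prod]
      exact Fintype.prod_equiv (MulAction.toPerm (⟨y, hy⟩ : R)) _ _ fun x => hF _ x
    have e : y * w * y⁻¹ = w := congrArg Subtype.val this
    rwa [mul_inv_eq_iff_eq_mul] at e
  have h2 : w * ((⟨v, hv⟩ : V) ^ T.relIndex R)⁻¹ ∈ ⁅V, R⁆.subgroupOf V := by
    rw [Subgroup.relIndex, Subgroup.index, Nat.card_eq_fintype_card, ← Finset.card_univ,
      ← Finset.prod_const, hw, ← Finset.prod_inv_distrib, ← Finset.prod_mul_distrib]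
    refine Subgroup.prod_mem _ fun q _ => ?_
    obtain ⟨g, rfl⟩ := QuotientGroup.mk_surjective q
    rw [Subgroup.mem_subgroupOf, Subgroup.commutator_comm]
    exact Subgroup.commutator_mem_commutator g.2 hv
  have h3 : (w : G) * (v ^ T.relIndex R)⁻¹ ∈ ⁅V, R⁆ := h2
  have : v ^ T.relIndex R = ((w : G) * (v ^ T.relIndex R)⁻¹)⁻¹ * w := by group
  rw [this]
  exact mul_mem (mem_sup_left (inv_mem h3)) (mem_sup_right ⟨w.2, h1⟩)

theorem mem_of_pow_mem_of_coprime {H : Subgroup G} {x : G} {m n : ℕ} (h1 : x ^ m ∈ H) (h2 : x ^ n ∈ H)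
    (h : m.Coprime n) : x ∈ H := by
  have := Nat.gcd_eq_gcd_ab m n
  rw [h.gcd_eq_one] at this
  have e : x = (x ^ m) ^ m.gcdA n * (x ^ n) ^ m.gcdB n := by
    rw [← zpow_natCast, ← zpow_natCast, ← zpow_mul, ← zpow_mul, ← zpow_add, ← this]; simp
  rw [e]
  exact mul_mem (zpow_mem h1 _) (zpow_mem h2 _)

theorem commutator_le_of_nrm {W : Subgroup G} {c : G} (hVW : V ≤ Nrm W) (hR : R ≤ Nrm W)
    (hRV : R ≤ Nrm V) (hc : c ∈ Nrm W) (h : ⁅V, zpowers c⁆ ≤ W) : ⁅V, ⁅R, zpowers c⁆⁆ ≤ W := by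
  have hc' : zpowers c ≤ Nrm W := zpowers_le.2 hc
  have hD : ⁅R, zpowers c⁆ ≤ Nrm W := (normalIn_commutator_sup _ _).le.trans (sup_le hR hc')
  rw [← quo_le_cent_iff' hD hVW, quo_commutator hR hc']
  rw [← quo_le_cent_iff' hc' hVW] at h
  exact (Subgroup.commutator_mono le_rfl h).trans (commutator_le_right' (nrm_cent (quo_nrm W hRV)))

theorem cent_of_cyclic_normal_elem [Finite G] (hp : p.Prime) (hV : IsElementaryAbelian p V)
    (hR : IsPi {p}ᶜ R) (hRV : R ≤ Nrm V) (hf : R ⊓ Cent V = ⊥) {u c : G} (hu : u ∈ V)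
    (hcV : c ∈ Nrm V) (hcR : c ∈ Nrm R) (hb : (u * c) ^ p ∈ V) (hcp : c ^ p ∈ V)
    (h : ⁅V, zpowers c⁆ ≤ zpowers ((u * c) ^ p))
    (hX : p ≠ 2 ∨ ¬ Involves (Equiv.Perm (Fin 4)) G) : c ∈ Cent R := by
  have hVp := isPi_of_elem hp hV
  have hVc := comm_iff_le_cent.1 hV.1
  have hVR : V ⊓ R = ⊥ := hVp.inf_eq_bot hR
  have hcpR : c ^ p ∈ Cent R := commutator_eq_bot_iff.1 (eq_bot_of_le (le_inf
    ((Subgroup.commutator_mono (zpowers_le.2 hcp) le_rfl).trans (commutator_le_left' hRV))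
    (commutator_le_right' (zpowers_le.2 (pow_mem hcR p)))) hVR) (mem_zpowers _)
  have hWV : zpowers ((u * c) ^ p) ≤ V := zpowers_le.2 hb
  by_cases hp2 : p = 2
  · subst hp2
    by_contra hc
    obtain ⟨r, hr, hrc⟩ : ∃ r ∈ R, r * c ≠ c * r := by
      by_contra hcon
      push Not at hcon
      exact hc (mem_cent.2 hcon)
    have hz : r⁻¹ * (c * r * c⁻¹) ∈ R := R.mul_mem (R.inv_mem hr) (conj_mem_of_mem_nrm hcR hr)
    have hzi := inverts_commutator (b := c) (y := r) (by rw [← sq]; exact (mem_cent.1 hcpR r hr).symm)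
    have hz1 : r⁻¹ * (c * r * c⁻¹) ≠ 1 := fun e => hrc (by
      rwa [inv_mul_eq_one, eq_mul_inv_iff_mul_eq] at e)
    obtain ⟨x, ⟨k, hk⟩, hq⟩ := exists_prime_order_mem_zpowers hz1
    simp only at hk
    have hx : x ∈ R := hk ▸ zpow_mem hz k
    have hxi : c * x * c⁻¹ = x⁻¹ := by rw [← hk, ← conj_zpow, hzi, inv_zpow]
    have hq2 : orderOf x ≠ 2 := fun e => hR.not_dvd hp rfl (e ▸ orderOf_dvd_card hx)
    have hx1 : x ≠ 1 := fun e => by rw [e, orderOf_one] at hq; exact Nat.not_prime_one hq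
    have hxV : x ∉ Cent V := fun e => hx1 (by
      have : x ∈ R ⊓ Cent V := ⟨hx, e⟩
      rwa [hf] at this)
    set W := zpowers ((u * c) ^ 2) with hW
    have hW' : cj x W ≤ V := (cj_mono x hWV).trans (cj_of_mem_nrm (hRV hx)).le
    have hW2 : Nat.card W ∣ 2 := by
      rw [card_zpowers']; exact orderOf_dvd_of_pow_eq_one (hV.2 _ hb)
    have hY : Nat.card ↥(W ⊔ cj x W) ∣ 2 ^ 2 := (card_sup_dvd (hW'.trans (nrm_of_comm hV.1 hWV))).trans
      (by rw [card_cj, sq]; exact Nat.mul_dvd_mul hW2 hW2)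
    have h1 : ⁅zpowers c, V⁆ ≤ W ⊔ cj x W := by rw [Subgroup.commutator_comm]; exact h.trans le_sup_left
    have h2 : ⁅cj x (zpowers c), V⁆ ≤ W ⊔ cj x W := by
      rw [← cj_of_mem_nrm (hRV hx), ← cj_commutator, Subgroup.commutator_comm]
      exact (cj_mono x h).trans le_sup_right
    have h3 := commutator_sup_le h1 h2 (sup_le
      (commutator_le_right_iff.1 ((Subgroup.commutator_mono le_rfl (sup_le hWV hW')).trans h1))
      (commutator_le_right_iff.1 ((Subgroup.commutator_mono le_rfl (sup_le hWV hW')).trans h2)))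
    have h4 : x ∈ zpowers c ⊔ cj x (zpowers c) := by
      refine mem_of_pow_mem_of_coprime (m := 2) (n := orderOf x) ?_
        (by rw [pow_orderOf_eq_one]; exact one_mem _) ((Nat.coprime_primes hp hq).2 hq2.symm)
      have : x ^ 2 = (x * c * x⁻¹) * c⁻¹ := by
        calc x ^ 2 = x * (c * x * c⁻¹)⁻¹ := by rw [hxi, inv_inv, sq]
          _ = _ := by group
      rw [this]
      exact mul_mem (mem_sup_right (conj_mem_cj.2 (mem_zpowers c)))
        (mem_sup_left (inv_mem (mem_zpowers c)))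
    have hX' : zpowers x ≤ Nrm V := zpowers_le.2 (hRV hx)
    have h5 : ⁅V, zpowers x⁆ ≤ W ⊔ cj x W := by
      rw [Subgroup.commutator_comm]
      exact (Subgroup.commutator_mono (zpowers_le.2 h4) le_rfl).trans h3
    have h6 := card_modEq_one_of_semiregular (nrm_commutator_right V (zpowers x))
      (semiregular_of_prime (by rwa [card_zpowers'])
        (coprime_abel_cent_TI hV.1 hX' ((hR.of_le (zpowers_le.2 hx)).coprime' hVp)))
    have h7 : ⁅V, zpowers x⁆ ≠ ⊥ := fun e => hxV (commutator_eq_bot_iff'.1 e (mem_zpowers x))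
    obtain ⟨j, hj, e⟩ := (Nat.dvd_prime_pow hp).1 ((Subgroup.card_dvd_of_le h5).trans hY)
    rw [card_zpowers', e] at h6
    have h8 := (Nat.modEq_iff_dvd' (Nat.one_le_two_pow)).1 h6.symm
    have h9 : orderOf x = 3 := by
      interval_cases j
      · exact absurd (Subgroup.eq_bot_of_card_eq _ e) h7
      · exact absurd (Nat.dvd_one.1 h8) hq.ne_one
      · exact (Nat.prime_dvd_prime_iff_eq hq Nat.prime_three).1 h8
    refine (hX.resolve_left (by simp)) (involves_sym4_of_elem hV hcV (hRV hx)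
      (h9 ▸ pow_orderOf_eq_one x) hxi ?_ hxV)
    refine (pnat_singleton_pow hp 2).of_dvd (orderOf_dvd_of_pow_eq_one ?_)
    rw [sq, pow_mul]
    exact hV.2 _ hcp
  · have hd : ⁅c, u⁆ ∈ zpowers ((u * c) ^ p) := by
      refine h ?_
      rw [Subgroup.commutator_comm]
      exact Subgroup.commutator_mem_commutator (mem_zpowers c) hu
    have c1 : Commute u ⁅c, u⁆ := mem_cent.1 (hVc (hWV hd)) u hu
    have c2 : Commute c ⁅c, u⁆ := by
      obtain ⟨k, hk⟩ := hd
      simp only at hk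
      have c3 : Commute (u * c) ⁅c, u⁆ := hk ▸ ((Commute.refl (u * c)).pow_right p).zpow_right k
      have := c1.inv_left.mul_left c3
      rwa [inv_mul_cancel_left] at this
    have e : (u * c) ^ p = c ^ p := by
      rw [H9.mul_pow_of_odd c1 c2 (hp.odd_of_ne_two hp2) (hV.2 _ (hWV hd)), hV.2 u hu, one_mul]
    rw [e] at h hWV
    have hWR : R ≤ Cent (zpowers (c ^ p)) := le_cent_symm (zpowers_le.2 hcpR)
    have h1 := commutator_le_of_nrm (nrm_of_comm hV.1 hWV) (nrm_of_le_cent hWR) hRV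
      (cent1_le_nrm_zpowers _ (mem_cent1.2 (Commute.self_pow c p).eq)) h
    have hD : ⁅R, zpowers c⁆ ≤ R := commutator_le_left' (zpowers_le.2 hcR)
    have h2 := stable_factor_cent (hD.trans hRV) ((hR.of_le hD).coprime' hVp) (Or.inr hVp.sol) h1
      (hD.trans hWR)
    exact commutator_eq_bot_iff'.1 (eq_bot_of_le (le_inf hD h2) hf) (mem_zpowers c)

theorem cent_of_cyclic_normal [Finite G] (hp : p.Prime) (hQ : IsPi {p} Q)
    (hR : IsPi {p}ᶜ R) (hRQ : R ≤ Nrm Q) (hf : R ⊓ Cent Q = ⊥) {u c : G} (hu : u ∈ Q)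
    (hcQ : c ∈ Nrm Q) (hcR : c ∈ Nrm R) (hb : (u * c) ^ p ∈ Q) (hcp : c ^ p ∈ Q)
    (h : ⁅Q, zpowers (u * c)⁆ ≤ zpowers ((u * c) ^ p))
    (hX : p ≠ 2 ∨ ¬ Involves (Equiv.Perm (Fin 4)) G) : c ∈ Cent R := by
  set N := frattiniOf Q with hN
  have hQN : Q ≤ Nrm N := (frattiniOf_normalIn Q).nrm
  have hRN : R ≤ Nrm N := nrm_frattiniOf hRQ
  have hcN : c ∈ Nrm N := nrm_le_nrm_frattiniOf Q hcQ
  have hucN : u * c ∈ Nrm N := mul_mem (hQN hu) hcN
  have hV := elem_quo_frattiniOf hp (hQ.isPGroup hp)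
  have e : qel N ((u * c) ^ p) = (qel N u * qel N c) ^ p :=
    (mel_pow _ hucN p).trans (congrArg (· ^ p) (mel_mul _ (hQN hu) hcN))
  have key := cent_of_cyclic_normal_elem hp hV (hR.quo N) (quo_nrm N hRQ) (u := qel N u)
    (c := qel N c) ?_ (qel_mem_quo N hu) (mel_mem_nrm _ hcQ) (mel_mem_nrm _ hcR)
    (e ▸ qel_mem_quo N hb) (by rw [← mel_pow _ hcN]; exact qel_mem_quo N hcp) ?_
    (hX.imp_right (mt fun h' => H94.involves_trans h' (involves_quo N)))
  · have h1 : ⁅R, zpowers c⁆ ≤ N := by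
      rw [← quo_le_cent_iff' (zpowers_le.2 hcN) hRN, quo_zpowers hcN]
      exact zpowers_le.2 key
    exact commutator_eq_bot_iff'.1 (eq_bot_of_le (le_inf (h1.trans (frattiniOf_le Q))
      (commutator_le_left' (zpowers_le.2 hcR))) (hQ.inf_eq_bot hR)) (mem_zpowers c)
  · rw [eq_bot_iff]
    rintro z ⟨hz, hzc⟩
    obtain ⟨r, hr, hr', rfl⟩ := mem_quo.1 hz
    have h1 : ⁅Q, zpowers r⁆ ≤ N := by
      rw [← quo_le_cent_iff' (zpowers_le.2 hr') hQN, quo_zpowers hr']
      exact zpowers_le.2 hzc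
    have h2 : r ∈ R ⊓ Cent Q := ⟨hr, coprime_cent_Phi (zpowers_le.2 (hRQ hr))
      ((hR.of_le (zpowers_le.2 hr)).coprime' hQ) h1 (mem_zpowers r)⟩
    rw [hf, mem_bot] at h2
    rw [h2, mem_bot]
    exact mel_one _
  · have h1 : ⁅Q ⧸ₙ N, zpowers (qel N u * qel N c)⁆ ≤ zpowers ((qel N u * qel N c) ^ p) := by
      rw [← e, ← mel_mul _ (hQN hu) hcN, ← quo_zpowers hucN, ← quo_zpowers (pow_mem hucN p),
        ← quo_commutator hQN (zpowers_le.2 hucN)]
      exact quo_mono N h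
    refine le_trans ?_ h1
    have h2 : zpowers (qel N c) ≤ zpowers (qel N u * qel N c) ⊔ Q ⧸ₙ N := by
      refine zpowers_le.2 ?_
      have := mul_mem (mem_sup_right (S := zpowers (qel N u * qel N c)) (inv_mem (qel_mem_quo N hu)))
        (mem_sup_left (mem_zpowers (qel N u * qel N c)))
      rwa [inv_mul_cancel_left] at this
    rw [Subgroup.commutator_comm, Subgroup.commutator_comm (Q ⧸ₙ N)]
    refine (Subgroup.commutator_mono h2 le_rfl).trans (commutator_sup_cent' ?_ ?_).le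
    · exact zpowers_le.2 (mul_mem (le_nrm_self (qel_mem_quo N hu)) (mel_mem_nrm _ hcQ))
    · exact comm_iff_le_cent.1 hV.1

/-- a cyclic `p`-subgroup normalized by `O_p(G)` lies in `O_p(G)`. -/
theorem mem_pCore_of_cyclic_normal [Finite G] [hp : Fact p.Prime] (hG : IsPSolvable p G)
    (h0 : pPrimeCore p G = ⊥) {a : G} {k : ℕ} (ha : a ^ p ^ k = 1)
    (hn : pCore p G ≤ Nrm (zpowers a)) (hX : p ≠ 2 ∨ ¬ Involves (Equiv.Perm (Fin 4)) G) :
    a ∈ pCore p G := by
  classical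
  set Q := pCore p G with hQdef
  have hex : ∃ j, a ^ p ^ j ∈ Q := ⟨k, ha ▸ one_mem _⟩
  by_contra hc
  have h0' : Nat.find hex ≠ 0 := fun e => hc (by simpa [e] using Nat.find_spec hex)
  obtain ⟨j, hj⟩ := Nat.exists_eq_succ_of_ne_zero h0'
  have h1 := Nat.find_spec hex
  have h2 := Nat.find_min hex (m := j) (by omega)
  rw [hj, pow_succ, pow_mul] at h1
  set b := a ^ p ^ j with hb
  have hQb : Q ≤ Nrm (zpowers b) := hn.trans (nrm_le_of_cyclic inferInstance
    (zpowers_le.2 (pow_mem (mem_zpowers a) _)))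
  have hQp : IsPi {p} Q := isPi_of_isPGroup hp.out (H2.pCore_isPGroup p G)
  have hN : ∀ (K : Subgroup G) [K.Normal] (L : Subgroup G), L ≤ Nrm K := fun K _ L =>
    le_top.trans (Subgroup.normalizer_eq_top K).ge
  let f := QuotientGroup.mk' Q
  let N : Subgroup G := (pPrimeCore p (G ⧸ Q)).comap f
  have hQN : Q ≤ N := (QuotientGroup.ker_mk' Q).ge.trans (Subgroup.ker_le_comap f _)
  have hidx : Q.relIndex N = Nat.card (pPrimeCore p (G ⧸ Q)) := by
    conv_lhs => rw [← QuotientGroup.ker_mk' Q]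
    rw [Subgroup.relIndex_ker, Subgroup.map_comap_eq_self_of_surjective (QuotientGroup.mk'_surjective Q)]
  have hhall : IsPiHallOf {p} Q N := isPiHallOf_mk hQN hQp (by
    rw [hidx, pnat_compl_singleton_iff_coprime hp.out]
    exact H2.coprime_card_pPrimeCore p _)
  obtain ⟨R, hR⟩ := exists_sd_of_hall hhall.isHallOf (hN Q N)
  have hRp : IsPi {p}ᶜ R := (hR.hall_compl_right hhall).isPi
  have hR' := hR.cj b
  rw [cj_of_mem_nrm (hN Q ⊤ (mem_top b)), cj_of_mem_nrm (hN N ⊤ (mem_top b))] at hR'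
  obtain ⟨n, hn', e⟩ := IsSd.exists_cj hR' hR ((hRp.cj b).coprime' hQp) (Or.inr hQp.sol)
  have hcR : n * b ∈ Nrm R := by rw [mem_nrm_iff_cj, cj_mul, e]
  have hCQ : Cent Q ≤ Q := H18.centralizer_pCore_le hG h0
  have hfn : f (n * b) = f b := by
    rw [map_mul, show f n = 1 from (QuotientGroup.eq_one_iff n).2 hn', one_mul]
  have hfb : f b ^ p = 1 := by rw [← map_pow]; exact (QuotientGroup.eq_one_iff _).2 h1
  have key := cent_of_cyclic_normal hp.out hQp hRp (hN Q R)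
    (eq_bot_of_le (le_inf (inf_le_right.trans hCQ) inf_le_left) hR.inf) (u := n⁻¹) (c := n * b)
    (Q.inv_mem hn') (hN Q ⊤ (mem_top _)) hcR (by rwa [inv_mul_cancel_left])
    ((QuotientGroup.eq_one_iff _).1 (by rw [← QuotientGroup.mk'_apply, map_pow]; exact hfn ▸ hfb))
    ?_ hX
  · have h3 : f b ∈ Subgroup.centralizer (pPrimeCore p (G ⧸ Q) : Set (G ⧸ Q)) := by
      intro z hz
      obtain ⟨g, rfl⟩ := QuotientGroup.mk'_surjective Q z
      obtain ⟨q, hq, r, hr, rfl⟩ := hR.exists_mul (x := g) hz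
      change f _ * _ = _ * f _
      rw [map_mul, show f q = 1 from (QuotientGroup.eq_one_iff q).2 hq, one_mul, ← hfn, ← map_mul,
        ← map_mul, mem_cent.1 key r hr]
    have h4 := H18.centralizer_pPrimeCore_le (H18.isPSolvable_quotient hG Q)
      (H2.pCore_quotient_pCore p G) h3
    have h5 : orderOf (f b) = 1 := Nat.eq_one_of_dvd_coprimes (H2.coprime_card_pPrimeCore p (G ⧸ Q))
      (orderOf_dvd_card h4) (orderOf_dvd_of_pow_eq_one hfb)
    exact h2 ((QuotientGroup.eq_one_iff b).1 (orderOf_eq_one_iff.1 h5))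
  · rw [inv_mul_cancel_left]
    intro x hx
    obtain ⟨i, rfl⟩ := (mem_powers_iff_mem_zpowers).2 (commutator_le_right' hQb hx)
    have hxQ := commutator_le_left' (hN Q (zpowers b)) hx
    by_cases hd : p ∣ i
    · obtain ⟨l, rfl⟩ := hd
      simp only [pow_mul]
      exact pow_mem (mem_zpowers _) l
    · exact absurd (mem_of_pow_mem_of_coprime h1 hxQ ((Nat.Prime.coprime_iff_not_dvd hp.out).2 hd)) h2

end H47
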