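import Cfsg.Agent.H39.E6Spec

/-! Chapter E6 of `blueprints/PS3B.md`: finite facts on the quadratic space `V5`. -/

set_option autoImplicit false
set_option maxRecDepth 100000

open H39.E6

namespace H47.E6

def vt : V5 := ![1, 0, 0, 0, 0]
def vz : V5 := ![0, 1, 0, 0, 0]
def vc (i : Fin 3) : V5 := ![0, 0, if i = 0 then 1 else 0, if i = 1 then 1 else 0, if i = 2 then 1 else 0]
def vw : V5 := ![1, 1, 0, 0, 0]
def vb : V5 := ![0, 0, 0, 1, 1]
/-- the part in `⟨c 0, c 1, c 2⟩` -/
def cp (u : V5) : V5 := ![0, 0, u 2, u 3, u 4]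
/-- Siegel maps -/
def sie (p a v : V5) : V5 := v + b5 v p • a - b5 v a • p - (q5 a * b5 v p) • p

theorem h3 : (3 : ZMod 3) = 0 := rfl

theorem q5_add (u v : V5) : q5 (u + v) = q5 u + q5 v + b5 u v := by
  simp only [q5, b5, Pi.add_apply]
  linear_combination (u 2 * v 2 + u 3 * v 3 + u 4 * v 4) * h3

theorem b5_add (u v w : V5) : b5 (u + v) w = b5 u w + b5 v w := by
  simp only [b5, Pi.add_apply]; ring

theorem rf_add (u v w : V5) : rf u (v + w) = rf u v + rf u w := by
  simp only [rf, b5_add, add_smul]; abel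

theorem sie_add (p a v w : V5) : sie p a (v + w) = sie p a v + sie p a w := by
  simp only [sie, b5_add, add_smul, mul_add]; abel

theorem rf_neg (u v : V5) : rf (-u) v = rf u v := by
  ext k; simp only [rf, b5, Pi.sub_apply, Pi.smul_apply, Pi.neg_apply, smul_eq_mul]; ring

theorem rf_zero (v : V5) : rf 0 v = v := by simp [rf]

theorem sie_z {a : V5} (h : a 0 = 0) (v : V5) : sie vz a v =
    ![v 0, v 1 + (v 2 * a 2 + v 3 * a 3 + v 4 * a 4) - v 0 * (a 2 * a 2 + a 3 * a 3 + a 4 * a 4),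
      v 2 + v 0 * a 2, v 3 + v 0 * a 3, v 4 + v 0 * a 4] := by
  ext k
  simp only [sie, b5, q5, Pi.add_apply, Pi.sub_apply, Pi.smul_apply, smul_eq_mul]
  fin_cases k <;> simp [vz, h]
  ring

theorem sie_zz {a a' : V5} (h : a 0 = 0) (h' : a' 0 = 0) (v : V5) :
    sie vz a (sie vz a' v) = sie vz (a + a') v := by
  rw [sie_z h, sie_z h', sie_z (a := a + a') (by simp [h, h'])]
  ext k
  fin_cases k <;> simp
  · linear_combination (v 0 * (a 2 * a' 2 + a 3 * a' 3 + a 4 * a' 4)) * h3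
  all_goals ring

theorem sie_self (v : V5) : sie vz vz v = v := by
  rw [sie_z rfl]
  ext k
  fin_cases k <;> simp [vz]

theorem sie_zero (p v : V5) : sie p 0 v = v := by simp [sie, b5, q5]

theorem ind5 {P : V5 → Prop} (h0 : P 0) (h1 : ∀ u v, P u → P v → P (u + v)) (hz : P vz)
    (hc : ∀ i, P (vc i)) (v : V5) (ht : v 0 ≠ 0 → P vt) : P v := by
  have h2 : ∀ (n : ZMod 3) u, (n ≠ 0 → P u) → P (n • u) := fun n u e => by
    rcases (by decide : ∀ n : ZMod 3, n = 0 ∨ n ≠ 0 ∧ (n = 1 ∨ n = 1 + 1)) n with rfl | ⟨m, rfl | rfl⟩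
    · rwa [zero_smul]
    · rw [one_smul]; exact e m
    · rw [add_smul, one_smul]; exact h1 _ _ (e m) (e m)
  rw [(by decide +kernel : ∀ v : V5, v = v 0 • vt + v 1 • vz + v 2 • vc 0 + v 3 • vc 1 + v 4 • vc 2) v]
  exact h1 _ _ (h1 _ _ (h1 _ _ (h1 _ _ (h2 _ _ ht) (h2 _ _ fun _ => hz)) (h2 _ _ fun _ => hc 0))
    (h2 _ _ fun _ => hc 1)) (h2 _ _ fun _ => hc 2)

/-- an invariant that separates the two kinds of non-singular vectors -/
def N5 (v : V5) : ℕ := (Finset.univ.filter fun s : V5 => q5 s = 0 ∧ q5 (v + s) = 0).card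

theorem N5_eq : ∀ v : V5, q5 v = 0 ∨ q5 v = 1 ∧ N5 v = 30 ∨ q5 v = 2 ∧ N5 v = 24 := by
  decide +kernel

theorem one_cases : ∀ u : V5, q5 u = 1 → (∃ i, u = vc i ∨ u = -vc i) ∨
    ∃ s : ZMod 3, (s • vw = vw ∨ s • vw = -vw) ∧
      (u = sie vz (s • cp u) (s • vw) ∨ u = sie vt (s • cp u) (s • vw)) := by
  decide +kernel

def dv (n : ℕ) : V5 := ![(n : ZMod 3), (n / 3 : ℕ), 0, (n / 9 : ℕ), (n / 27 : ℕ)]
def cd (v : V5) : ℕ := 4675998001353512180986596881804278477026878737319720984716064336768148160396289895729193596454920074106469759898336015233679573556997076144490888006740804900379371539476256303611433781842666860082705802977238719756661607944617844964935636633096490708290259367154684370328354986037784862976675157195970752547212429828208055876990852852503383963466702048676047116685835777207526306288608483720185048387498384498581869374678345206004811288226366518804443870306528 / 81 ^ (3 * ((v 0).val + 3 * (v 1).val + 9 * (v 3).val + 27 * (v 4).val))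
/-- `u` is zero or of norm one -/
def Z1 (u : V5) : Prop := u = 0 ∨ q5 u = 1

theorem typ_tab : ∀ v : V5, v 2 = 0 → v ≠ 0 → Z1 (dv (cd v)) ∧ Z1 (dv (cd v / 81)) ∧
    Z1 (dv (cd v / 6561)) ∧ rf (dv (cd v / 6561)) (rf (dv (cd v / 81)) (rf (dv (cd v)) v)) ∈
      [vz, vc 1, vb] := by
  unfold Z1
  decide +kernel

end H47.E6
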