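import Cfsg.Agent.H63.KgvSpec
import Cfsg.Agent.H28.CharBasic

/-! Tensor induction of a graded matrix representation along a normal subgroup of prime index. -/

set_option autoImplicit false
set_option linter.unusedSectionVars false

namespace H47.KgvTm

open Finset Cfsg H63.Kgv

universe u

theorem isChar_block {E : Type*} [Group E] {I : Type*} [Fintype I] [DecidableEq I]
    (R : E →* Matrix I I ℂ) (P : I → Prop) [DecidablePred P]
    (hR : ∀ g a b, P a → ¬ P b → R g a b = 0) :
    IsCharacter E fun g => ∑ a : {a // P a}, R g a a := by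
  let R' : E →* Matrix {a // P a} {a // P a} ℂ :=
    { toFun := fun g => (R g).submatrix Subtype.val Subtype.val
      map_one' := by
        rw [map_one]; exact Matrix.submatrix_one _ Subtype.val_injective
      map_mul' := fun g h => by
        ext a b
        simp only [map_mul, Matrix.submatrix_apply, Matrix.mul_apply]
        rw [← Fintype.sum_subtype_add_sum_subtype P, Finset.sum_eq_zero (s := (univ : Finset {x // ¬ P x}))
          fun c _ => by rw [hR g a c a.2 c.2, zero_mul], add_zero] }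
  have := H28.isCharacter_rep (G := E) (V := {a // P a} → ℂ)
    (Matrix.toLinAlgEquiv'.toMulEquiv.toMonoidHom.comp R')
  convert this using 1
  ext g
  exact (Matrix.trace_toLin'_eq (R' g)).symm

section path

variable {ι : Type*} [Fintype ι] [DecidableEq ι]

noncomputable def pp (A : ℕ → Matrix ι ι ℂ) : ℕ → Matrix ι ι ℂ
  | 0 => 1
  | m + 1 => A m * pp A m

theorem pp_apply (A : ℕ → Matrix ι ι ℂ) (m : ℕ) (i j : ι) :
    pp A (m + 1) i j = ∑ a : Fin m → ι, ∏ k : Fin (m + 1),
      A k ((Fin.snoc a i : Fin (m + 1) → ι) k) ((Fin.cons j a : Fin (m + 1) → ι) k) := by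
  induction m generalizing i with
  | zero => simp [pp, Fin.snoc]
  | succ m ih =>
    rw [pp, Matrix.mul_apply, ← (Fin.snocEquiv fun _ : Fin (m + 1) => ι).sum_comp,
      Fintype.sum_prod_type]
    refine Finset.sum_congr rfl fun l _ => ?_
    rw [ih, Finset.mul_sum]
    refine Finset.sum_congr rfl fun a _ => ?_
    rw [Fin.prod_univ_castSucc (n := m + 1), mul_comm]
    have e : (Fin.snocEquiv fun _ : Fin (m + 1) => ι) (l, a) = Fin.snoc a l := rfl
    rw [e]
    congr 1
    · refine Finset.prod_congr rfl fun k _ => ?_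
      rw [Fin.snoc_castSucc, Fin.cons_snoc_eq_snoc_cons, Fin.snoc_castSucc]
      rfl
    · rw [Fin.snoc_last, Fin.cons_snoc_eq_snoc_cons, Fin.snoc_last]
      rfl

theorem trace_pp (A : ℕ → Matrix ι ι ℂ) (m : ℕ) :
    ∑ a : Fin (m + 1) → ι, ∏ k : Fin (m + 1), A k (a (finRotate _ k)) (a k) =
      (pp A (m + 1)).trace := by
  rw [← (Fin.consEquiv fun _ : Fin (m + 1) => ι).sum_comp, Fintype.sum_prod_type, Matrix.trace]
  refine Finset.sum_congr rfl fun i _ => ?_
  rw [Matrix.diag_apply, pp_apply]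
  refine Finset.sum_congr rfl fun a _ => Finset.prod_congr rfl fun k _ => ?_
  rw [Fin.snoc_eq_cons_rotate]
  rfl

end path

section tens

variable {E : Type u} [Group E] [Fintype E] (H : Subgroup E) [H.Normal]

/-- the cocycle of a transversal -/
noncomputable def tau (g : E) (c : E ⧸ H) : H :=
  ⟨((g : E ⧸ H) * c).out⁻¹ * g * c.out, by
    rw [mul_assoc, ← QuotientGroup.eq, QuotientGroup.out_eq', QuotientGroup.mk_mul,
      QuotientGroup.out_eq']⟩

theorem tau_mul (g g' : E) (c : E ⧸ H) :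
    tau H (g * g') c = tau H g ((g' : E ⧸ H) * c) * tau H g' c := by
  apply Subtype.ext
  simp only [tau, Subgroup.coe_mul, QuotientGroup.mk_mul, mul_assoc]
  group

theorem tau_one (c : E ⧸ H) : tau H 1 c = 1 := by
  apply Subtype.ext
  simp [tau]

variable {n : ℕ} [Fintype (E ⧸ H)] [DecidableEq (E ⧸ H)]

/-- the tensor induced matrix representation -/
noncomputable def tm (ρ : H →* Matrix (Fin n) (Fin n) ℂ) :
    E →* Matrix (E ⧸ H → Fin n) (E ⧸ H → Fin n) ℂ where
  toFun g := Matrix.of fun a b => ∏ c, ρ (tau H g c) (a ((g : E ⧸ H) * c)) (b c)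
  map_one' := by
    ext a b
    simp only [tau_one, map_one, QuotientGroup.mk_one, one_mul, Matrix.of_apply, Matrix.one_apply,
      Finset.prod_ite_zero, Finset.prod_const_one, Finset.mem_univ, forall_const, funext_iff]
  map_mul' g g' := by
    ext a b
    simp only [Matrix.of_apply, Matrix.mul_apply, tau_mul, map_mul]
    rw [Finset.prod_univ_sum, Fintype.piFinset_univ,
      ← (Equiv.arrowCongr (Equiv.mulLeft (g' : E ⧸ H)) (Equiv.refl (Fin n))).symm.sum_comp]
    refine Finset.sum_congr rfl fun d _ => ?_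
    rw [Finset.prod_mul_distrib, ← Equiv.prod_comp (Equiv.mulLeft (g' : E ⧸ H))
      fun c => ρ (tau H g c) (a ((g : E ⧸ H) * c)) (d c)]
    simp [mul_assoc]

end tens

theorem job : TmSt.{u} := by
  intro p _ E _ _ H _ r n x ρ dg Γ hr hi hx hρ h1 h2
  classical
  have : Fintype (E ⧸ H) := Fintype.ofFinite _
  have hcard : Nat.card (E ⧸ H) = r := hi
  have hord : ∀ y : E, y ∉ H → orderOf (y : E ⧸ H) = r := fun y hy => by
    refine ((Nat.dvd_prime hr).1 (hcard ▸ orderOf_dvd_natCard _)).resolve_left fun h => hy ?_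
    exact (QuotientGroup.eq_one_iff y).1 (orderOf_eq_one_iff.1 h)
  let w : (E ⧸ H → Fin n) → ZMod p := fun a => ∑ c, dg (a c)
  have hw : ∀ g a b, w a ≠ w b → tm H ρ g a b = 0 := fun g a b hab => by
    by_contra h0
    refine hab ?_
    have h3 : ∀ c, dg (a ((g : E ⧸ H) * c)) = dg (b c) := fun c => by
      by_contra h4
      exact h0 (Finset.prod_eq_zero (Finset.mem_univ c) (hρ _ _ _ h4))
    simp only [w]
    rw [← Equiv.sum_comp (Equiv.mulLeft (g : E ⧸ H))]
    exact Finset.sum_congr rfl fun c _ => h3 c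
  refine ⟨fun c g => ∑ a : {a // w a = c}, tm H ρ g a a, fun c => ⟨_, 0,
    isChar_block (tm H ρ) (fun a => w a = c) fun g a b ha hb => hw g a b fun h => hb (h ▸ ha),
    H28.isCharacter_zero, (sub_zero _).symm⟩, fun t _ y => ?_⟩
  -- the graded trace
  let D : Matrix (Fin n) (Fin n) ℂ := Matrix.diagonal fun a => ee p (t * dg a)
  have hD : ∀ h, Commute (ρ h) D := fun h => by
    ext a b
    simp only [D, Matrix.mul_diagonal, Matrix.diagonal_mul]
    by_cases e : dg a = dg b
    · rw [e, mul_comm]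
    · rw [hρ h a b e, zero_mul, mul_zero]
  have hS : ∑ c : ZMod p, ee p (t * c) * ∑ a : {a // w a = c}, tm H ρ y a a =
      ∑ a : E ⧸ H → Fin n, ∏ c, (ρ (tau H y c) * D) (a ((y : E ⧸ H) * c)) (a c) := by
    rw [← Fintype.sum_fiberwise w]
    refine Finset.sum_congr rfl fun c _ => ?_
    rw [Finset.mul_sum]
    refine Finset.sum_congr rfl fun a _ => ?_
    simp only [D, Matrix.mul_diagonal, Finset.prod_mul_distrib]
    obtain ⟨a, rfl⟩ := a
    rw [mul_comm]
    congr 1
    simp only [w, Finset.mul_sum]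
    exact map_prod (ZMod.stdAddChar (N := p)).toMonoidHom
      (fun c => Multiplicative.ofAdd (t * dg (a c))) univ
  have hc : ∀ (k : ℕ) (h u : H), (ρ (u⁻¹ * h * u) * D ^ k).trace = (ρ h * D ^ k).trace := fun k h u => by
    rw [map_mul, map_mul, mul_assoc, mul_assoc, ((hD u).pow_right k).eq, Matrix.trace_mul_comm,
      mul_assoc, mul_assoc, ← map_mul, mul_inv_cancel, map_one, mul_one]
  have hT : ∀ (k : ℕ) (h : H), (ρ h * D ^ k).trace = ∑ a, ee p (k * t * dg a) * ρ h a a := fun k h => by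
    simp only [D, Matrix.diagonal_pow, Matrix.trace, Matrix.diag_apply, Matrix.mul_diagonal,
      Pi.pow_apply]
    refine Finset.sum_congr rfl fun a _ => ?_
    rw [mul_comm, ← AddChar.map_nsmul_eq_pow, nsmul_eq_mul, mul_assoc]
  rw [hS]
  by_cases hy : y ∈ H
  · have e1 : (y : E ⧸ H) = 1 := (QuotientGroup.eq_one_iff y).2 hy
    simp only [e1, one_mul]
    rw [← Fintype.piFinset_univ, ← Finset.prod_univ_sum (fun _ => univ)
      fun c j => (ρ (tau H y c) * D) j j, h1 t ⟨y, hy⟩]
    have ho : orderOf ((x⁻¹ : E) : E ⧸ H) = r := hord _ fun h => hx (inv_mem_iff.1 h)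
    refine Finset.prod_bij (fun j _ => ((x⁻¹ : E) : E ⧸ H) ^ j) (fun _ _ => Finset.mem_univ _)
      (fun i hi' j hj e => pow_injOn_Iio_orderOf (by rw [ho]; exact Finset.mem_range.1 hi')
        (by rw [ho]; exact Finset.mem_range.1 hj) e)
      (fun c _ => ?_) fun j _ => ?_
    · have : c ∈ Subgroup.zpowers ((x⁻¹ : E) : E ⧸ H) := by
        rw [(Subgroup.card_eq_iff_eq_top (Subgroup.zpowers ((x⁻¹ : E) : E ⧸ H))).1
          (by rw [Nat.card_zpowers, ho, hcard])]
        trivial
      obtain ⟨k, hk⟩ := (mem_powers_iff_mem_zpowers.2 this)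
      exact ⟨k % r, Finset.mem_range.2 (Nat.mod_lt _ hr.pos), by rw [← ho, pow_mod_orderOf]; exact hk⟩
    · have hu : x ^ j * (((x⁻¹ : E) : E ⧸ H) ^ j).out ∈ H := by
        rw [← inv_inv (x ^ j), ← QuotientGroup.eq, QuotientGroup.out_eq', ← inv_pow,
          QuotientGroup.mk_pow]
      have e2 : tau H y (((x⁻¹ : E) : E ⧸ H) ^ j) =
          (⟨_, hu⟩ : H)⁻¹ * MulAut.conjNormal (x ^ j) (⟨y, hy⟩ : H) * ⟨_, hu⟩ := by
        apply Subtype.ext
        simp only [tau, e1, one_mul, Subgroup.coe_mul, Subgroup.coe_inv, MulAut.conjNormal_apply]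
        group
      have := hc 1 (MulAut.conjNormal (x ^ j) (⟨y, hy⟩ : H)) ⟨_, hu⟩
      rw [hT 1 (MulAut.conjNormal (x ^ j) (⟨y, hy⟩ : H)), ← e2, pow_one] at this
      simpa [Matrix.trace] using this.symm
  · obtain ⟨m, rfl⟩ : ∃ m, r = m + 1 := ⟨r - 1, (Nat.succ_pred_eq_of_pos hr.pos).symm⟩
    have ho := hord y hy
    have hyr : y ^ (m + 1) ∈ H := by
      rw [← QuotientGroup.eq_one_iff, QuotientGroup.mk_pow, ← ho, pow_orderOf_eq_one]
    let e : Fin (m + 1) ≃ E ⧸ H := Equiv.ofBijective (fun k => (y : E ⧸ H) ^ (k : ℕ))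
      ((Fintype.bijective_iff_injective_and_card _).2 ⟨fun i j e => Fin.ext
        (pow_injOn_Iio_orderOf (by simpa [ho] using i.2) (by simpa [ho] using j.2) e), by
          rw [Fintype.card_fin, ← hcard, Nat.card_eq_fintype_card]⟩)
    have he : ∀ k, e (finRotate _ k) = (y : E ⧸ H) * e k := fun k => by
      change (y : E ⧸ H) ^ ((finRotate _ k : Fin (m + 1)) : ℕ) = (y : E ⧸ H) * (y : E ⧸ H) ^ (k : ℕ)
      rw [finRotate_apply, Fin.val_add, Fin.val_one', Nat.add_mod_mod, ← pow_succ']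
      conv_rhs => rw [← pow_mod_orderOf, ho]
    let A : ℕ → Matrix (Fin n) (Fin n) ℂ := fun k => ρ (tau H y ((y : E ⧸ H) ^ k)) * D
    have hA : ∀ k, pp A k = ρ (tau H (y ^ k) 1) * D ^ k := fun k => by
      induction k with
      | zero => simp [pp, tau_one]
      | succ k ih =>
        rw [pp, ih, pow_succ' y, tau_mul, map_mul, pow_succ' D, mul_one, QuotientGroup.mk_pow]
        simp only [A, mul_assoc]
        rw [← mul_assoc D, ← (hD _).eq, mul_assoc]
    have h5 := trace_pp A m
    have hu : (1 : E ⧸ H).out ∈ H := by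
      rw [← QuotientGroup.eq_one_iff, QuotientGroup.out_eq']
    have e2 : tau H (y ^ (m + 1)) 1 = (⟨_, hu⟩ : H)⁻¹ * ⟨_, hyr⟩ * ⟨_, hu⟩ := by
      apply Subtype.ext
      simp only [tau, (QuotientGroup.eq_one_iff _).2 hyr, one_mul, Subgroup.coe_mul, Subgroup.coe_inv]
    rw [hA, e2, hc, hT] at h5
    rw [h2 t y ⟨_, hyr⟩ hy rfl, ← h5, ← (Equiv.arrowCongr e (Equiv.refl (Fin n))).symm.sum_comp]
    refine Finset.sum_congr rfl fun a _ => ?_
    rw [← e.prod_comp]
    refine Finset.prod_congr rfl fun k _ => ?_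
    rw [← he]
    simp [A, e]

end H47.KgvTm

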