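import Cfsg.Agent.H56.L3Spec
import Cfsg.Prelude.Def_Classical
import Cfsg.Prelude.Def_Solvable

/-! Interface of the blueprint `LOCAL3C.md`, section `L₄(3)` (row S3373). -/

set_option autoImplicit false
open Cfsg H56.L3

namespace H47.L43

universe u

/-- normaliser of a subgroup -/
abbrev Nr {G : Type*} [Group G] (J : Subgroup G) : Subgroup G := Subgroup.normalizer (J : Set G)
/-- centraliser of a subgroup -/
abbrev Cn {G : Type*} [Group G] (J : Subgroup G) : Subgroup G := Subgroup.centralizer (J : Set G)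
/-- conjugate subgroup `g A g⁻¹` -/
abbrev cj {G : Type*} [Group G] (g : G) (A : Subgroup G) : Subgroup G :=
  A.map (MulAut.conj g).toMonoidHom

abbrev F3 := ZMod 3
abbrev SL4 := Matrix.SpecialLinearGroup (Fin 4) F3
abbrev PSL4 := Matrix.ProjectiveSpecialLinearGroup (Fin 4) F3

/-! ### Tool -/

/-- `H ∩ C(d) = S ⟨τ⟩` with `S / E = 3 × 3` inverted by `τ`, strongly `3`-embedded modulo `⟨d⟩` -/
structure K9 {G : Type*} [Group G] (H S E : Subgroup G) (d τ p e : G) : Prop where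
  pS : IsPGroup 3 S
  dE : d ∈ E
  d3 : d ^ 3 = 1
  ES : E ≤ S
  SH : S ≤ H ⊓ Ce d
  τH : τ ∈ H ⊓ Ce d
  τS : τ ∈ Nr S
  nE : S ≤ Nr E
  dec : ∀ h ∈ H ⊓ Ce d, h ∈ S ∨ h * τ⁻¹ ∈ S
  idx : E.relIndex S = 9
  inv : ∀ s ∈ S, τ * s * τ⁻¹ * s ∈ E
  cube : ∀ s ∈ S, s ^ 3 ∈ E
  τE : τ ∈ Nr E
  comm : ∀ a ∈ E, ∀ b ∈ E, a * b = b * a
  pm : p ∈ S
  pn : p ∉ E
  ord : ∀ a ∈ E, (p * a) ^ 3 = 1
  em : e ∈ E
  en : e ∉ Subgroup.zpowers d
  e3 : e ^ 3 = 1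
  loc : ∀ g ∈ S, g ∉ Subgroup.zpowers d → g ^ 3 ∈ Subgroup.zpowers d → ∀ k ∈ Ce d,
    k * g * k⁻¹ * g⁻¹ ∈ Subgroup.zpowers d → k ∈ H
  nS : Ce d ⊓ Nr S ≤ H
  sig : Sig S

/-- **K9** (exceptional characters of `(3 × 3) : 2`). -/
def JobK9 : Prop := ∀ (G : Type u) [Group G] [Finite G] (H S E : Subgroup G) (d τ p e : G),
  K9 H S E d τ p e → Ce d ≤ H

/-! ### The abstract hypothesis -/

/-- `C(z) = 3^{1+4}_+ . SL₂(3)` with `t` inverting `Q / ⟨z⟩` -/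
structure H0 {G : Type*} [Group G] (z t : G) (Q : Subgroup G)
    (π : Ce z →* Matrix.SpecialLinearGroup (Fin 2) F3) : Prop where
  oz : orderOf z = 3
  zQ : z ∈ Q
  QC : Q ≤ Ce z
  card : Nat.card Q = 243
  exp : ∀ a ∈ Q, a ^ 3 = 1
  comm : ∀ a ∈ Q, ∀ b ∈ Q, a * b * a⁻¹ * b⁻¹ ∈ Subgroup.zpowers z
  cen : Cn Q ≤ Subgroup.zpowers z
  surj : Function.Surjective π
  ker : ∀ g, π g = 1 ↔ (g : G) ∈ Q
  tC : t ∈ Ce z
  tt : t * t = 1
  inv : ∀ a ∈ Q, t * a * t⁻¹ * a ∈ Subgroup.zpowers z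

/-- the conclusion of `JobAB` -/
structure AB {G : Type*} [Group G] (z g : G) (Q : Subgroup G) : Prop where
  mem : z ∈ cj g Q
  card : Nat.card (Q ⊓ cj g Q : Subgroup G) = 27
  comm : ∀ a ∈ Q ⊓ cj g Q, ∀ b ∈ Q ⊓ cj g Q, a * b = b * a
  nor : Ce z ≤ Nr (Q ⊓ cj g Q)
  compl : ∃ K : Subgroup G, K ≤ Ce z ∧ Nat.card K = 27 ∧ K ⊓ (Q ⊓ cj g Q) = ⊥

/-- **AB** -/
def JobAB : Prop := ∀ (G : Type u) [Group G] [Finite G] (z t : G) (Q : Subgroup G)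
  (π : Ce z →* Matrix.SpecialLinearGroup (Fin 2) F3), H0 z t Q π → ∀ g : G,
  g * z * g⁻¹ ∈ Q → g * z * g⁻¹ ∉ Subgroup.zpowers z → AB z g Q

/-- **SL3**: a self-centralising `3³` with normaliser of order `27 · 5616`, split over a subgroup
of order `27`; `b` is any basis. -/
def JobSL3 : Prop := ∀ (G : Type u) [Group G] [Finite G] (E K : Subgroup G)
  (ε : Multiplicative (Fin 3 → F3) →* G), Function.Injective ε → ε.range = E → Cn E ≤ E →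
  Nat.card (Nr E) = 27 * 5616 →
  (∀ A : Matrix.SpecialLinearGroup (Fin 3) F3, ∃ g ∈ Nr E, ∀ v : Fin 3 → F3,
    g * ε (Multiplicative.ofAdd v) * g⁻¹ = ε (Multiplicative.ofAdd (A.1.mulVec v))) ∧
  (∀ g ∈ Nr E, ∃ A : Matrix.SpecialLinearGroup (Fin 3) F3, ∀ v : Fin 3 → F3,
    g * ε (Multiplicative.ofAdd v) * g⁻¹ = ε (Multiplicative.ofAdd (A.1.mulVec v))) ∧
  (K ≤ Nr E → Nat.card K = 27 → K ⊓ E = ⊥ →
    ∃ lam : Matrix.SpecialLinearGroup (Fin 3) F3 →* G, ∀ A, lam A ∈ Nr E ∧ ∀ v : Fin 3 → F3,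
      lam A * ε (Multiplicative.ofAdd v) * (lam A)⁻¹ = ε (Multiplicative.ofAdd (A.1.mulVec v)))

/-! ### The model -/

/-- upper unitriangular matrices -/
def up (a b c d e f : F3) : SL4 :=
  ⟨!![1, a, b, c; 0, 1, d, e; 0, 0, 1, f; 0, 0, 0, 1], by
    simp [Matrix.det_succ_column_zero, Fin.sum_univ_succ]⟩

/-- the parabolic subgroup `3³ : SL₃(3)`: first column `e₀` -/
def PP : Subgroup SL4 where
  carrier := {g | g.1.mulVec (Pi.single 0 1) = Pi.single 0 1}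
  one_mem' := Matrix.one_mulVec _
  mul_mem' := by
    intro a b ha hb
    change Matrix.mulVec _ _ = _ at ha hb ⊢
    rw [Matrix.SpecialLinearGroup.coe_mul, ← Matrix.mulVec_mulVec, hb, ha]
  inv_mem' := by
    intro a ha
    change Matrix.mulVec _ _ = _ at ha ⊢
    have : (a⁻¹).1.mulVec (a.1.mulVec (Pi.single 0 1)) = Pi.single 0 1 := by
      rw [Matrix.mulVec_mulVec, ← Matrix.SpecialLinearGroup.coe_mul, inv_mul_cancel]
      exact Matrix.one_mulVec _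
    rwa [ha] at this

theorem up_mem (a b c d e f : F3) : up a b c d e f ∈ PP := by
  change (up a b c d e f).1.mulVec (Pi.single 0 1) = Pi.single 0 1
  ext i; fin_cases i <;> simp [up]

/-- `up` as an element of `PP` -/
def uP (a b c d e f : F3) : PP := ⟨up a b c d e f, up_mem ..⟩

theorem uP_mul (a b c d e f a' b' c' d' e' f' : F3) : uP a b c d e f * uP a' b' c' d' e' f' =
    uP (a + a') (b + b' + a * d') (c + c' + a * e' + b * f') (d + d') (e + e' + d * f')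
      (f + f') := by
  apply Subtype.ext
  change up a b c d e f * up a' b' c' d' e' f' = up _ _ _ _ _ _
  ext i j; rw [Matrix.SpecialLinearGroup.coe_mul]
  fin_cases i <;> fin_cases j <;> simp [up, Matrix.mul_apply, Fin.sum_univ_four] <;> ring

theorem uP_zero : uP 0 0 0 0 0 0 = 1 := by
  apply Subtype.ext
  change up 0 0 0 0 0 0 = 1
  ext i j; fin_cases i <;> fin_cases j <;> simp [up]

theorem uP_inv (a b c d e f : F3) : (uP a b c d e f)⁻¹ =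
    uP (-a) (a * d - b) (a * e + b * f - a * d * f - c) (-d) (d * f - e) (-f) := by
  rw [inv_eq_iff_mul_eq_one, uP_mul, ← uP_zero]; congr 1 <;> ring

/-- `diag(1, -1, -1, 1)` -/
def t2 : PP := ⟨⟨!![1, 0, 0, 0; 0, -1, 0, 0; 0, 0, -1, 0; 0, 0, 0, 1], by
    simp [Matrix.det_succ_column_zero, Fin.sum_univ_succ]⟩, by
  change Matrix.mulVec _ (Pi.single 0 1) = Pi.single 0 1
  ext i; fin_cases i <;> simp⟩

/-- `diag(1, 1, -1, -1)` -/
def t3 : PP := ⟨⟨!![1, 0, 0, 0; 0, 1, 0, 0; 0, 0, -1, 0; 0, 0, 0, -1], by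
    simp [Matrix.det_succ_column_zero, Fin.sum_univ_succ]⟩, by
  change Matrix.mulVec _ (Pi.single 0 1) = Pi.single 0 1
  ext i; fin_cases i <;> simp⟩

section
variable {G : Type*} [Group G] (φ : PP →* G)

/-- the elements of the Sylow `3`-subgroup -/
def s (a b c d e f : F3) : G := φ (uP a b c d e f)

theorem s_mul (a b c d e f a' b' c' d' e' f' : F3) : s φ a b c d e f * s φ a' b' c' d' e' f' =
    s φ (a + a') (b + b' + a * d') (c + c' + a * e' + b * f') (d + d') (e + e' + d * f')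
      (f + f') := by
  rw [s, s, ← map_mul, uP_mul, s]

theorem s_zero : s φ 0 0 0 0 0 0 = 1 := by rw [s, uP_zero, map_one]

theorem s_inv (a b c d e f : F3) : (s φ a b c d e f)⁻¹ =
    s φ (-a) (a * d - b) (a * e + b * f - a * d * f - c) (-d) (d * f - e) (-f) := by
  rw [s, ← map_inv, uP_inv, s]

/-- `z = e₁₄` -/
abbrev zz : G := s φ 0 0 1 0 0 0
/-- `f₀ = e₂₄` -/
abbrev f0 : G := s φ 0 0 0 0 1 0

/-- the Sylow `3`-subgroup -/
def SS : Subgroup G where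
  carrier := {g | ∃ a b c d e f, g = s φ a b c d e f}
  one_mem' := ⟨0, 0, 0, 0, 0, 0, (s_zero φ).symm⟩
  mul_mem' := by
    rintro _ _ ⟨a, b, c, d, e, f, rfl⟩ ⟨a', b', c', d', e', f', rfl⟩
    exact ⟨_, _, _, _, _, _, s_mul ..⟩
  inv_mem' := by rintro _ ⟨a, b, c, d, e, f, rfl⟩; exact ⟨_, _, _, _, _, _, s_inv ..⟩

/-- `Q = O₃(C(z))` -/
def QQ : Subgroup G where
  carrier := {g | ∃ a b c e f, g = s φ a b c 0 e f}
  one_mem' := ⟨0, 0, 0, 0, 0, (s_zero φ).symm⟩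
  mul_mem' := by
    rintro _ _ ⟨a, b, c, e, f, rfl⟩ ⟨a', b', c', e', f', rfl⟩
    exact ⟨_, _, _, _, _, by rw [s_mul, add_zero (0 : F3)]⟩
  inv_mem' := by rintro _ ⟨a, b, c, e, f, rfl⟩; exact ⟨_, _, _, _, _, by rw [s_inv, neg_zero]⟩

/-- the abelian subgroup of order `81` -/
def JJ : Subgroup G where
  carrier := {g | ∃ b c d e, g = s φ 0 b c d e 0}
  one_mem' := ⟨0, 0, 0, 0, (s_zero φ).symm⟩
  mul_mem' := by
    rintro _ _ ⟨b, c, d, e, rfl⟩ ⟨b', c', d', e', rfl⟩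
    exact ⟨_, _, _, _, by rw [s_mul, add_zero (0 : F3)]⟩
  inv_mem' := by rintro _ ⟨b, c, d, e, rfl⟩; exact ⟨_, _, _, _, by rw [s_inv, neg_zero]⟩

/-- `E₁ = O₃(PP)` -/
def E1 : Subgroup G where
  carrier := {g | ∃ a b c, g = s φ a b c 0 0 0}
  one_mem' := ⟨0, 0, 0, (s_zero φ).symm⟩
  mul_mem' := by
    rintro _ _ ⟨a, b, c, rfl⟩ ⟨a', b', c', rfl⟩
    exact ⟨a + a', b + b', c + c', by rw [s_mul]; simp⟩
  inv_mem' := by rintro _ ⟨a, b, c, rfl⟩; exact ⟨-a, -b, -c, by rw [s_inv]; simp⟩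

/-- the second isotropic subgroup -/
def E2 : Subgroup G where
  carrier := {g | ∃ c e f, g = s φ 0 0 c 0 e f}
  one_mem' := ⟨0, 0, 0, (s_zero φ).symm⟩
  mul_mem' := by
    rintro _ _ ⟨a, b, c, rfl⟩ ⟨a', b', c', rfl⟩
    exact ⟨a + a', b + b', c + c', by rw [s_mul]; simp⟩
  inv_mem' := by rintro _ ⟨a, b, c, rfl⟩; exact ⟨-a, -b, -c, by rw [s_inv]; simp⟩

/-- the standing hypothesis -/
structure HL : Prop where
  inj : Function.Injective φ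
  cen : Ce (zz φ) ≤ φ.range
  ab : ∀ g : G, g * zz φ * g⁻¹ ∈ QQ φ → g * zz φ * g⁻¹ ∉ Subgroup.zpowers (zz φ) →
    zz φ ∈ cj g (QQ φ) ∧ (QQ φ ⊓ cj g (QQ φ) = E1 φ ∨ QQ φ ⊓ cj g (QQ φ) = E2 φ)

/-- common consequences -/
structure Fx : Prop where
  syl : ¬ 3 ∣ (SS φ).index
  nE : ∀ e ∈ E1 φ, e ≠ 1 → ∀ g : G, g * e * g⁻¹ ∈ E1 φ → g ∈ φ.range
  zq : ∀ g : G, g * zz φ * g⁻¹ ∈ QQ φ → g * zz φ * g⁻¹ ∈ E1 φ ∨ g * zz φ * g⁻¹ ∈ E2 φ
  cJ : Cn (JJ φ) ≤ JJ φ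
  ab : ∀ B : Subgroup G, B ≤ SS φ → (∀ a ∈ B, ∀ b ∈ B, a * b = b * a) → 81 ≤ Nat.card B →
    B = JJ φ
  fus : ∀ j ∈ JJ φ, ∀ g : G, g * j * g⁻¹ ∈ JJ φ → ∃ n ∈ Nr (JJ φ), n * j * n⁻¹ = g * j * g⁻¹
  sig : Sig (JJ φ)
  cx : ∀ a b c e f, a * e + b * f ≠ 0 → Ce (s φ a b c 0 e f) ≤ QQ φ
  xJ : ∀ a b c e f, a * e + b * f ≠ 0 → ∀ g : G, g * s φ a b c 0 e f * g⁻¹ ∉ JJ φ
  uz : ∀ b c d e, b * e - c * d ≠ 0 → ¬ IsConj (zz φ) (s φ 0 b c d e 0)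

/-- case I: `z` fixes one coset of `P₀` -/
def SC : Prop := ∀ g : G, g * zz φ * g⁻¹ ∈ φ.range → g ∈ φ.range

/-- the elements of rank two of `J` have their centralisers in `H` -/
def CU (H : Subgroup G) : Prop := ∀ b c d e, b * e - c * d ≠ 0 → Ce (s φ 0 b c d e 0) ≤ H

/-- case II: `φ` extends to `SL₄(3)` -/
structure Ext (ψ : SL4 →* G) : Prop where
  ext : ∀ p : PP, ψ p = φ p
  ker : ∀ g : SL4, ψ g = 1 ↔ g.1 = 1 ∨ g.1 = -1

end

/-- **M**: the parabolic subgroup. -/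
def JobM : Prop := JobAB.{u} → JobSL3.{u} → ∀ (G : Type u) [Group G] [Finite G] (z t x : G)
  (Q : Subgroup G) (π : Ce z →* Matrix.SpecialLinearGroup (Fin 2) F3), H0 z t Q π →
  x * z * x⁻¹ ∈ Q → x * z * x⁻¹ ∉ Subgroup.zpowers z → ∃ φ : PP →* G, HL φ

/-- **X** -/
def JobX : Prop := ∀ (G : Type u) [Group G] [Finite G] (φ : PP →* G), HL φ → Fx φ

/-- **I0** -/
def JobI0 : Prop := ∀ (G : Type u) [Group G] [Finite G] (φ : PP →* G), HL φ → Fx φ →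
  ¬ IsConj (zz φ) (f0 φ) → SC φ

/-- **I1** -/
def JobI1 : Prop := JobK9.{u} → ∀ (G : Type u) [Group G] [Finite G] (φ : PP →* G), HL φ → Fx φ →
  SC φ → CU φ φ.range

/-- **I2** -/
def JobI2 : Prop := JobK9.{u} → ∀ (G : Type u) [Group G] [Finite G] (φ : PP →* G), HL φ → Fx φ →
  SC φ → CU φ φ.range → Ce (f0 φ) ≤ φ.range

/-- **I3** -/
def JobI3 : Prop := ∀ (G : Type u) [Group G] [Finite G] (φ : PP →* G), HL φ → Fx φ →
  SC φ → CU φ φ.range → Ce (f0 φ) ≤ φ.range → φ.range = ⊤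

/-- **II** -/
def JobII : Prop := JobSL3.{u} → ∀ (G : Type u) [Group G] [Finite G] (φ : PP →* G), HL φ → Fx φ →
  IsConj (zz φ) (f0 φ) → ∃ ψ, Ext φ ψ

/-- **U** -/
def JobU : Prop := ∀ (G : Type u) [Group G] [Finite G] (φ : PP →* G) (ψ : SL4 →* G), HL φ →
  Fx φ → Ext φ ψ → CU φ ψ.range

/-- **F** -/
def JobF : Prop := ∀ (G : Type u) [Group G] [Finite G] (φ : PP →* G) (ψ : SL4 →* G), HL φ →
  Fx φ → Ext φ ψ → CU φ ψ.range → Nonempty (G ≃* PSL4)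

/-- **P** -/
def JobP : Prop := ∃ P : Subgroup PSL4, IsCoatom P ∧ Nat.card (pCore 3 P) = 27 ∧
  Nonempty (P ⧸ pCore 3 P ≃* Matrix.SpecialLinearGroup (Fin 3) F3) ∧ Nonempty (PP ≃* P)

/-- assembly -/
theorem main (k9 : JobK9.{u}) (ab : JobAB.{u}) (sl : JobSL3.{u}) (m : JobM.{u}) (x : JobX.{u})
    (i0 : JobI0.{u}) (i1 : JobI1.{u}) (i2 : JobI2.{u}) (i3 : JobI3.{u}) (ii : JobII.{u})
    (ju : JobU.{u}) (jf : JobF.{u}) {G : Type u} [Group G] [Finite G] {z t y : G}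
    {Q : Subgroup G} {π : Ce z →* Matrix.SpecialLinearGroup (Fin 2) F3} (h : H0 z t Q π)
    (h1 : y * z * y⁻¹ ∈ Q) (h2 : y * z * y⁻¹ ∉ Subgroup.zpowers z) :
    Nonempty (G ≃* PSL4) ∨ Nonempty (G ≃* PP) := by
  obtain ⟨φ, hl⟩ := m ab sl G z t y Q π h h1 h2
  have fx := x G φ hl
  by_cases hc : IsConj (zz φ) (f0 φ)
  · obtain ⟨ψ, he⟩ := ii sl G φ hl fx hc
    exact .inl (jf G φ ψ hl fx he (ju G φ ψ hl fx he))
  · have sc := i0 G φ hl fx hc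
    have cu := i1 k9 G φ hl fx sc
    have := i3 G φ hl fx sc cu (i2 k9 G φ hl fx sc cu)
    exact .inr ⟨(MulEquiv.ofBijective φ ⟨hl.inj, MonoidHom.range_eq_top.1 this⟩).symm⟩

end H47.L43
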