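import Cfsg.Agent.H56.L3Spec
import Cfsg.Prelude.Def_SporadicB
import Cfsg.Prelude.Def_Spor_Conway

/-! Interface of the blueprint `LOCAL3C.md`, section McL (rows S5523, S3367, S2913). -/

set_option autoImplicit false
open Cfsg H56.L3

namespace H47.McL

universe u

abbrev V := Fin 4 → ZMod 3
abbrev Mat := Matrix (Fin 4) (Fin 4) (ZMod 3)

/-- Gram matrix of the form in the basis `y, e₁, e₂, e₃` -/
def B : Mat := !![1, 0, 0, 0; 0, -1, 0, 0; 0, 0, -1, 0; 0, 0, 0, -1]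
/-- the quadratic form of minus type -/
def q (x : V) : ZMod 3 := x 0 ^ 2 - x 1 ^ 2 - x 2 ^ 2 - x 3 ^ 2
def mT : Mat := !![1, 0, 0, 0; 0, 1, 0, 0; 0, 0, -1, 0; 0, 0, 0, -1]
def mR : Mat := !![1, 0, 0, 0; 0, -1, 0, 0; 0, 0, 1, 0; 0, 0, 0, -1]
/-- `e₁ → e₂ → e₃ → e₁` -/
def mS : Mat := !![1, 0, 0, 0; 0, 0, 0, 1; 0, 1, 0, 0; 0, 0, 1, 0]
/-- `y ↦ -y`, `e₂ ↔ e₃` -/
def mU : Mat := !![-1, 0, 0, 0; 0, 1, 0, 0; 0, 0, 0, 1; 0, 0, 1, 0]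
/-- `y → e₂ + e₃ → e₂ - e₃ → y` -/
def mW : Mat := !![0, 0, -1, 1; 0, 1, 0, 0; 1, 0, -1, -1; 1, 0, 1, 1]
/-- `y ↔ e₁`, `e₂ ↦ e₂ + e₃`, `e₃ ↦ e₂ - e₃` -/
def mF : Mat := !![0, 1, 0, 0; 1, 0, 0, 0; 0, 0, 1, 1; 0, 0, 1, -1]
def vy : V := ![1, 0, 0, 0]
def vz : V := ![1, 1, 0, 0]
def vz' : V := ![1, -1, 0, 0]
def va : V := ![0, 1, 1, 1]

variable {G : Type*} [Group G]

/-- normaliser of a subgroup -/
abbrev Nr (J : Subgroup G) : Subgroup G := Subgroup.normalizer (J : Set G)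

/-- `g` acts on the coordinates by the matrix `M` -/
def Acts (v : V → G) (g : G) (M : Mat) : Prop := ∀ x, g * v x * g⁻¹ = v (M.mulVec x)

/-- weak closure: `J` is the only abelian subgroup of order `81` of a `3`-group containing it -/
def WC (J : Subgroup G) : Prop :=
  ∀ P A : Subgroup G, IsPGroup 3 P → J ≤ P → A ≤ P → (∀ a ∈ A, ∀ b ∈ A, a * b = b * a) →
    Nat.card A = 81 → A = J

/-- `v` is an isomorphism of `𝔽₃⁴` with `J` -/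
structure Coord (v : V → G) (J : Subgroup G) : Prop where
  add : ∀ x x', v (x + x') = v x * v x'
  inj : Function.Injective v
  mem : ∀ g, g ∈ J ↔ ∃ x, v x = g

/-- the hypotheses of S5523 -/
structure Hyp (S : Sylow 3 G) (Z J M₀ L₀ Q : Subgroup G) : Prop where
  hZ : Z = (S : Subgroup G) ⊓ Subgroup.centralizer ((S : Subgroup G) : Set G)
  hJS : J ≤ S
  comm : IsMulCommutative J
  exp : ∀ a ∈ J, a ^ 3 = 1
  card : Nat.card J = 3 ^ 4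
  hM : M₀ = Subgroup.closure {g : G | g ∈ Nr J ∧ ∃ k : ℕ, orderOf g = 3 ^ k}
  hJM : J ≤ M₀
  eM : ∃ π : M₀ →* alternatingGroup (Fin 6), Function.Surjective π ∧ ∀ g, π g = 1 ↔ (g : G) ∈ J
  hL : L₀ = Subgroup.closure {g : G | g ∈ Nr Z ∧ ∃ k : ℕ, orderOf g = 3 ^ k}
  hQ : Q = (pCore 3 (Nr Z)).map (Nr Z).subtype
  ex : IsExtraspecial 3 Q
  cardQ : Nat.card Q = 3 ^ 5
  expQ : ∀ a ∈ Q, a ^ 3 = 1
  hQL : Q ≤ L₀
  eL : ∃ π : L₀ →* Matrix.SpecialLinearGroup (Fin 2) (ZMod 5), Function.Surjective π ∧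
    ∀ g, π g = 1 ↔ (g : G) ∈ Q
  iii : Subgroup.centralizer (((pCore 3 (Subgroup.centralizer (Z : Set G))).map
      (Subgroup.centralizer (Z : Set G)).subtype : Subgroup G) : Set G) ≤
    (pCore 3 (Subgroup.centralizer (Z : Set G))).map (Subgroup.centralizer (Z : Set G)).subtype

/-- the subgroup `L₁ ≅ SL₂(5)` of `C(t)` and the element `f` of order `4` -/
structure LF (J Q M₀ L₁ : Subgroup G) (z t f : G) : Prop where
  sq : f * f = t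
  fN : f ∈ Nr J
  fL : f ∈ L₁
  le : L₁ ≤ Ce t ⊓ Ce z
  iso : Nonempty (L₁ ≃* Matrix.SpecialLinearGroup (Fin 2) (ZMod 5))
  nor : Nz z ⊓ Ce t ≤ Nr L₁
  dJ : ∃ d ∈ J, d ∈ L₁ ∧ d ≠ 1
  finv : ∀ j ∈ J, f * j * f⁻¹ * j ∈ Q
  nf : ∀ g ∈ Nr J ⊓ Nz z ⊓ Ce t, g * f * g⁻¹ * f⁻¹ ∈ J ∨ g * f * g⁻¹ * f ∈ J
  frat : ∀ g ∈ Nr J, ∃ m ∈ M₀, m⁻¹ * g ∈ Nz z ⊓ Ce t

/-- what the structure of `N(Z)` gives -/
structure NZ (S J Q M₀ : Subgroup G) (z : G) : Prop where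
  ord : orderOf z = 3
  zJ : z ∈ J
  zQ : z ∈ Q
  zS : S ≤ Ce z
  cardS : Nat.card S = 729
  QS : Q ≤ S
  SM : S ≤ M₀
  MN : M₀ ≤ Nr J
  expQ : ∀ a ∈ Q, a ^ 3 = 1
  Qn : Nz z ≤ Nr Q
  NS : Nr J ⊓ Nz z ≤ Nr S
  JQ : ∀ s ∈ S, ∃ a ∈ Q, ∃ j ∈ J, s = a * j
  cardA : Nat.card (J ⊓ Q : Subgroup G) = 27
  wc : WC J
  cJ : Subgroup.centralizer (J : Set G) ≤ J
  y3 : ∀ g ∈ Nz z, ∀ j ∈ J, j ∉ Subgroup.zpowers z → g * j = j * g → g ∈ Nr J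
  qconj : ∀ a ∈ Q, ∃ l ∈ Ce z, l * a * l⁻¹ ∈ J
  inv : ∀ t ∈ Nr J ⊓ Ce z, t * t = 1 → (∀ a ∈ J ⊓ Q, t * a * t⁻¹ * a ∈ Subgroup.zpowers z) →
    (∀ j ∈ J, t * j * t⁻¹ * j⁻¹ ∈ Q) → ∃ L₁ f, LF J Q M₀ L₁ z t f

/-- the dihedral group of order `8` in `M₀` -/
structure D8 (v : V → G) (t r τ : G) : Prop where
  aT : Acts v t mT
  aR : Acts v r mR
  aU : Acts v τ mU
  tt : t * t = 1
  rr : r * r = 1
  uu : τ * τ = 1
  tr : t * r = r * t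
  tu : t * τ = τ * t
  uru : τ * r * τ = r * t

/-- the `A₆`-module `J` in coordinates -/
structure Mod (v : V → G) (J M₀ : Subgroup G) : Prop extends Coord v J where
  iso : ∀ g ∈ M₀, ∃ M, Acts v g M ∧ M.transpose * B * M = B ∧ M.det = 1
  d8 : ∃ t ∈ M₀, ∃ r ∈ M₀, ∃ τ ∈ M₀, D8 v t r τ
  exS : ∃ σ ∈ M₀, Acts v σ mS
  exW : ∃ s ∈ M₀, Acts v s mW

/-- the complete `3`-local data -/
structure Loc (v : V → G) (J Qa L₁ : Subgroup G) (t r τ σ f : G) : Prop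
    extends Coord v J, D8 v t r τ where
  cJ : Subgroup.centralizer (J : Set G) ≤ J
  wc : WC J
  act : ∀ g ∈ Nr J, ∃ M, Acts v g M ∧ M.transpose * B * M = M.det • B
  orb0 : ∀ x, x ≠ 0 → q x = 0 → ∃ g ∈ Nr J, g * v vz * g⁻¹ = v x
  orb1 : ∀ x, q x ≠ 0 → ∃ g ∈ Nr J, g * v vy * g⁻¹ = v x
  sing : ∀ x, IsConj (v vz) (v x) → q x = 0
  y3 : ∀ x x', x ≠ 0 → q x = 0 → x' ≠ 0 → x' ≠ x → x' ≠ -x →
    ∀ g ∈ Nz (v x), g * v x' = v x' * g → g ∈ Nr J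
  aS : Acts v σ mS
  aF : Acts v f mF
  s3 : σ ^ 3 = 1
  st : σ * t * σ⁻¹ = r
  sr : σ * r * σ⁻¹ = t * r
  ff : f * f = t
  sQ : σ ∈ Qa
  vQ : ∀ x : V, x 1 + x 2 + x 3 = 0 → v x ∈ Qa
  Qcl : ∀ g ∈ Qa, g ∈ Subgroup.zpowers (v va) ∨ IsConj (v vy) g
  Lle : L₁ ≤ Ce t ⊓ Ce (v vz)
  Liso : Nonempty (L₁ ≃* Matrix.SpecialLinearGroup (Fin 2) (ZMod 5))
  Lnor : Nz (v vz) ⊓ Ce t ≤ Nr L₁
  fL : f ∈ L₁
  zL : v vz' ∈ L₁

/-- some element inverts `J` (the case `Aut(McL)`) -/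
def Neg (v : V → G) : Prop := ∃ ι : G, Acts v ι (-1)

/-- `C(t) / ⟨t⟩ ≅ X` -/
def CtIs (t : G) (X : Type*) [Group X] : Prop :=
  ∃ π : Ce t →* X, Function.Surjective π ∧ ∀ g, π g = 1 ↔ (g : G) ∈ Subgroup.zpowers t

/-- `C(t) / ⟨t⟩` has a normal subgroup `A₅ × A₅` of index `4` -/
def CtA5 (t : G) : Prop :=
  ∃ N : Subgroup G, N ≤ Ce t ∧ t ∈ N ∧ Ce t ≤ Nr N ∧ N.relIndex (Ce t) = 4 ∧
    ∃ π : N →* alternatingGroup (Fin 5) × alternatingGroup (Fin 5), Function.Surjective π ∧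
      ∀ g, π g = 1 ↔ (g : G) ∈ Subgroup.zpowers t

/-- row S3329 -/
def R3329 : Prop := ∀ (G : Type u) [Group G] [Finite G]
    (P : Sylow 3 G) (D : Subgroup G) (_ : D = P) (y z : G) (_ : Subgroup.closure {y, z} = D)
    (_ : IsMulCommutative D) (_ : Nat.card D = 9) (_ : ∀ a ∈ D, a ^ 3 = 1)
    (_ : Subgroup.centralizer (D : Set G) = D)
    (_ : Subgroup.normalizer (D : Set G) ⧸ D.subgroupOf (Subgroup.normalizer (D : Set G)) ≃*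
      DihedralGroup 4)
    (_ : (D.subgroupOf (Subgroup.centralizer ({y} : Set G))).Normal)
    (_ : Nat.card (Subgroup.centralizer ({y} : Set G)) = 18)
    (Ny : Subgroup G) (_ : Ny = Subgroup.normalizer (Subgroup.zpowers y : Set G))
    (_ : D ≤ Ny) [(D.subgroupOf Ny).Normal]
    (_ : Nat.card (Ny ⧸ D.subgroupOf Ny) = 4) (_ : ∀ g : Ny ⧸ D.subgroupOf Ny, g ^ 2 = 1)
    (_ : Subgroup.centralizer ({z} : Set G) ≃* Multiplicative (ZMod 3) × alternatingGroup (Fin 5))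
    (_ : Subgroup.normalizer (Subgroup.zpowers z : Set G) ≃*
      (((Equiv.Perm.sign).comp (MonoidHom.fst (Equiv.Perm (Fin 3)) (Equiv.Perm (Fin 5)))) *
        ((Equiv.Perm.sign).comp (MonoidHom.snd (Equiv.Perm (Fin 3)) (Equiv.Perm (Fin 5))))).ker),
    Nonempty (G ≃* alternatingGroup (Fin 8))

/-- row S3330 -/
def R3330 : Prop := ∀ (G : Type u) [Group G] [Finite G]
    (P : Sylow 3 G) (D : Subgroup G) (_ : D = P) (y z : G) (_ : Subgroup.closure {y, z} = D)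
    (_ : IsMulCommutative D) (_ : Nat.card D = 9) (_ : ∀ a ∈ D, a ^ 3 = 1)
    (_ : Nat.card (Subgroup.centralizer (D : Set G)) = 18)
    (_ : Subgroup.normalizer (D : Set G) ⧸ D.subgroupOf (Subgroup.normalizer (D : Set G)) ≃*
      DihedralGroup 4 × Multiplicative (ZMod 2))
    [((Subgroup.centralizer (D : Set G)).subgroupOf (Subgroup.normalizer (D : Set G))).Normal]
    (_ : Subgroup.normalizer (D : Set G) ⧸ (Subgroup.centralizer (D : Set G)).subgroupOf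
      (Subgroup.normalizer (D : Set G)) ≃* DihedralGroup 4)
    (_ : (D.subgroupOf (Subgroup.centralizer ({y} : Set G))).Normal)
    (_ : Nat.card (Subgroup.centralizer ({y} : Set G)) = 36)
    (_ : ∀ g ∈ Subgroup.centralizer ({y} : Set G), g ^ 2 ∈ D)
    (Ny : Subgroup G) (_ : Ny = Subgroup.normalizer (Subgroup.zpowers y : Set G))
    (_ : (D.subgroupOf Ny).Normal) (_ : Nat.card Ny = 72) (_ : ∀ g ∈ Ny, g ^ 2 ∈ D)
    (_ : Subgroup.centralizer ({z} : Set G) ≃* Multiplicative (ZMod 3) × Equiv.Perm (Fin 5))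
    (_ : Subgroup.normalizer (Subgroup.zpowers z : Set G) ≃*
      Equiv.Perm (Fin 3) × Equiv.Perm (Fin 5)),
    Nonempty (G ≃* Equiv.Perm (Fin 8)) ∨
      ∃ N : Subgroup G, N.Normal ∧ generalizedFittingSubgroup G = N ∧
        Nonempty (N ≃* alternatingGroup (Fin 5) × alternatingGroup (Fin 5)) ∧
        (∀ K : Subgroup G, K.Normal → K ≤ N → K = ⊥ ∨ K = N) ∧
        N.index = 4 ∧ ∀ g : G, g ^ 2 ∈ N

/-- row S3334 -/
def R3334 : Prop := ∀ (G : Type u) [Group G] [Finite G] (t : G) (_ : orderOf t = 2)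
    (_ : IsNonsplitDoubleCover (Subgroup.centralizer ({t} : Set G)) (alternatingGroup (Fin 8))),
    Subgroup.centralizer ({t} : Set G) ⊔ oddCore G = ⊤ ∨ Nonempty (G ≃* Spor.McL)

/-- row S5523 -/
def R5523 : Prop := ∀ (G : Type u) [Group G] [Finite G] (S : Sylow 3 G) (Z J M₀ L₀ Q : Subgroup G),
  Hyp S Z J M₀ L₀ Q → Nonempty (G ≃* Spor.McL) ∨ Nonempty (G ≃* MulAut Spor.McL)

/-- **M1**: the structure of `N(Z)`. -/
def JobM1 : Prop := ∀ (G : Type u) [Group G] [Finite G] (S : Sylow 3 G) (Z J M₀ L₀ Q : Subgroup G),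
  Hyp S Z J M₀ L₀ Q → ∃ z, NZ S J Q M₀ z

/-- **M2**: the faithful `4`-dimensional `𝔽₃A₆`-module. -/
def JobM2 : Prop := ∀ (G : Type u) [Group G] [Finite G] (S J M₀ : Subgroup G) (z : G),
  IsMulCommutative J → (∀ a ∈ J, a ^ 3 = 1) → Nat.card J = 3 ^ 4 → J ≤ S → S ≤ M₀ → M₀ ≤ Nr J →
  Nat.card S = 729 → Subgroup.centralizer (J : Set G) ≤ J →
  (∃ π : M₀ →* alternatingGroup (Fin 6), Function.Surjective π ∧ ∀ g, π g = 1 ↔ (g : G) ∈ J) →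
  z ∈ J → z ≠ 1 → S ≤ Ce z → ∃ v, Mod v J M₀ ∧ v vz = z

/-- **M3**: the two sides together. -/
def JobM3 : Prop := ∀ (G : Type u) [Group G] [Finite G] (S J Q M₀ : Subgroup G) (v : V → G),
  J ≤ S → NZ S J Q M₀ (v vz) → Mod v J M₀ → ∃ v' Qa L₁ t r τ σ f, Loc v' J Qa L₁ t r τ σ f

/-- **Y**: the centraliser of a non-singular vector. -/
def JobY : Prop := ∀ (G : Type u) [Group G] [Finite G] (v : V → G) (J Qa L₁ : Subgroup G)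
  (t r τ σ f : G), Loc v J Qa L₁ t r τ σ f → Ce (v vy) ≤ Nr J

/-- **XA1**: `C(t) / ⟨t⟩ ≅ A₈`. -/
def JobXA1 : Prop := R3329.{u} → ∀ (G : Type u) [Group G] [Finite G] (v : V → G)
  (J Qa L₁ : Subgroup G) (t r τ σ f : G), Loc v J Qa L₁ t r τ σ f → Ce (v vy) ≤ Nr J → ¬ Neg v →
  CtIs t (alternatingGroup (Fin 8))

/-- **XA2**: `C(t) / ⟨t⟩ ≅ S₈` or the exceptional configuration. -/
def JobXA2 : Prop := R3330.{u} → ∀ (G : Type u) [Group G] [Finite G] (v : V → G)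
  (J Qa L₁ : Subgroup G) (t r τ σ f : G), Loc v J Qa L₁ t r τ σ f → Ce (v vy) ≤ Nr J → Neg v →
  CtIs t (Equiv.Perm (Fin 8)) ∨ CtA5 t

/-- **XB1** -/
def JobXB1 : Prop := R3334.{u} → ∀ (G : Type u) [Group G] [Finite G] (v : V → G)
  (J Qa L₁ : Subgroup G) (t r τ σ f : G), Loc v J Qa L₁ t r τ σ f →
  CtIs t (alternatingGroup (Fin 8)) → Nonempty (G ≃* Spor.McL)

/-- **XB2** -/
def JobXB2 : Prop := R3334.{u} → ∀ (G : Type u) [Group G] [Finite G] (v : V → G)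
  (J Qa L₁ : Subgroup G) (t r τ σ f : G), Loc v J Qa L₁ t r τ σ f → Neg v →
  CtIs t (Equiv.Perm (Fin 8)) → Nonempty (G ≃* MulAut Spor.McL)

/-- **XB3** -/
def JobXB3 : Prop := ∀ (G : Type u) [Group G] [Finite G] (v : V → G)
  (J Qa L₁ : Subgroup G) (t r τ σ f : G), Loc v J Qa L₁ t r τ σ f → Ce (v vy) ≤ Nr J →
  ¬ CtA5 t

/-- assembly -/
theorem r5523 (m1 : JobM1.{u}) (m2 : JobM2.{u}) (m3 : JobM3.{u}) (hy : JobY.{u})
    (a1 : JobXA1.{u}) (a2 : JobXA2.{u}) (b1 : JobXB1.{u}) (b2 : JobXB2.{u}) (b3 : JobXB3.{u})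
    (h29 : R3329.{u}) (h30 : R3330.{u}) (h34 : R3334.{u}) : R5523.{u} := by
  intro G _ _ S Z J M₀ L₀ Q h
  obtain ⟨z, hz⟩ := m1 G S Z J M₀ L₀ Q h
  obtain ⟨v, hv, rfl⟩ := m2 G S J M₀ z h.comm h.exp h.card h.hJS hz.SM hz.MN hz.cardS hz.cJ h.eM
    hz.zJ (fun e => by have := hz.ord; rw [e, orderOf_one] at this; omega) hz.zS
  obtain ⟨v, Qa, L₁, t, r, τ, σ, f, hl⟩ := m3 G S J Q M₀ v h.hJS hz hv
  have hc := hy G v J Qa L₁ t r τ σ f hl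
  by_cases hn : Neg v
  · exact .inr (b2 h34 G v J Qa L₁ t r τ σ f hl hn
      ((a2 h30 G v J Qa L₁ t r τ σ f hl hc hn).resolve_right (b3 G v J Qa L₁ t r τ σ f hl hc)))
  · exact .inl (b1 h34 G v J Qa L₁ t r τ σ f hl (a1 h29 G v J Qa L₁ t r τ σ f hl hc hn))

end H47.McL
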