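import Cfsg.Agent.H47.O8A4
import Mathlib.LinearAlgebra.Matrix.Action
import Mathlib.LinearAlgebra.Matrix.GeneralLinearGroup.Card

/-! `JobA3` of `H47.O8Sp` (blueprint `LOCAL3C.md`, §5.4). -/

set_option autoImplicit false
set_option maxRecDepth 100000
open Cfsg Subgroup H14 H98 H56.L3 H42.L3 H47.MC H42.MC H26.MC
open scoped Matrix commutatorElement

namespace H47.O8

universe u

variable {G : Type u} [Group G] [Finite G] {d : Dat0 G} {g : G} {M : Mat} {x : V}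

omit [Finite G] in
theorem conj_acts (hg : Acts d.v g M) (x : V) : IsConj d.z (d.v (M *ᵥ x)) ↔ IsConj d.z (d.v x) :=
  ⟨fun e => e.trans (isConj_iff.2 ⟨g, hg x⟩).symm, fun e => e.trans (isConj_iff.2 ⟨g, hg x⟩)⟩

theorem dot_add (x y w : V) : dot (x + y) w = dot x w + dot y w := by simp [dot]; ring
theorem dot_comm (x y : V) : dot x y = dot y x := by simp [dot]; ring
theorem dot_smul (a : ZMod 3) (x w : V) : dot (a • x) w = a * dot x w := by simp [dot]; ring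

/-- a matrix preserving the singular vectors is a similarity -/
theorem sim (h : ∀ x, nrm x = 0 → nrm (M *ᵥ x) = 0) (x y : V) :
    dot (M *ᵥ x) (M *ᵥ y) = nrm (M *ᵥ e0) * dot x y := by
  have key : ∀ a b c : V, nrm (a + b + c) = 0 → nrm (a + b - c) = 0 → nrm (a - b + c) = 0 →
      nrm (a - b - c) = 0 → dot a b = 0 ∧ dot a c = 0 ∧ dot b c = 0 ∧ nrm a + nrm b + nrm c = 0 :=
    fun a b c h1 h2 h3 h4 => by
      have h0 : (3 : ZMod 3) = 0 := rfl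
      simp only [nrm, dot, Pi.add_apply, Pi.sub_apply] at *
      refine ⟨?_, ?_, ?_, ?_⟩
      · linear_combination (exp := 1) (-1 : ZMod 3) * (h1 + h2 - h3 - h4) +
          3 * (a 0 * b 0 + a 1 * b 1 + a 2 * b 2 + a 3 * b 3) * h0
      · linear_combination (exp := 1) (-1 : ZMod 3) * (h1 - h2 + h3 - h4) +
          3 * (a 0 * c 0 + a 1 * c 1 + a 2 * c 2 + a 3 * c 3) * h0
      · linear_combination (exp := 1) (-1 : ZMod 3) * (h1 - h2 - h3 + h4) +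
          3 * (b 0 * c 0 + b 1 * c 1 + b 2 * c 2 + b 3 * c 3) * h0
      · linear_combination (exp := 1) h1 + h2 + h3 + h4 - (a 0 * a 0 + a 1 * a 1 + a 2 * a 2 +
          a 3 * a 3 + (b 0 * b 0 + b 1 * b 1 + b 2 * b 2 + b 3 * b 3) +
          (c 0 * c 0 + c 1 * c 1 + c 2 * c 2 + c 3 * c 3)) * h0
  have k2 : ∀ i j k : Fin 4, i ≠ j → i ≠ k → j ≠ k → _ := fun i j k a b c =>
    let ⟨e1, e2, e3, e4⟩ := (by decide : ∀ i j k : Fin 4, i ≠ j → i ≠ k → j ≠ k →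
      nrm (Pi.single i 1 + Pi.single j 1 + Pi.single k 1) = 0 ∧
      nrm (Pi.single i 1 + Pi.single j 1 - Pi.single k 1) = 0 ∧
      nrm (Pi.single i 1 - Pi.single j 1 + Pi.single k 1) = 0 ∧
      nrm (Pi.single i 1 - Pi.single j 1 - Pi.single k 1) = 0) i j k a b c
    key (M *ᵥ Pi.single i 1) (M *ᵥ Pi.single j 1) (M *ᵥ Pi.single k 1)
      (by simpa only [Matrix.mulVec_add, Matrix.mulVec_sub] using h _ e1)
      (by simpa only [Matrix.mulVec_add, Matrix.mulVec_sub] using h _ e2)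
      (by simpa only [Matrix.mulVec_add, Matrix.mulVec_sub] using h _ e3)
      (by simpa only [Matrix.mulVec_add, Matrix.mulVec_sub] using h _ e4)
  obtain ⟨a1, a2, a3, a4⟩ := k2 0 1 2 (by decide) (by decide) (by decide)
  obtain ⟨-, b2, b3, b4⟩ := k2 0 1 3 (by decide) (by decide) (by decide)
  obtain ⟨-, -, c3, c4⟩ := k2 0 2 3 (by decide) (by decide) (by decide)
  obtain ⟨-, -, -, d4⟩ := k2 1 2 3 (by decide) (by decide) (by decide)
  simp only [nrm, dot, mulVec_eq, act, e0] at *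
  simp at *
  linear_combination (x 0 * y 1 + x 1 * y 0) * a1 + (x 0 * y 2 + x 2 * y 0) * a2 +
    (x 1 * y 2 + x 2 * y 1) * a3 + (x 0 * y 3 + x 3 * y 0) * b2 + (x 1 * y 3 + x 3 * y 1) * b3 +
    (x 2 * y 3 + x 3 * y 2) * c3 + x 1 * y 1 * (d4 - c4) + x 2 * y 2 * (d4 - b4) +
    x 3 * y 3 * (d4 - a4)

theorem Base.act_of (h : Base d) (nQ1 : Nz d.z ≤ Nr (d.Q ⊓ Ce d.t))
    (sing : ∀ x, IsConj d.z (d.v x) ↔ x ≠ 0 ∧ nrm x = 0) (hg : g ∈ Nr d.J) :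
    ∃ M, Acts d.v g M ∧ Iso M := by
  choose M hM using fun g : Nr d.J => exists_acts h.co g.2
  have h1 : ∀ g x y, dot (M g *ᵥ x) (M g *ᵥ y) = nrm (M g *ᵥ e0) * dot x y := fun g =>
    sim fun x hx => by
      by_cases e : x = 0
      · rw [e, Matrix.mulVec_zero]; rfl
      · exact ((sing _).1 ((conj_acts (hM g) x).2 ((sing x).2 ⟨e, hx⟩))).2
  let f : Nr d.J →* ZMod 3 :=
    { toFun := fun g => nrm (M g *ᵥ e0)
      map_one' := by rw [acts_unique h.co (hM 1) acts_one]; decide +kernel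
      map_mul' := fun a b => by
        rw [acts_unique h.co (hM (a * b)) (acts_mul (hM a) (hM b)), ← Matrix.mulVec_mulVec, nrm, h1]
        rfl }
  have h2 : ∀ g N, Acts d.v g N → Iso N → g ∈ f.ker.map (Nr d.J).subtype := fun g N a b =>
    ⟨⟨g, acts_nr h.co a⟩, by
      change nrm _ = _
      rw [acts_unique h.co (hM _) a, b.nrm]; rfl, rfl⟩
  have h3 : d.J ⊔ d.Q ≤ f.ker.map (Nr d.J).subtype := fun g hg => by
    obtain ⟨α, β, x, rfl⟩ := h.mem_S.1 hg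
    exact mul_mem (mul_mem (pow_mem (h2 _ _ h.a1 (by decide +kernel)) _)
      (pow_mem (h2 _ _ h.a2 (by decide +kernel)) _)) (h2 _ _ (acts_J h.co (v_mem h.co x))
      (by decide +kernel))
  obtain ⟨a, ha, _, ⟨n, hn, rfl⟩, e⟩ := (h.syl.of_le h3 le_top).frattini_mem
    (le_normalizer_map_subtype _ hg)
  have h4 : a ∈ Nr d.J := (Subgroup.mul_mem_cancel_right _ n.2).1 (e ▸ hg)
  have h5 : d.v (M ⟨a, h4⟩ *ᵥ vz) ∈ cn (d.J ⊔ d.Q) := hM ⟨a, h4⟩ vz ▸ conj_mem_of_mem_normalizer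
    (normalizer_le_normalizer_centralizer _ ha) fun s hs => mem_Ce.1 (h.S_z hs)
  obtain ⟨c, h6⟩ := (by decide +kernel : ∀ x : V, mQ1 *ᵥ x = x → mQ2 *ᵥ x = x →
    ∃ c : ZMod 3, c • vz = x) _
    ((acts_mem_Ce h.co h.a1).1 (mem_Ce.2 (h5 _ (mem_sup_right h.q1_Q))))
    ((acts_mem_Ce h.co h.a2).1 (mem_Ce.2 (h5 _ (mem_sup_right h.q2_Q))))
  have h7 := conj_mem_of_mem_normalizer (nQ1 (mem_Nz.2 ((mem_zp_v h.co).2
    ⟨c, by rw [h6, ← hM]⟩))) (⟨h.v_Q (x := vy) (by decide), h.v_t.2 (by decide +kernel)⟩ :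
      d.v vy ∈ d.Q ⊓ Ce d.t)
  rw [hM ⟨a, h4⟩] at h7
  have h8 : f ⟨a, h4⟩ = 1 := by
    have := h1 ⟨a, h4⟩ vy vy
    rw [show dot vy vy = 1 by decide, mul_one] at this
    refine this.symm.trans ((by decide +kernel : ∀ x : V, dot x vz = 0 → mT *ᵥ x = x →
      ¬ (x ≠ 0 ∧ nrm x = 0) → x ≠ 0 → dot x x = 1) _ (h.dot_of_Q h7.1) (h.v_t.1 h7.2)
      (fun e => absurd ((sing _).1 ((conj_acts (hM _) _).1 ((sing _).2 e))) (by decide)) fun e => ?_)
    have := hM ⟨a, h4⟩ vy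
    rw [e, v_zero h.co, mul_inv_eq_one, mul_eq_left, v_eq_one h.co] at this
    exact absurd this (by decide)
  have h9 : f ⟨g, hg⟩ = 1 := by
    rw [show (⟨g, hg⟩ : Nr d.J) = ⟨a, h4⟩ * n from Subtype.ext e, map_mul, h8, hn, one_mul]
  refine ⟨_, hM ⟨g, hg⟩, ?_⟩
  ext i j
  have := h1 ⟨g, hg⟩ (Pi.single i 1) (Pi.single j 1)
  rw [show nrm _ = 1 from h9, one_mul] at this
  rw [show (1 : Mat) i j = dot (Pi.single i 1) (Pi.single j 1) by
    fin_cases i <;> fin_cases j <;> rfl, ← this]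
  simp [dot, Matrix.mul_apply, Fin.sum_univ_four]

def rk3 (x : V) : ℕ := [9, 2, 3, 1, 1, 9, 2, 9, 0, 0, 2, 9, 3, 9, 2, 9, 1, 1, 1, 9, 1, 9, 0, 2, 2, 3, 9, 9, 3, 5, 2,
  3, 1, 4, 0, 1, 1, 4, 1, 5, 9, 3, 2, 2, 3, 3, 2, 2, 1, 1, 4, 3, 5, 9, 9, 4, 4, 3, 2, 1, 3, 2, 2,
  2, 3, 3, 4, 9, 4, 2, 3, 2, 2, 2, 3, 3, 2, 3, 4, 4, 9].getD
    ((x 0).val + 3 * (x 1).val + 9 * (x 2).val + 27 * (x 3).val) 0

/-- orbit representatives -/
def rp (x : V) : V := if dot x vz = 0 then vy + vu else ![vb, vb + vz + vz, vb + vz] (nrm x)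

set_option synthInstance.maxSize 2048 in
theorem rp_step : ∀ x : V, (dot x vz = 0 → nrm x = 0 ∧ x ≠ 0 ∧ x ≠ vz ∧ x ≠ -vz) → x = rp x ∨
    ∃ y, (y = mQ1 *ᵥ x ∨ y = mQ2 *ᵥ x ∨ y = mT *ᵥ x ∨ y = -x) ∧ rk3 y < rk3 x ∧ rp y = rp x ∧
      (dot y vz = 0 → nrm y = 0 ∧ y ≠ 0 ∧ y ≠ vz ∧ y ≠ -vz) := by
  simp only [mulVec_eq]; decide +kernel

theorem count_S : ∀ b : ZMod 3 → Bool, (Finset.univ.filter fun x : V =>
    if dot x vz = 0 then x ≠ 0 ∧ nrm x = 0 else b (nrm x) = true).card ∣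
      ∏ i : Fin 4, (3 ^ 4 - 3 ^ i.val) → ∃ n, ∀ m, b m = true ↔ m = n := by decide +kernel

theorem NZ.exists_n (h : NZ d) : ∃ n, ∀ x, IsConj d.z (d.v x) ↔
    if dot x vz = 0 then x ≠ 0 ∧ nrm x = 0 else nrm x = n := by
  classical
  have neg : ∀ x, IsConj d.z (d.v x) → IsConj d.z (d.v (-x)) := fun x e => by
    obtain ⟨g, hg⟩ := isConj_iff.1 e
    exact h.real.trans (isConj_iff.2 ⟨g, by rw [v_neg h.co, ← hg, conj_inv]⟩)
  have h1 : ∀ x, (dot x vz = 0 → nrm x = 0 ∧ x ≠ 0 ∧ x ≠ vz ∧ x ≠ -vz) →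
      (IsConj d.z (d.v x) ↔ IsConj d.z (d.v (rp x))) := fun x hx => by
    induction' e : rk3 x using Nat.strong_induction_on with n ih generalizing x
    rcases rp_step x hx with e' | ⟨y, h1, h2, h3, h4⟩
    · rw [← e']
    rw [← h3, ← ih _ (e ▸ h2) y h4 rfl]
    rcases h1 with rfl | rfl | rfl | rfl
    exacts [(conj_acts h.a1 x).symm, (conj_acts h.a2 x).symm, (conj_acts h.aT x).symm,
      ⟨neg x, fun e => neg_neg x ▸ neg _ e⟩]
  have ne : ∀ x, IsConj d.z (d.v x) → x ≠ 0 := fun x e e' => by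
    rw [e', v_zero h.co, isConj_one_left, v_eq_one h.co] at e
    exact absurd e (by decide)
  let b : ZMod 3 → Bool := fun n => decide (IsConj d.z (d.v (![vb, vb + vz + vz, vb + vz] n)))
  have h2 : ∀ x, IsConj d.z (d.v x) ↔
      if dot x vz = 0 then x ≠ 0 ∧ nrm x = 0 else b (nrm x) = true := fun x => by
    split_ifs with e
    · refine ⟨fun e' => ⟨ne x e', h.zq x e e'⟩, fun e' => ?_⟩
      by_cases e1 : x = vz
      · rw [e1]
      by_cases e2 : x = -vz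
      · exact e2 ▸ neg _ (IsConj.refl _)
      obtain ⟨y, a1, a2, a3, a4⟩ := h.ex
      have := (h1 y fun _ => ⟨h.zq y a1 a4, ne y a4, a2, a3⟩).1 a4
      rw [h1 x fun _ => ⟨e'.2, e'.1, e1, e2⟩]
      rwa [rp, if_pos ‹_›] at this ⊢
    · rw [h1 x fun e' => absurd e' e, rp, if_neg e, decide_eq_true_iff]
  let H : Subgroup (GL (Fin 4) (ZMod 3)) :=
    { carrier := {M | ∃ g, Acts d.v g M}
      one_mem' := ⟨1, acts_one⟩
      mul_mem' := fun ⟨_, a⟩ ⟨_, b⟩ => ⟨_, acts_mul a b⟩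
      inv_mem' := fun {M} ⟨_, a⟩ => ⟨_, acts_inv a M.mul_inv⟩ }
  have h3 : MulAction.orbit H vz = ↑(Finset.univ.filter fun x : V =>
      if dot x vz = 0 then x ≠ 0 ∧ nrm x = 0 else b (nrm x) = true) := by
    ext x
    rw [Finset.coe_filter_univ, Set.mem_ofPred_eq, ← h2]
    refine ⟨fun ⟨⟨M, g, a⟩, e⟩ => e ▸ (conj_acts a vz).2 (IsConj.refl _), fun e => ?_⟩
    obtain ⟨g, hg⟩ := isConj_iff.1 e
    obtain ⟨n, hn, e⟩ := h.fus (hg ▸ v_mem h.co x)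
    obtain ⟨M, a⟩ := exists_acts h.co hn
    obtain ⟨N, a'⟩ := exists_acts h.co (inv_mem hn)
    have h4 : M * N = 1 := acts_unique h.co (acts_mul a a') (by simpa using acts_one)
    refine ⟨⟨⟨M, N, h4, mul_eq_one_comm.1 h4⟩, n, a⟩, h.inj ?_⟩
    change d.v (M *ᵥ vz) = _
    rw [← a, ← hg]
    nth_rw 1 [← mem_Ce'.1 e]
    group
  have h4 := (MulAction.stabilizer H vz).index_dvd_card.trans (card_subgroup_dvd_card H)
  rw [MulAction.index_stabilizer, h3, Set.ncard_coe_finset, Matrix.card_GL_field] at h4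
  simp only [ZMod.card] at h4
  obtain ⟨n, h5⟩ := count_S b h4
  exact ⟨n, fun x => by rw [h2, h5]⟩

/-- the twist `x ↦ x + k (x, z) z` -/
def mP (k : ZMod 3) : Mat := fun i j => (if i = j then 1 else 0) + k * vz i * vz j

theorem NZ.twist (h : NZ d) : ∃ d' : Dat0 G, NZ2 d' ∧ d'.z = d.z ∧ d'.t = d.t := by
  obtain ⟨n, hn⟩ := h.exists_n
  obtain ⟨p1, p2, p3, p4, p5, p6, p7⟩ := (by simp only [mulVec_eq, mul_eq]; decide +kernel :
    ∀ n : ZMod 3, mP n * mP (-n) = 1 ∧ mT * mP (-n) = mP (-n) * mT ∧ mQ1 * mP (-n) = mP (-n) * mQ1 ∧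
      mQ2 * mP (-n) = mP (-n) * mQ2 ∧ (∀ x, dot x vz = 0 → mP (-n) *ᵥ x = x) ∧
      mP (-n) *ᵥ vb = vb + (-n) • vz ∧ ∀ x, (if dot (mP (-n) *ᵥ x) vz = 0 then
        mP (-n) *ᵥ x ≠ 0 ∧ nrm (mP (-n) *ᵥ x) = 0 else nrm (mP (-n) *ᵥ x) = n) ↔
        x ≠ 0 ∧ nrm x = 0) n
  let d' : Dat0 G := { d with v := fun x => d.v (mP (-n) *ᵥ x) }
  have hz : d'.z = d.z := congrArg d.v (p5 vz (by decide))
  have ha : ∀ g M, Acts d.v g M → M * mP (-n) = mP (-n) * M → Acts d'.v g M := fun g M a e x => by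
    change g * d.v _ * g⁻¹ = d.v _
    rw [a, Matrix.mulVec_mulVec, Matrix.mulVec_mulVec, e]
  have hb : ∀ r ∈ d.R, d'.v vb * r * (d'.v vb)⁻¹ = d.v vb * r * (d.v vb)⁻¹ := fun r hr => by
    change d.v _ * r * (d.v _)⁻¹ = _
    rw [p6, h.add, v_smul h.co, mul_assoc (d.v vb),
      ← (Commute.pow_right (mem_Ce.1 (h.R_z hr)) _).eq]
    group
  have B : Base d' :=
    { h.toBase with
      add := fun x y => by change d.v _ = _; rw [Matrix.mulVec_add, h.add]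
      inj := fun x y e => by
        have := congrArg (mP n *ᵥ ·) (h.inj e)
        simpa only [Matrix.mulVec_mulVec, p1, Matrix.one_mulVec] using this
      mem := fun g => (h.mem g).trans ⟨fun ⟨x, e⟩ => ⟨mP n *ᵥ x, by
        change d.v _ = _
        rw [Matrix.mulVec_mulVec, mul_eq_one_comm.1 p1, Matrix.one_mulVec, e]⟩,
        fun ⟨x, e⟩ => ⟨_, e⟩⟩
      bi := (hb _ Base.i_mem).trans h.bi
      bj := (hb _ Base.j_mem).trans h.bj
      aT := ha _ _ h.aT p2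
      a1 := ha _ _ h.a1 p3
      a2 := ha _ _ h.a2 p4
      memQ := fun g => (h.memQ g).trans (exists₃_congr fun α β x => and_congr_right fun e => by
        change _ ↔ g = _ * d.v _
        rw [p5 x e])
      nQ := hz ▸ h.nQ
      frat := hz ▸ h.frat
      nR := hz ▸ h.nR }
  have S : ∀ x, IsConj d'.z (d'.v x) ↔ x ≠ 0 ∧ nrm x = 0 := fun x => by
    rw [hz, ← p7, ← hn]
  exact ⟨d', ⟨B, S, fun _ => B.act_of (hz ▸ h.nQ1) S⟩, hz, rfl⟩

theorem jobA3 : JobA3.{u} := fun _ _ _ _ h => let ⟨d', h', _⟩ := h.twist; ⟨d', h'⟩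

end H47.O8
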