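import Cfsg.Agent.H47.O8U1
import Cfsg.Agent.H56.L3P24

/-! `JobCY` of `H47.O8Sp` (blueprint `LOCAL3C.md`, §5.11). -/

set_option autoImplicit false
set_option maxRecDepth 100000
set_option synthInstance.maxSize 2048
open Cfsg Subgroup H14 H98 H56.L3 H42.L3 H47.MC H42.MC H26.MC
open scoped Matrix commutatorElement

namespace H47.O8

universe u

variable {G : Type u} [Group G]

theorem pow_coset {R : Subgroup G} {r n : G} (hn : n ∈ nr R) (hr : r ∈ R) (m : ℕ) :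
    (r * n) ^ m * (n ^ m)⁻¹ ∈ R := by
  induction m with
  | zero => simp
  | succ m ih =>
    convert mul_mem hr (conj_mem_of_mem_normalizer hn ih) using 1
    rw [pow_succ', pow_succ']; group

theorem mem_of_sq {Y : Subgroup G} {g : G} {k : ℕ} (h : g ^ 3 ^ k = 1) (h2 : g * g ∈ Y) : g ∈ Y := by
  obtain ⟨n, hn⟩ : Odd (3 ^ k) := Odd.pow (by decide)
  rw [hn, pow_succ, pow_mul, mul_eq_one_iff_inv_eq, pow_two] at h
  exact h ▸ inv_mem (pow_mem h2 n)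

theorem sq_fix {g x : G} (h : g * x * g⁻¹ = x ∨ g * x * g⁻¹ = x⁻¹) : g * g ∈ Ce x := by
  rw [mem_Ce', show g * g * x * (g * g)⁻¹ = g * (g * x * g⁻¹) * g⁻¹ by group]
  rcases h with e | e
  · rw [e, e]
  · rw [e, ← conj_inv, e, inv_inv]

namespace Loc

variable [Finite G] {d : Dat G} (h : Loc d) {g r : G} {M : Mat} {x : V} {k : Fin 4}
include h

omit [Finite G] in
theorem mem_D_of_three (hg : g ∈ Ce d.t) {k : ℕ} (h3 : g ^ 3 ^ k = 1)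
    (e : g ∈ d.D ∨ g * d.t ∈ d.D) : g ∈ d.D := e.resolve_right fun e => h.t_ne (by
  have h1 : (g * d.t) ^ 3 ^ (k + 1) = 1 := by rw [pow_succ', pow_mul, J_cube h.co e.1, one_pow]
  obtain ⟨n, hn⟩ : Odd (3 ^ (k + 1)) := Odd.pow (by decide)
  rwa [(show Commute g d.t from mem_Ce.1 hg).mul_pow, pow_succ 3, pow_mul, h3, one_pow, one_mul,
    ← pow_succ, hn, pow_succ, pow_mul, pow_two, h.tt, one_pow, one_mul] at h1)

omit [Finite G] in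
theorem six (hg : g ∈ Ce d.t) (e : g ∈ d.D ∨ g * d.t ∈ d.D) : g ^ 6 = 1 := by
  rcases e with e | e
  · rw [show 6 = 3 * 2 from rfl, pow_mul, J_cube h.co e.1, one_pow]
  · have : (g * d.t) ^ (3 * 2) = 1 := by rw [pow_mul, J_cube h.co e.1, one_pow]
    rwa [(show Commute g d.t from mem_Ce.1 hg).mul_pow, mul_comm 3, pow_mul d.t, pow_two, h.tt,
      one_pow, mul_one] at this

theorem RR_four (hr : r ∈ d.RR k) : r ^ 4 = 1 := by
  rw [show 4 = 2 * 2 from rfl, pow_mul, pow_two, pow_two]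
  rcases h.fr.sq k r hr with e | e
  · rcases h.mem_zt.1 e with rfl | rfl <;> simp [h.tt]
  · rw [e, h.tt]

/-- the commutator of an element of `D` with an element of `R_k` -/
theorem comm_R (h1 : mT *ᵥ x = x) (h2 : dot x (zz k) ≠ 0) (hr : r ∈ d.RR k)
    (h3 : r ∉ zpowers d.t) : d.v x * r * (d.v x)⁻¹ * r⁻¹ ∈ d.RR k ∧
      d.v x * r * (d.v x)⁻¹ * r⁻¹ ∉ zpowers d.t :=
  ⟨mul_mem (conj_mem_of_mem_normalizer (h.D_RR k (h.v_D h1)) hr) (inv_mem hr),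
    mt (h.fr.fpf k x h1 h2 r hr) h3⟩

/-- `[R₁, R₂] ≤ ⟨t⟩` forces `[R₁, R₂] = 1` -/
theorem cm_of_le (e : ∀ r ∈ d.RR 0, ∀ s ∈ d.RR 1, r ∈ fixm d.t s) : Cm d := fun r hr => by
  obtain ⟨s, hs, h1⟩ := h.exists_R 1
  obtain ⟨h2, h3⟩ := h.comm_R (x := vz) (zz_T 0) (by decide) hs h1
  have h4 := mem_Ce.1 (h.fr.cen 0 vz (zz_T 0) (by decide) hr)
  refine fun y hy => mem_Ce.1 (h.fr.irr 1 vz (zz_T 0) (by decide) (Ce r) (cj_eq_self_iff.1 (by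
    rw [cj_Ce, mem_Ce'.1 (mem_Ce.2 h4.symm)])) _ ⟨h2, mem_Ce.2 (mul_inv_eq_iff_eq_mul.1 ?_).symm⟩
    h3 hy)
  have h5 : ∀ a ∈ Ce d.t, a * (r * s * r⁻¹ * s⁻¹) = r * s * r⁻¹ * s⁻¹ * a := fun a ha =>
    (cn_zp.ge ha _ (e r hr s hs).2).symm
  calc _ = r * d.v vz * r⁻¹ * (r * s * r⁻¹ * s⁻¹) * s * (r * d.v vz * r⁻¹)⁻¹ * s⁻¹ *
        (r * s * r⁻¹ * s⁻¹)⁻¹ := by group
    _ = r * s * r⁻¹ * s⁻¹ * (d.v vz * s * (d.v vz)⁻¹ * s⁻¹) * (r * s * r⁻¹ * s⁻¹)⁻¹ := by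
        rw [h4, mul_inv_cancel_right, h5 _ (h.v_D (x := vz) (zz_T 0)).2]; group
    _ = _ := by rw [← h5 _ (h.fr.le 1 h2), mul_inv_cancel_right]

theorem RR_X (k : Fin 4) (hk : dot vy (zz k) = 0) : d.RR k ≤ Ce d.t ⊓ Ce (d.v vy) :=
  le_inf (h.fr.le k) (h.fr.cen k vy (by decide +kernel) hk)

omit [Finite G] in
theorem D_X : d.D ≤ Ce d.t ⊓ Ce (d.v vy) := fun _ hg => ⟨hg.2, J_le_Ce h.co _ hg.1⟩

theorem X_inf {N L : Subgroup G} (hN : N ≤ Ce d.t ⊓ Ce (d.v vy)) (h0 : N ⊓ d.RR 0 ≤ L)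
    (h1 : N ⊓ d.RR 1 ≤ L) (k : Fin 4) : N ⊓ d.RR k ≤ L := by
  have key : ∀ k, dot vy (zz k) ≠ 0 → N ⊓ d.RR k ≤ L := fun k hk r hr =>
    h0 ⟨hr.1, zpowers_le.2 (h.fr.tm 0) (h.fr.fpf k vy (by decide +kernel) hk r hr.2 (by
      rw [← mem_Ce.1 (hN hr.1).2]; simp))⟩
  fin_cases k
  exacts [h0, h1, key 2 (by decide), key 3 (by decide)]

variable (h1 : One d)
include h1

omit [Finite G] in
theorem X_nr (hg : g ∈ Ce d.t ⊓ Ce (d.v vy)) (hn : g ∈ Nr d.J) : ∃ M, Acts d.v g M ∧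
    (M *ᵥ uu 0 = uu 0 ∨ M *ᵥ uu 0 = -uu 0) ∧ M *ᵥ uu 1 = uu 1 ∧ M *ᵥ uu 2 = uu 2 := by
  obtain ⟨x, a, M, -, h2, h3, h4, rfl⟩ := h.mem_B ⟨hn, hg.1⟩
  have hM : Acts d.v (d.v x * a) M := by
    simpa using acts_mul (acts_J h.co (v_mem h.co x)) h2.1
  exact ⟨M, hM, forall_T (P := fun M => M *ᵥ vy = vy → (M *ᵥ uu 0 = uu 0 ∨ M *ᵥ uu 0 = -uu 0) ∧
    M *ᵥ uu 1 = uu 1 ∧ M *ᵥ uu 2 = uu 2) (by decide +kernel) h3 (h1 _ _ hM) h4
    ((acts_mem_Ce h.co hM).1 hg.2)⟩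

theorem X_cn (hg : g ∈ Ce d.t ⊓ Ce (d.v vy)) (hn : g ∈ Nr d.J) (hu : g ∈ Ce (d.v (uu 0))) :
    g ∈ d.D ∨ g * d.t ∈ d.D := by
  obtain ⟨M, hM, -, a, b⟩ := h.X_nr h1 hg hn
  refine h.cn_D hg.1 fun k => ?_
  fin_cases k
  exacts [hu, (acts_mem_Ce h.co hM).2 a, (acts_mem_Ce h.co hM).2 b]

theorem X_sq (hg : g ∈ Ce d.t ⊓ Ce (d.v vy)) (hn : g ∈ Nr d.J) :
    g * g ∈ d.D ∨ g * g * d.t ∈ d.D := by
  obtain ⟨M, hM, a, -⟩ := h.X_nr h1 hg hn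
  exact h.X_cn h1 (mul_mem hg hg) (mul_mem hn hn) (sq_fix (acts_pm h.co hM a))

theorem X_twelve (hg : g ∈ Ce d.t ⊓ Ce (d.v vy)) (hn : g ∈ Nr d.J) : g ^ 12 = 1 := by
  rw [show 12 = 2 * 6 from rfl, pow_mul, pow_two, h.six (mul_mem hg hg).1 (h.X_sq h1 hg hn)]

theorem X_syl : IsSyl 3 d.D (Ce d.t ⊓ Ce (d.v vy)) :=
  h.isSyl_D h.D_X fun g hg ⟨k, hk⟩ => mem_of_sq hk (h.mem_D_of_three (mul_mem hg.1.1 hg.1.1) (k := k)
    (by rw [← pow_two, ← pow_mul, mul_comm, pow_mul, hk, one_pow]) (h.X_sq h1 hg.1 hg.2))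

theorem X_Nz (cu : CU d) (hg : g ∈ Ce d.t ⊓ Ce (d.v vy)) (hu : g ∈ Nz (d.v (uu 0))) :
    g ∈ Nr d.J := h.nr_D (mem_normalizer_of_cj_le (by
  rintro _ ⟨a, ha, rfl⟩
  have h2 : g * a * g⁻¹ ∈ Ce d.t ⊓ Ce (d.v vy) := mul_mem (mul_mem hg (h.D_X ha)) (inv_mem hg)
  have h3 : g * a * g⁻¹ ∈ Ce (d.v (uu 0)) := cn_zp.le (conj_mem_of_mem_normalizer
    (normalizer_le_normalizer_centralizer _ hu) (cn_zp.ge (J_le_Ce h.co _ ha.1)))
  exact h.mem_D_of_cube (g := g * a * g⁻¹) h2.1 (by rw [conj_pow, J_cube h.co ha.1]; simp)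
    (h.X_cn h1 h2 (cu 0 ⟨h2.1, h3⟩) h3)))

theorem cy (cu : CU d) : Cm d ∧ CY d := by
  have sg := h.sg cu
  set X := Ce d.t ⊓ Ce (d.v vy) with hX
  have hn : X ≤ nr ⁅X, X⁆ := le_normalizer_commutator le_normalizer le_normalizer
  have hu := h.u_D 0
  have u3 := v_cube h.co (uu 0)
  have hτ : d.τ 0 ∈ X := ⟨h.τ_t 0, (acts_mem_Ce h.co (h.hτ 0).1).2 (by decide +kernel)⟩
  have h2 : d.v (uu 0) ∈ ⁅X, X⁆ := by
    have := commutator_mem_commutator hτ (h.D_X hu)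
    rwa [commutatorElement_def, (h.hτ 0).1, ← v_sub h.co,
      show mR 0 *ᵥ uu 0 - uu 0 = uu 0 by decide +kernel] at this
  have h3 := comm_inf_le (h.X_syl h1) h.D_cn (R := zpowers (d.v (uu 0))) fun a ha n hn => by
    obtain ⟨x, hx, rfl⟩ := h.mem_D.1 ha
    obtain ⟨M, hM, b1, b2, b3⟩ := h.X_nr h1 hn.1 (h.nr_D hn.2)
    obtain ⟨a, b, c, rfl⟩ := (by decide +kernel : ∀ x : V, mT *ᵥ x = x →
      ∃ a b c : ZMod 3, x = a • uu 0 + b • uu 1 + c • uu 2) x hx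
    rw [show ∀ w, ⁅w, n⁆ = w * (n * w * n⁻¹)⁻¹ from fun w => by rw [commutatorElement_def]; group, hM,
      ← v_sub h.co, Matrix.mulVec_add, Matrix.mulVec_add, Matrix.mulVec_smul, Matrix.mulVec_smul,
      Matrix.mulVec_smul, b2, b3, add_sub_add_right_eq_sub, add_sub_add_right_eq_sub, ← smul_sub]
    rcases b1 with e | e <;> rw [e]
    · rw [sub_self, smul_zero, v_zero h.co]; exact one_mem _
    · rw [sub_neg_eq_add, ← two_smul (ZMod 3), smul_smul]; exact smul_mem_zp h.co _ _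
  have h4 : ∀ k, dot vy (zz k) = 0 → d.RR k ≤ ⁅X, X⁆ := fun k hk => by
    obtain ⟨r, hr, e⟩ := h.exists_R k
    obtain ⟨a, b⟩ := h.comm_R (uu_T 0) (uu_zz 0 k) hr e
    exact h.fr.irr k _ (uu_T 0) (uu_zz 0 k) _ (hn (h.D_X hu)) _
      ⟨a, commutator_mem_commutator (h.D_X hu) (h.RR_X k hk hr)⟩ b
  have ht := h4 0 (by decide) (h.fr.tm 0)
  have o57 : ∀ g : G, g ^ 48 = 1 → orderOf g ≠ 5 ∧ orderOf g ≠ 7 := fun g hg => by
    have := orderOf_dvd_of_pow_eq_one hg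
    constructor <;> intro e <;> rw [e] at this <;> omega
  have he : d.v ![0, 0, 1, 0] ∈ d.D := h.v_D (by decide +kernel)
  obtain ⟨N, n1, n2, n3, n4, n5, n6⟩ := tools.ft2 G _ (zpowers d.t) (d.v (uu 0)) (d.v ![0, 0, 1, 0])
    ⟨zpowers_le.2 ht, fun z hz g hg => cn_zp.ge (comm_le _ hg).1 z hz, by rw [h.card_zt]; decide,
      h2, v_ord h.co (by decide), fun g hg e => by
        rcases h.X_cn h1 (comm_le _ hg) (cu 0 ⟨(comm_le _ hg).1, mem_Ce.2 e⟩) (mem_Ce.2 e) with e | e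
        · exact mem_sup_right (h3 ⟨e, hg⟩)
        · exact (Subgroup.mul_mem_cancel_right _ (mem_sup_left (mem_zpowers _))).1
            (mem_sup_right (h3 ⟨e, mul_mem hg ht⟩))⟩
    (v_cube h.co _) (v_comm h.co _ _) (hn (h.D_X he)) fun i g hg e => o57 g (by
      have hg := comm_le _ hg
      rw [pow_eq_pow_mod i u3, ← v_nsmul h.co, ← h.add, ← mem_Ce] at e
      have key : ∀ k, dot vy (zz k) = 0 → g ∈ Ce (d.v (zz k)) → g ^ 48 = 1 := fun k hk e => by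
        obtain ⟨r, hr, e'⟩ := h.fr.nz k g ⟨hg.1, Ce_le_nr e⟩
        have := pow_coset (mul_mem (inv_mem (le_normalizer hr)) (h.nr_RR k ⟨hg.1, Ce_le_nr e⟩)) hr 12
        rw [h.X_twelve h1 (mul_mem (inv_mem (h.RR_X k hk hr)) hg) e', inv_one, mul_one,
          mul_inv_cancel_left] at this
        rw [show 48 = 12 * 4 from rfl, pow_mul, h.RR_four this]
      rcases (by decide : ∀ i < 3, i • uu 0 + ![0, 0, 1, 0] = ![0, 0, 1, 0] ∨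
        i • uu 0 + ![0, 0, 1, 0] = zz 0 ∨ i • uu 0 + ![0, 0, 1, 0] = zz 1) _
        (Nat.mod_lt i three_pos) with e' | e' | e' <;> rw [e'] at e
      · rw [show 48 = 12 * 4 from rfl, pow_mul, h.X_twelve h1 hg (cu 1 ⟨hg.1, by
          rw [show uu 1 = vy - ![0, 0, 1, 0] by decide, v_sub h.co]
          exact mem_Ce.2 (Commute.mul_right (mem_Ce.1 hg.2) (Commute.inv_right (mem_Ce.1 e)))⟩),
          one_pow]
      exacts [key 0 (by decide) e, key 1 (by decide) e])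
  have n7 : X ≤ nr N := fun g hg => mem_normalizer_of_cj_le (by
    rintro _ ⟨n, hn', rfl⟩
    exact n3 g (hn hg) n hn')
  have n8 := n2.trans (comm_le X)
  have n9 : ∀ k, dot vy (zz k) = 0 → d.RR k ≤ N := fun k hk => by
    obtain ⟨r, hr, e⟩ := h.exists_R k
    obtain ⟨a, b⟩ := h.comm_R (uu_T 0) (uu_zz 0 k) hr e
    refine h.fr.irr k _ (uu_T 0) (uu_zz 0 k) _ (n7 (h.D_X hu)) _ ⟨a, ?_⟩ b
    obtain ⟨n, hn', c, -, e', rfl⟩ := n6 r (h4 k hk hr)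
    have c1 : d.v (uu 0) * (c * d.v (uu 0) * c⁻¹)⁻¹ ∈ zpowers (d.v (uu 0)) := by
      rcases e' with e' | e' <;> simp [e', mul_mem]
    have c2 := n7 (h.D_X (zpowers_le.2 hu c1))
    have c3 := pow_coset c2 (mul_mem (conj_mem_of_mem_normalizer (n7 (h.D_X hu)) hn')
      (conj_mem_of_mem_normalizer c2 (inv_mem hn'))) 3
    rw [J_cube h.co (zpowers_le.2 hu c1).1, inv_one, mul_one] at c3
    refine mem_of_cube (not_dvd_of_two (k := 2) (h.RR_four a)) ?_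
    convert c3 using 2
    group
  have n10 : N ≤ d.RR 0 ⊔ d.RR 1 := sg N _ (n8.trans inf_le_left) n4 (h.D_X.trans n7)
    (h.X_inf n8 (inf_le_right.trans le_sup_left) (inf_le_right.trans le_sup_right))
  refine ⟨h.cm_of_le ?_, fun g hg => ?_⟩
  · have c1 : X ≤ nr (N ⊓ stab N (zpowers d.t)) :=
      le_normalizer_inf n7 (le_normalizer_stab n7 (inf_le_left.trans Ce_le_nr))
    have key : ∀ k, ¬ N ⊓ stab N (zpowers d.t) ⊓ d.RR k ≤ zpowers d.t → ∀ r ∈ d.RR k, ∀ s ∈ N,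
        s ∈ fixm d.t r := fun k hk r hr s hs => by
      obtain ⟨x, hx, e⟩ := SetLike.not_le_iff_exists.1 hk
      exact ⟨(n8 hs).1, (h.fr.irr k _ (uu_T 0) (uu_zz 0 k) _ (c1 (h.D_X hu)) x ⟨hx.2, hx.1⟩ e hr).2.2
        s hs⟩
    obtain ⟨r, hr, e⟩ := h.exists_R 0
    by_cases e0 : N ⊓ stab N (zpowers d.t) ⊓ d.RR 0 ≤ zpowers d.t
    · exact fun r hr s hs => key 1 (fun e1 => exists_stab n5 (n8.trans (inf_le_left.trans Ce_le_nr))
        (fun e' => e (e' (n9 0 (by decide) ‹_›))) (sg _ _ (inf_le_left.trans (n8.trans inf_le_left))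
        (n4.coprime_dvd_left (card_dvd_of_le inf_le_left)) (h.D_X.trans c1)
        (h.X_inf (inf_le_left.trans n8) e0 e1))) s hs r (n9 0 (by decide) hr)
    · exact fun r hr s hs => fixm_symm (h.fr.le 0 hr) (key 0 e0 r hr s (n9 1 (by decide) hs))
  · obtain ⟨a, ha, k, hk, rfl⟩ := (isSyl_comm (h.X_syl h1)).frattini_mem (hn hg)
    obtain ⟨n, hn', b, hb, e, rfl⟩ := n6 k hk
    have c1 := (Subgroup.mul_mem_cancel_right _ (comm_le _ hk)).1 hg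
    refine ⟨_, n10 (conj_mem_of_mem_normalizer (n7 c1) hn'), ?_⟩
    convert mul_mem (h.X_Nz h1 cu c1 (mem_Nz.2 (h3 (conj_mem_of_mem_normalizer ha ⟨hu, h2⟩))))
      (h.X_Nz h1 cu (comm_le _ hb) (mem_Nz.2 (by rcases e with e | e <;> simp [e]))) using 1
    group

end Loc

theorem jobCY : JobCY.{u} := fun _ _ _ _ h _ _ h1 cu _ => h.cy h1 cu

end H47.O8
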