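import Cfsg.Agent.H47.O8CY

/-! `JobCm2` of `H47.O8Sp` (blueprint `LOCAL3C.md`, §5.16), and subgroups of `C_{N(J)}(ι)` given by
lists of matrices. -/

set_option autoImplicit false
set_option maxRecDepth 100000
open Cfsg Subgroup H14 H98 H56.L3 H42.L3 H47.MC H42.MC H26.MC
open scoped Matrix commutatorElement

namespace H47.O8

universe u

variable {G : Type u} [Group G] [Finite G]

/-- a list of isometries which is a group -/
def Clo (L : List Mat) : Prop := 1 ∈ L ∧ L.Nodup ∧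
  AllL L fun M => Iso M ∧ Mᵀ ∈ L ∧ AllL L fun N => mm M N ∈ L

instance (L : List Mat) : Decidable (Clo L) := by unfold Clo; infer_instance

/-- the subgroup of `C_{N(J)}(ι)` with matrices in `L` -/
def hs (d : Dat G) {L : List Mat} (hL : Clo L) : Subgroup G where
  carrier := {a | ∃ M ∈ L, Hat d a M}
  one_mem' := ⟨1, hL.1, Hat.one⟩
  mul_mem' := fun ⟨M, a, b⟩ ⟨N, c, e⟩ => ⟨_, mul_eq M N ▸ (hL.2.2 M a).2.2 N c, b.mul e⟩
  inv_mem' := fun ⟨M, a, b⟩ => ⟨_, (hL.2.2 M a).2.1, b.inv (hL.2.2 M a).1.mul_tr⟩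

theorem not_sc {X R E : Subgroup G} {t : G} (tt : t * t = 1) (t1 : t ≠ 1) (hX : X ≤ Ce t)
    (hR : R ≤ X) (tR : t ∈ R) (cR : Nat.card R = 8) (sq : ∀ r ∈ R, r ∈ zpowers t ∨ r * r = t)
    (cm : ∀ r ∈ R, ∀ s ∈ R, ⁅r, s⁆ ∈ zpowers t)
    (nc : ∀ r ∈ R, r ∉ zpowers t → ∃ s ∈ R, r * s ≠ s * r ∧ ∀ Y : Subgroup G, r ∈ Y → s ∈ Y → R ≤ Y)
    (hE : ∀ x ∈ E, x ∈ X ∧ x * x = 1) (tE : t ∈ E) (cE : Nat.card E = 8)
    (hW : ∀ x ∈ X, (∀ p ∈ R, ⁅p, x⁆ ∈ zpowers t) → ¬ 3 ∣ orderOf x → x ∈ R) : False := by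
  let Z := (zpowers t).subgroupOf X
  have : Z.Normal := normal_subgroupOf_of_le_normalizer (hX.trans Ce_le_nr)
  let π := QuotientGroup.mk' Z
  have hπ : ∀ x : X, π x = 1 ↔ (x : G) ∈ zpowers t := fun x => QuotientGroup.eq_one_iff x
  have c4 : ∀ K : Subgroup G, K ≤ X → t ∈ K → Nat.card K = 8 →
      Nat.card ((K.subgroupOf X).map π) = 4 := fun K h1 h2 h3 => by
    have h4 := relIndex_mul_card (zpowers_le.2 h2)
    rw [← relIndex_ker, QuotientGroup.ker_mk', relIndex_subgroupOf h1]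
    rw [Nat.card_zpowers, orderOf_eq_prime (p := 2) (by rw [pow_two, tt]) t1, h3] at h4
    omega
  have hV := c4 _ hR tR cR
  set V := (R.subgroupOf X).map π
  obtain ⟨S, hS, hVS⟩ := exists_isSyl_le (p := 2) (.of_card (n := 2) hV) (le_top (a := V))
  have key : ∀ y ∈ S, V ≤ Ce y → y ∈ V := fun y hy hc => by
    obtain ⟨x, rfl⟩ := QuotientGroup.mk'_surjective Z y
    obtain ⟨k, hk⟩ := isPGroup_iff_forall.1 hS.isPGroup _ hy
    refine ⟨x, hW _ x.2 (fun p hp => (hπ ⁅(⟨p, hR hp⟩ : X), x⁆).1 ?_)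
      (not_dvd_of_two (k := k + 1) ?_), rfl⟩
    · rw [map_commutatorElement, commutatorElement_eq_one_iff_mul_comm]
      exact mem_Ce.1 (hc ⟨_, hp, rfl⟩)
    · rcases (mem_zp tt).1 ((hπ (x ^ 2 ^ k)).1 (by rw [map_pow]; exact hk)) with e | e <;>
        rw [pow_succ, pow_mul, ← map_pow, coe_subtype, e]
      exacts [one_pow _, by rw [pow_two, tt]]
  obtain ⟨z, hz, ho, hc⟩ := exists_central_involution hS.isPGroup fun e => by
    rw [e, le_bot_iff] at hVS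
    rw [hVS, card_bot] at hV
    omega
  obtain ⟨p, hp, rfl⟩ := key z hz fun v hv => mem_Ce.2 (hc v (hVS hv))
  have hp1 : (p : G) ∉ zpowers t := fun e => by
    rw [(hπ p).2 e, orderOf_one] at ho
    omega
  obtain ⟨q, hq, -, hpq⟩ := nc _ hp hp1
  have hv : π ⟨q, hR hq⟩ ∈ V := ⟨_, hq, rfl⟩
  have h4 : S ⊓ Ce (π ⟨q, hR hq⟩) = V := by
    refine le_antisymm (fun y hy => key y hy.1 ?_) (le_inf hVS ?_)
    · rintro _ ⟨x, hx, rfl⟩
      obtain ⟨x', h1, e⟩ := hpq (((Ce y).comap π).map X.subtype)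
        ⟨p, mem_Ce.2 (hc y hy.1).symm, rfl⟩ ⟨_, mem_Ce.2 (mem_Ce.1 hy.2).symm, rfl⟩ hx
      exact Subtype.ext e ▸ h1
    · rintro _ ⟨x, hx, rfl⟩
      rw [mem_Ce, ← commutatorElement_eq_one_iff_mul_comm, ← map_commutatorElement, hπ]
      exact cm _ hx _ hq
  have hA := c4 E (fun x hx => (hE x hx).1) tE cE
  set A := (E.subgroupOf X).map π
  obtain ⟨g, -, hg⟩ := hS.exists_cj_le (Q := A) (.of_card (n := 2) hA) le_top
  have ea : ∀ B : Subgroup (X ⧸ Z), (∀ b ∈ B, b * b = 1) → IsElementaryAbelian 2 B :=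
    fun B hB => ⟨⟨⟨fun a b => Subtype.ext (by
      have h1 := hB _ (B.mul_mem a.2 b.2)
      rw [coe_mul, coe_mul, ← mul_inv_eq_one, mul_inv_rev, inv_eq_of_mul_eq_one_right (hB _ a.2),
        inv_eq_of_mul_eq_one_right (hB _ b.2), h1])⟩⟩, fun a ha => by rw [pow_two, hB a ha]⟩
  have z2 : π p * π p = 1 := by rw [← pow_two, ← ho, pow_orderOf_eq_one]
  have h5 := H32.NP.card_le_four hS.isPGroup (hVS hv) (h4 ▸ hV)
    (sup_le hg (zpowers_le.2 hz)) (ea_sup (ea _ (by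
      rintro _ ⟨_, ⟨x, hx, rfl⟩, rfl⟩
      rw [← map_mul, ← map_mul, show x * x = 1 from Subtype.ext (hE x hx).2, map_one, map_one]))
      (ea _ fun b hb => by rcases (mem_zp z2).1 hb with rfl | rfl; exacts [one_mul _, z2])
      (commutator_eq_bot_iff_le_centralizer.2 (le_centralizer_iff.1
        (zpowers_le.2 fun y hy => hc y (hg hy)))))
  obtain ⟨x, hx, e⟩ := mem_cj.1 ((eq_of_le_of_card_ge le_sup_left
    (by rwa [card_cj, hA])).ge (mem_sup_right (mem_zpowers (π p))))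
  obtain ⟨c, rfl⟩ := QuotientGroup.mk'_surjective Z g
  have h6 := (mem_zp tt).1 ((hπ (x⁻¹ * (c⁻¹ * p * c))).1 (by
    rw [map_mul, map_inv, e, map_mul, map_mul, map_inv, inv_mul_cancel]))
  have h7 : ((c : G)⁻¹ * p * c) * ((c : G)⁻¹ * p * c) = t := by
    calc _ = (c : G)⁻¹ * (p * p) * c := by group
      _ = t := by
        rw [(sq p hp).resolve_left hp1, mul_assoc, ← mem_Ce.1 (hX c.2), inv_mul_cancel_left]
  simp only [coe_mul, coe_inv, inv_mul_eq_iff_eq_mul] at h6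
  refine t1 (h7.symm.trans ?_)
  rcases h6 with e | e <;> rw [e]
  · simpa using (hE x hx).2
  · rw [mul_assoc, ← mul_assoc t, ← mem_Ce.1 (hX x.2), mul_assoc, tt, mul_one, (hE x hx).2]

omit [Finite G] in
theorem Base.R_gen {d : Dat0 G} (h : Base d) {r : G} (hr : r ∈ d.R) (h1 : r ∉ zpowers d.t) :
    ∃ s ∈ d.R, r * s ≠ s * r ∧ ∀ Y : Subgroup G, r ∈ Y → s ∈ Y → d.R ≤ Y := by
  obtain ⟨φ, hi, -, -, -, -, e5, e⟩ := h.model
  obtain ⟨k, hk, rfl⟩ := (e _).1 hr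
  obtain ⟨l, hl, e1, e2⟩ := ((by decide +kernel : ∀ k : SL23, k ^ 4 = 1 → (k = 1 ∨ k = -1) ∨
    ∃ l, l ^ 4 = 1 ∧ k * l ≠ l * k ∧ ∀ m : SL23, m ^ 4 = 1 → ∃ (a : Fin 4) (b : Fin 2),
      m = k ^ a.val * l ^ b.val) k hk).resolve_left (mt (e5 _).2 h1)
  refine ⟨_, (e _).2 ⟨l, hl, rfl⟩, fun e'' => e1 (hi (by simpa using e'')), fun Y a b s hs => ?_⟩
  obtain ⟨m, hm, rfl⟩ := (e _).1 hs
  obtain ⟨i, j, rfl⟩ := e2 m hm
  rw [map_mul, map_pow, map_pow]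
  exact mul_mem (pow_mem a _) (pow_mem b _)

/-- a statement about the `96` isometries commuting with `mT` -/
theorem forall_T' {M : Mat} {P : Mat → Prop} (hP : AllL LT fun p => P p.1 ∧ P (mm p.1 mC))
    (hi : Iso M) (h2 : M * mT = mT * M) : P M := by
  rcases hi.rot_or with e | e
  · exact (forall_T (P := fun M => P M ∧ P (mm M mC)) hP hi e h2).1
  · have := (forall_T (P := fun M => P M ∧ P (mm M mC)) hP (hi.mul iso_C) e (by
      rw [mul_assoc, show mC * mT = mT * mC by decide +kernel, ← mul_assoc, h2, mul_assoc])).2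
    rwa [← mul_eq, mul_assoc, show mC * mC = 1 by decide +kernel, mul_one] at this

def LE3 : List Mat := [!![0, 1, 0, 0; 1, 0, 0, 0; 0, 0, 1, 0; 0, 0, 0, 1],
  !![0, 1, 0, 0; 1, 0, 0, 0; 0, 0, 2, 0; 0, 0, 0, 1],
  !![0, 2, 0, 0; 2, 0, 0, 0; 0, 0, 1, 0; 0, 0, 0, 1],
  !![0, 2, 0, 0; 2, 0, 0, 0; 0, 0, 2, 0; 0, 0, 0, 1],
  !![1, 0, 0, 0; 0, 1, 0, 0; 0, 0, 1, 0; 0, 0, 0, 1],
  !![1, 0, 0, 0; 0, 1, 0, 0; 0, 0, 2, 0; 0, 0, 0, 1],
  !![2, 0, 0, 0; 0, 2, 0, 0; 0, 0, 1, 0; 0, 0, 0, 1],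
  !![2, 0, 0, 0; 0, 2, 0, 0; 0, 0, 2, 0; 0, 0, 0, 1]]

namespace Loc

variable {d : Dat G} (h : Loc d) {a c g : G} {M : Mat} {L : List Mat}
include h

omit [Finite G] in
theorem card_hs (hL : Clo L) (hex : ∀ M ∈ L, ∃ a, Hat d a M) : Nat.card (hs d hL) = L.length := by
  choose f hf using hex
  rw [← Nat.card_congr (Equiv.ofBijective (fun M : {M // M ∈ L} => (⟨f M M.2, M, M.2, hf _ _⟩ :
    hs d hL)) ⟨fun M N e => Subtype.ext (acts_unique h.co (hf _ M.2).1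
      ((show f N N.2 = f M M.2 from (congrArg Subtype.val e).symm) ▸ (hf _ N.2).1)), fun ⟨a, M, hM, ha⟩ =>
      ⟨⟨M, hM⟩, Subtype.ext (h.uniq (hf _ _) ha rfl)⟩⟩), Nat.card_eq_fintype_card,
    ← List.toFinset_card_of_nodup hL.2.1, ← Fintype.card_coe]
  exact Fintype.card_congr (Equiv.subtypeEquivRight fun _ => List.mem_toFinset.symm)

omit [Finite G] in
/-- in case 2 every isometry is realised -/
theorem exAll (hc : Hat d c mC) (hM : Iso M) : ∃ a, Hat d a M := hM.rot_or.elim (h.exR M hM)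
  fun e => let ⟨_, ha⟩ := h.exR _ (hM.mul iso_C) e
    ⟨_, (ha.mul hc).cast (by rw [mul_assoc, show mC * mC = 1 by decide +kernel, mul_one])⟩

omit [Finite G] in
theorem card_hs' (hc : Hat d c mC) (hL : Clo L) : Nat.card (hs d hL) = L.length :=
  h.card_hs hL fun M hM => h.exAll hc (hL.2.2 M hM).1

theorem X_syl' : IsSyl 3 d.D (Ce d.t ⊓ Ce (d.v vy)) :=
  h.isSyl_D h.D_X fun g hg ⟨k, hk⟩ => by
    obtain ⟨x, a, M, -, h2, h3, h4, rfl⟩ := h.mem_B ⟨hg.2, hg.1.1⟩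
    have hM : Acts d.v (d.v x * a) M := by
      simpa using acts_mul (acts_J h.co (v_mem h.co x)) h2.1
    refine mem_of_sq hk ⟨h.mem_J ?_, mul_mem hg.1.1 hg.1.1⟩
    rw [← forall_T' (P := fun M => act M vy = vy → mm M M = 1) (by decide +kernel) h3 h4
      (mulVec_eq M _ ▸ (acts_mem_Ce h.co hM).1 hg.1.2), ← mul_eq]
    exact acts_mul hM hM

theorem cm2 (hc : Hat d c mC) (sg : SG d) : Cm d := by
  set X := Ce d.t ⊓ Ce (d.v vy)
  set C := X ⊓ stab d.R (zpowers d.t)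
  have mC' : ∀ g, g ∈ C ↔ g ∈ X ∧ ∀ r ∈ d.R, ⁅r, g⁆ ∈ zpowers d.t := fun g =>
    ⟨fun hg => ⟨hg.1, hg.2.2⟩, fun hg => ⟨hg.1, Ce_le_nr hg.1.1, hg.2⟩⟩
  have hD : d.D ≤ nr C := le_normalizer_inf (h.D_X.trans le_normalizer)
    (le_normalizer_stab (h.D_RR 0) (inf_le_right.trans Ce_le_nr))
  have hR : d.R ≤ C := fun r hr => (mC' r).2 ⟨h.RR_X 0 (by decide) hr, fun s hs => h.R_comm hs hr⟩
  have hA : ∀ x, d.v x ∈ d.D ⊓ C → mT *ᵥ x = x ∧ dot x vz = 0 := fun x hx => by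
    refine ⟨h.v_t.1 hx.1.2, by_contra fun e => h.not_zt h.ii (h.R_fpf (h.v_t.1 hx.1.2) e
      Base.i_mem ?_)⟩
    simpa [commutatorElement_def, mul_assoc] using inv_mem (hx.2.2.2 _ Base.i_mem)
  have hz : d.z ∈ d.D ⊓ C := ⟨h.v_D (zz_T 0), (mC' _).2 ⟨h.D_X (h.v_D (zz_T 0)), fun r hr => by
    rw [commutatorElement_eq_one_iff_mul_comm.2 (mem_Ce.1 (h.R_z hr))]; exact one_mem _⟩⟩
  have hW := (H87.burnside_dec (h.X_syl'.inf_of_le_normalizer inf_le_left hD) fun g hg => by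
    obtain ⟨x, hx⟩ := (h.mem _).1 (conj_mem_of_mem_normalizer hg.2 hz).1.1
    obtain ⟨a1, a2⟩ := hA x (hx ▸ conj_mem_of_mem_normalizer hg.2 hz)
    have a3 := (h.sing x).1 (isConj_iff.2 ⟨g, hx.symm⟩)
    rcases (by decide +kernel : ∀ x : V, mT *ᵥ x = x → dot x vz = 0 → x ≠ 0 ∧ nrm x = 0 →
      x = vz ∨ x = -vz) x a1 a2 a3 with rfl | rfl
    · intro a ha
      obtain ⟨x, rfl⟩ := (h.mem _).1 ha.1.1
      obtain ⟨α, β, rfl⟩ := (by decide +kernel : ∀ x : V, mT *ᵥ x = x ∧ dot x vz = 0 →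
        ∃ α β : ZMod 3, x = α • vz + β • vy) x (hA x ha)
      rw [h.add, v_smul h.co, v_smul h.co]
      exact (((show Commute g _ from mem_Ce.1 (mem_Ce'.2 hx.symm)).pow_right _).mul_right
        ((show Commute g _ from mem_Ce.1 hg.1.1.2).pow_right _)).symm
    · obtain ⟨r, hr, hn⟩ := h.frat g (mem_Nz.2 (hx ▸ v_neg h.co vz ▸ inv_mem (mem_zpowers _)))
      have b1 := mul_mem (inv_mem (hR hr)) hg.1
      obtain ⟨M, hM, hi⟩ := h.act _ hn
      have b2 : M *ᵥ vz = -vz := h.inj (by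
        rw [← hM, hx, show r⁻¹ * g * d.v vz * (r⁻¹ * g)⁻¹ = r⁻¹ * (g * d.v vz * g⁻¹) * r⁻¹⁻¹ by group,
          ← hx, v_neg h.co, ← conj_inv, mem_Ce'.1 (inv_mem (h.R_z hr))])
      have b3 := (acts_mem_Ce h.co hM).1 b1.1.2
      have b4 := conj_mem_of_mem_normalizer (B_nrD ⟨hn, b1.1.1⟩) (h.v_D (x := vb) (by decide +kernel))
      rw [hM] at b4
      have b5 := (by decide +kernel : ∀ w : V, mT *ᵥ w = w → nrm w = nrm vb →
        dot w (-vz) = dot vb vz → dot w vy = dot vb vy → w = -vb) _ (h.v_t.1 b4.2) (hi.nrm _)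
        (b2 ▸ hi.dot _ _) (by rw [← hi.dot vb, b3])
      have b6 := mul_mem b1 (conj_mem_of_mem_normalizer (hD (h.v_D (x := vb) (by decide +kernel)))
        (inv_mem b1))
      rw [← mul_assoc, ← mul_assoc, hM, b5, ← v_sub h.co] at b6
      exact absurd (hA _ ⟨h.v_D (by decide +kernel), b6⟩).2 (by decide)).1
  have w1 := opp_le (p := 3) C
  have w2 := hD.trans (normalizer_le_normalizer_opp (p := 3) C)
  by_cases e : opp 3 C ⊓ d.RR 1 ≤ zpowers d.t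
  · have w3 : opp 3 C ≤ d.R := sg _ _ (w1.trans (inf_le_left.trans inf_le_left)) (coprime_card_opp C)
      w2 (h.X_inf (w1.trans inf_le_left) inf_le_right (e.trans (zpowers_le.2 h.t_mem)))
    have hL : Clo LE3 := by decide +kernel
    refine (not_sc h.tt h.t_ne (X := X) (E := hs d hL) inf_le_left (hR.trans inf_le_left) h.t_mem
      h.card_R (fun _ => h.R_sq) (fun _ a _ => h.R_comm a) (fun _ => h.R_gen) ?_
      ⟨_, by decide +kernel, h.ht⟩ (h.card_hs' hc hL)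
      fun x hx a b => w3 (hW x ((mC' x).2 ⟨hx, a⟩) b)).elim
    rintro x ⟨M, hM, hx⟩
    obtain ⟨a, b, e⟩ := (by decide +kernel : AllL LE3 fun M => M * mT = mT * M ∧ M *ᵥ vy = vy ∧
      M * M = 1) M hM
    exact ⟨⟨(h.hat_t hx).2 a, (acts_mem_Ce h.co hx.1).2 b⟩, h.sq hx e⟩
  · obtain ⟨x, hx, e⟩ := SetLike.not_le_iff_exists.1 e
    exact h.cm_of_le fun r hr s hs => ⟨h.R_t hr, (w1 (h.fr.irr 1 vz (zz_T 0) (by decide) _
      (w2 hz.1) x ⟨hx.2, hx.1⟩ e hs)).2.2 r hr⟩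

end Loc

theorem jobCm2 : JobCm2.{u} := fun _ _ _ _ _ h _ _ => h.cm2

end H47.O8
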