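import Cfsg.Agent.H47.O8R
import Cfsg.Agent.H78.XS

/-! `JobEx` of `H47.O8Sp` (blueprint `LOCAL3C.md`, §5.9). -/

set_option autoImplicit false
set_option maxRecDepth 100000
set_option synthInstance.maxSize 2048
open Cfsg Subgroup H14 H98 H56.L3 H42.L3 H47.MC H42.MC H26.MC
open scoped Matrix commutatorElement

namespace H47.O8

universe u

variable {G : Type*} [Group G] [Finite G]

/-- the elements of `C(t)` centralising `σ` modulo `⟨t⟩` -/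
def fixm (t σ : G) : Subgroup G where
  carrier := {g | g ∈ Ce t ∧ g * σ * g⁻¹ * σ⁻¹ ∈ zpowers t}
  one_mem' := ⟨one_mem _, by simp⟩
  mul_mem' {a b} ha hb := ⟨mul_mem ha.1 hb.1, by
    convert mul_mem ((zt_conj ha.1).2 hb.2) ha.2 using 1; group⟩
  inv_mem' {a} ha := ⟨inv_mem ha.1, by
    convert (zt_conj (inv_mem ha.1)).2 (inv_mem ha.2) using 1; group⟩

theorem mem_fixm {t σ g : G} : g ∈ fixm t σ ↔ g ∈ Ce t ∧ g * σ * g⁻¹ * σ⁻¹ ∈ zpowers t := Iff.rfl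

theorem fixm_symm {t σ g : G} (hσ : σ ∈ Ce t) (h : g ∈ fixm t σ) : σ ∈ fixm t g :=
  ⟨hσ, by convert inv_mem h.2 using 1; group⟩

theorem conj_fixm {t σ g s : G} (hs : s ∈ Ce t) (h : g ∈ fixm t σ) :
    s * g * s⁻¹ ∈ fixm t (s * σ * s⁻¹) :=
  ⟨mul_mem (mul_mem hs h.1) (inv_mem hs), by convert (zt_conj hs).2 h.2 using 1; group⟩

omit [Finite G] in
theorem RR_le (d : Dat G) (k : Fin 4) : d.RR k ≤ d.Sg := by
  fin_cases k
  exacts [le_sup_left.trans (le_sup_left.trans le_sup_left),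
    le_sup_right.trans (le_sup_left.trans le_sup_left), le_sup_right.trans le_sup_left, le_sup_right]

omit [Finite G] in
theorem Sg_le {d : Dat G} {X : Subgroup G} (h : ∀ k, d.RR k ≤ X) : d.Sg ≤ X :=
  sup_le (sup_le (sup_le (h 0) (h 1)) (h 2)) (h 3)

theorem uu_T : ∀ k, mT *ᵥ uu k = uu k := by decide +kernel
theorem zz_T : ∀ k, mT *ᵥ zz k = zz k := by decide +kernel
theorem zz_nrm : ∀ k, nrm (zz k) = 0 := by decide
theorem uu_nrm : ∀ k, nrm (uu k) = 2 := by decide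
theorem uu_zz : ∀ k l, dot (uu k) (zz l) ≠ 0 := by decide

theorem Iso.ne_zero {M : Mat} (h : Iso M) {x : V} (hx : x ≠ 0) : M *ᵥ x ≠ 0 := fun e => hx (by
  rw [← Matrix.one_mulVec x, ← show Mᵀ * M = 1 from h, ← Matrix.mulVec_mulVec, e,
    Matrix.mulVec_zero])

namespace Loc

variable {d : Dat G} (h : Loc d) {g s σ ρ : G} {M : Mat} {x : V} {k l : Fin 4}
include h

theorem Sg_t : d.Sg ≤ Ce d.t := Sg_le h.fr.le

theorem t_Sg : d.t ∈ d.Sg := RR_le d 0 (h.fr.tm 0)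

theorem zt_Sg : zpowers d.t ≤ d.Sg := zpowers_le.2 h.t_Sg

theorem B_perm (hg : g ∈ d.B) (k : Fin 4) : ∃ l, H98.cj g (d.RR k) = d.RR l := by
  obtain ⟨x, a, M, h1, h2, h3, h4, rfl⟩ := h.mem_B hg
  obtain ⟨l, e⟩ := (by decide +kernel : ∀ y : V, mT *ᵥ y = y → nrm y = 0 → y ≠ 0 →
    ∃ l, y = zz l ∨ y = -zz l) (M *ᵥ zz k) (by
      rw [Matrix.mulVec_mulVec, ← h4, ← Matrix.mulVec_mulVec, zz_T])
    ((h3.nrm _).trans (zz_nrm k)) (h3.ne_zero ((by decide : ∀ k, zz k ≠ 0) k))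
  exact ⟨l, h.fr.perm _ hg M (by simpa using acts_mul (acts_J h.co (v_mem h.co x)) h2.1) k l e⟩

theorem B_nrSg : d.B ≤ Nr d.Sg := fun g hg => mem_normalizer_of_cj_le (cj_le_iff.2 (Sg_le fun k => by
  obtain ⟨l, e⟩ := h.B_perm hg k
  exact cj_le_iff.1 (e ▸ RR_le d l)))

theorem exists_R (k : Fin 4) : ∃ r ∈ d.RR k, r ∉ zpowers d.t := by
  by_contra! e
  have := card_le_of_le (show d.RR k ≤ _ from e)
  rw [h.fr.card, h.card_zt] at this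
  omega

theorem zt_of_cn {r : G} (hr : r ∈ d.RR k) (hc : ∀ s ∈ d.RR k, Commute s r) : r ∈ zpowers d.t := by
  by_contra e
  obtain ⟨s, hs, e'⟩ := h.fr.nc k r hr e
  exact e' (hc s hs).symm

variable (cm : Cm d)
include cm

theorem RR_comm (hk : k ≠ l) : d.RR k ≤ Cn (d.RR l) := by
  obtain ⟨a, h1, h2⟩ := (by simp only [pow_Q1]; decide +kernel : ∀ k l, k ≠ l → ∃ a : Fin 3,
    ((mS k * mQ1 ^ a.val) *ᵥ zz 0 = zz k ∨ (mS k * mQ1 ^ a.val) *ᵥ zz 0 = -zz k) ∧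
    ((mS k * mQ1 ^ a.val) *ᵥ zz 1 = zz l ∨ (mS k * mQ1 ^ a.val) *ᵥ zz 1 = -zz l)) k l hk
  have h3 := mul_mem (h.σ_B k) (pow_mem h.q1_B a)
  have h4 := ((h.hσ k).mul (h.h1.pow a)).1
  rw [← h.fr.perm _ h3 _ h4 _ _ h1, ← h.fr.perm _ h3 _ h4 _ _ h2, Cn, ← cj_centralizer]
  exact cj_mono _ cm

theorem RR_c (hk : k ≠ l) {a b : G} (ha : a ∈ d.RR k) (hb : b ∈ d.RR l) : Commute a b :=
  (h.RR_comm cm hk ha b hb).symm

theorem nf (hσ : σ ∈ d.Sg) : ∃ r : Fin 4 → G, (∀ k, r k ∈ d.RR k) ∧ σ = r 0 * r 1 * r 2 * r 3 := by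
  have c := fun k l (e : k ≠ l) => h.RR_comm cm e
  obtain ⟨_, h1, r3, h3, rfl⟩ := (mem_sup_left_norm (le_normalizer_of_le_centralizer
    (sup_le (sup_le (c 0 3 (by decide)) (c 1 3 (by decide))) (c 2 3 (by decide))))).1 hσ
  obtain ⟨_, h4, r2, h2, rfl⟩ := (mem_sup_left_norm (le_normalizer_of_le_centralizer
    (sup_le (c 0 2 (by decide)) (c 1 2 (by decide))))).1 h1
  obtain ⟨r0, h0, r1, h5, rfl⟩ := (mem_sup_left_norm (le_normalizer_of_le_centralizer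
    (c 0 1 (by decide)))).1 h4
  exact ⟨![r0, r1, r2, r3], fun k => by fin_cases k <;> assumption, rfl⟩

theorem mul4 {a b : Fin 4 → G} (ha : ∀ k, a k ∈ d.RR k) (hb : ∀ k, b k ∈ d.RR k) :
    a 0 * a 1 * a 2 * a 3 * (b 0 * b 1 * b 2 * b 3) =
      a 0 * b 0 * (a 1 * b 1) * (a 2 * b 2) * (a 3 * b 3) := by
  have c := fun k l (e : k ≠ l) => (h.RR_c cm e (ha k) (hb l))
  calc _ = a 0 * (a 1 * a 2 * a 3 * b 0) * b 1 * b 2 * b 3 := by group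
    _ = a 0 * b 0 * a 1 * (a 2 * a 3 * b 1) * b 2 * b 3 := by
      rw [(((c 1 0 (by decide)).mul_left (c 2 0 (by decide))).mul_left (c 3 0 (by decide))).eq]; group
    _ = a 0 * b 0 * (a 1 * b 1) * a 2 * (a 3 * b 2) * b 3 := by
      rw [((c 2 1 (by decide)).mul_left (c 3 1 (by decide))).eq]; group
    _ = _ := by rw [(c 3 2 (by decide)).eq]; group

theorem inv4 {a : Fin 4 → G} (ha : ∀ k, a k ∈ d.RR k) :
    (a 0 * a 1 * a 2 * a 3)⁻¹ = (a 0)⁻¹ * (a 1)⁻¹ * (a 2)⁻¹ * (a 3)⁻¹ :=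
  inv_eq_of_mul_eq_one_right (by
    rw [h.mul4 cm (b := fun k => (a k)⁻¹) ha fun k => inv_mem (ha k)]; simp)

theorem ind' {r : Fin 4 → G} (hr : ∀ k, r k ∈ d.RR k) (k : Fin 4)
    (hc : ∀ s ∈ d.RR k, Commute s (r 0 * r 1 * r 2 * r 3)) : r k ∈ zpowers d.t :=
  h.zt_of_cn (hr k) fun s hs => by
    have c := fun l (e : k ≠ l) => (h.RR_c cm e hs (hr l)).inv_right
    have p := hc s hs
    fin_cases k
    · simpa using ((p.mul_right (c 3 (by decide))).mul_right (c 2 (by decide))).mul_right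
        (c 1 (by decide))
    · simpa using (c 0 (by decide)).mul_right ((p.mul_right (c 3 (by decide))).mul_right
        (c 2 (by decide)))
    · simpa [mul_assoc] using (c 1 (by decide)).mul_right ((c 0 (by decide)).mul_right
        (p.mul_right (c 3 (by decide))))
    · simpa [mul_assoc] using (c 2 (by decide)).mul_right ((c 1 (by decide)).mul_right
        ((c 0 (by decide)).mul_right p))

theorem ind {r : Fin 4 → G} (hr : ∀ k, r k ∈ d.RR k) (e : r 0 * r 1 * r 2 * r 3 ∈ zpowers d.t)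
    (k : Fin 4) : r k ∈ zpowers d.t := h.ind' cm hr k fun s hs => by
  obtain ⟨n, e⟩ := e
  exact e ▸ Commute.zpow_right (mem_Ce.1 (h.fr.le k hs)) n

theorem card_Sg : Nat.card d.Sg = 512 := by
  have key : ∀ (A : Subgroup G) k, A ≤ Cn (d.RR k) → d.t ∈ A →
      Nat.card (A ⊔ d.RR k : Subgroup G) = Nat.card A * 4 := fun A k h1 h2 => by
    have := card_sup_inf (le_normalizer_of_le_centralizer h1)
    rw [show A ⊓ d.RR k = zpowers d.t from le_antisymm (fun a ha => h.zt_of_cn ha.2 fun s hs =>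
      h1 ha.1 s hs) (zpowers_le.2 ⟨h2, h.fr.tm k⟩), h.card_zt, h.fr.card] at this
    omega
  have c := fun k l (e : k ≠ l) => h.RR_comm cm e
  rw [Dat.Sg, key _ _ (sup_le (sup_le (c 0 3 (by decide)) (c 1 3 (by decide))) (c 2 3 (by decide)))
    (mem_sup_right (h.fr.tm 2)), key _ _ (sup_le (c 0 2 (by decide)) (c 1 2 (by decide)))
    (mem_sup_right (h.fr.tm 1)), key _ _ (c 0 1 (by decide)) (h.fr.tm 0), h.fr.card]

theorem Sg_cm (hσ : σ ∈ d.Sg) (hρ : ρ ∈ d.Sg) : σ * ρ * σ⁻¹ * ρ⁻¹ ∈ zpowers d.t :=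
  (Sg_le (X := fixm d.t ρ) (fun k a ha => fixm_symm (h.fr.le k ha) (Sg_le (X := fixm d.t a)
    (fun l b hb => ⟨h.fr.le l hb, by
      by_cases e : l = k
      · exact h.fr.cm k b (e ▸ hb) a ha
      · rw [(h.RR_c cm e hb ha).eq]; simp⟩) hρ)) hσ).2

theorem Sg_sq (hσ : σ ∈ d.Sg) : σ * σ ∈ zpowers d.t := by
  obtain ⟨r, hr, rfl⟩ := h.nf cm hσ
  have : ∀ k, r k * r k ∈ zpowers d.t := fun k =>
    (h.fr.sq k _ (hr k)).elim (fun e => mul_mem e e) fun e => e ▸ mem_zpowers _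
  rw [h.mul4 cm hr hr]
  exact mul_mem (mul_mem (mul_mem (this 0) (this 1)) (this 2)) (this 3)

theorem Sg_cen : d.Sg ⊓ Cn d.Sg ≤ zpowers d.t := fun σ hσ => by
  obtain ⟨r, hr, rfl⟩ := h.nf cm hσ.1
  have := fun k => h.ind' cm hr k fun s hs => hσ.2 s (RR_le d k hs)
  exact mul_mem (mul_mem (mul_mem (this 0) (this 1)) (this 2)) (this 3)

theorem Sg_two : IsPGroup 2 d.Sg := .of_card (n := 9) (h.card_Sg cm)

theorem Sg_cop : (Nat.card d.Sg).Coprime 3 := by rw [h.card_Sg cm]; decide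

omit cm in
theorem D_faith (hx : mT *ᵥ x = x) (e : ∀ σ ∈ d.Sg, d.v x ∈ fixm d.t σ) : x = 0 :=
  (by decide +kernel : ∀ x : V, mT *ᵥ x = x → (∀ k, dot x (zz k) = 0) → x = 0) x hx fun k => by
    by_contra e'
    obtain ⟨r, hr, h1⟩ := h.exists_R k
    exact h1 (h.fr.fpf k x hx e' r hr (e r (RR_le d k hr)).2)

omit cm in
theorem faith (hg : g ∈ d.B) (e : ∀ σ ∈ d.Sg, g * σ * g⁻¹ * σ⁻¹ ∈ zpowers d.t) :
    g ∈ zpowers d.t := by
  have h1 : ∀ a ∈ d.D, (∀ σ ∈ d.Sg, a ∈ fixm d.t σ) → a = 1 := fun a ha e => by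
    obtain ⟨x, hx, rfl⟩ := h.mem_D.1 ha
    rw [h.D_faith hx e, v_zero h.co]
  have h2 : ∀ σ ∈ d.Sg, g ∈ fixm d.t σ := fun σ hσ => ⟨hg.2, e σ hσ⟩
  rcases h.cn_D hg.2 fun k => mem_Ce'.2 (mul_inv_eq_one.1 (h1 _ (mul_mem
    (conj_mem_of_mem_normalizer (B_nrD hg) (h.u_D k)) (inv_mem (h.u_D k))) fun σ hσ => by
      have := mul_mem (h2 σ hσ) (inv_mem (show _ ∈ fixm d.t σ by
        simpa [mul_assoc] using conj_fixm (h.u_D k).2 (h2 _ (conj_mem_of_mem_normalizer'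
          (h.B_nrSg (D_B (h.u_D k))) hσ))))
      simpa [mul_assoc] using this)) with e | e
  · rw [h1 g e h2]; exact one_mem _
  · rw [mul_eq_one_iff_eq_inv.1 (h1 _ e fun σ hσ => mul_mem (h2 σ hσ) (fixm_symm (mem_Ce.2 rfl)
      ⟨h.Sg_t hσ, by rw [mem_Ce'.1 (h.Sg_t hσ)]; simp⟩))]
    exact inv_mem (mem_zpowers _)

/-- an element of `D` orthogonal to no `z_k` acts without fixed points on `Σ / ⟨t⟩` -/
theorem Sg_fpf (hx : mT *ᵥ x = x) (h1 : ∀ k, dot x (zz k) ≠ 0) (hσ : σ ∈ d.Sg)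
    (e : d.v x ∈ fixm d.t σ) : σ ∈ zpowers d.t := by
  obtain ⟨r, hr, rfl⟩ := h.nf cm hσ
  have h2 := fun k => conj_mem_of_mem_normalizer (h.D_RR k (h.v_D hx)) (hr k)
  have h3 := fun k => h.fr.fpf k x hx (h1 k) _ (hr k) (h.ind cm
    (r := fun k => d.v x * r k * (d.v x)⁻¹ * (r k)⁻¹) (fun k => mul_mem (h2 k) (inv_mem (hr k))) (by
      rw [← h.mul4 cm (b := fun k => (r k)⁻¹) h2 fun k => inv_mem (hr k), ← h.inv4 cm hr]
      convert e.2 using 2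
      group) k)
  exact mul_mem (mul_mem (mul_mem (h3 0) (h3 1)) (h3 2)) (h3 3)

theorem nr_of_le {A : Subgroup G} (h1 : zpowers d.t ≤ A) (h2 : A ≤ d.Sg) : d.Sg ≤ nr A :=
  fun σ hσ => mem_normalizer_of_cj_le (by
    rintro _ ⟨a, ha, rfl⟩
    simpa using mul_mem (h1 (h.Sg_cm cm hσ (h2 ha))) ha)

theorem card_fix {k : Fin 3} (hs : s ∈ d.B)
    (e : s * d.v (uu k) * s⁻¹ = (d.v (uu k))⁻¹) : Nat.card (d.Sg ⊓ fixm d.t s : Subgroup G) ≤ 32 := by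
  have hu := h.u_D k
  have h0 : zpowers d.t ≤ d.Sg ⊓ fixm d.t s := zpowers_le.2 ⟨h.t_Sg, fixm_symm (mem_Ce.2 rfl)
    ⟨hs.2, by rw [mem_Ce'.1 hs.2]; simp⟩⟩
  have h1 := cj_le_of_le (inf_le_left : d.Sg ⊓ fixm d.t s ≤ _) (h.B_nrSg (D_B hu))
  have h2 := card_sup_inf (h1.trans (h.nr_of_le cm h0 inf_le_left))
  have h3 := card_le_of_le (sup_le h1 (inf_le_left : d.Sg ⊓ fixm d.t s ≤ _))
  have h4 := card_le_of_le (show H98.cj (d.v (uu k)) (d.Sg ⊓ fixm d.t s) ⊓ (d.Sg ⊓ fixm d.t s) ≤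
      zpowers d.t from by
    rintro σ ⟨⟨ρ, hρ, rfl⟩, hσ⟩
    refine h.Sg_fpf cm (uu_T k) (uu_zz k) hσ.1 ?_
    have := mul_mem (conj_fixm hu.2 (fixm_symm hs.2 hρ.2)) (inv_mem (fixm_symm hs.2 hσ.2))
    rw [show d.v (uu k) * s * (d.v (uu k))⁻¹ * s⁻¹ = d.v (uu k) * (s * d.v (uu k) * s⁻¹)⁻¹ by group,
      e, inv_inv] at this
    rw [← inv_mem_iff, ← mul_eq_one_iff_eq_inv.1 (show _ * _ * _ = 1 from
      (pow_three' _).symm.trans (v_cube h.co (uu k)))]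
    exact this)
  rw [card_cj] at h2
  rw [h.card_Sg cm] at h3
  rw [h.card_zt] at h4
  nlinarith [Nat.mul_le_mul h3 h4]

theorem free1 {k : Fin 3} (hs : s ∈ d.B) (h2 : s * s = 1)
    (e : s * d.v (uu k) * s⁻¹ = (d.v (uu k))⁻¹) (hσ : σ ∈ d.Sg)
    (h3 : σ * s * (σ * s) ∈ zpowers d.t) :
    ∃ ρ ∈ d.Sg, ρ * (σ * s) * ρ⁻¹ = s ∨ ρ * (σ * s) * ρ⁻¹ = s * d.t := by
  have si := inv_eq_of_mul_eq_one_right h2
  let Z := (zpowers d.t).subgroupOf d.Sg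
  have : Z.Normal := normal_subgroupOf_of_le_normalizer (h.Sg_t.trans Ce_le_nr)
  let π := QuotientGroup.mk' Z
  have hπ : ∀ x : d.Sg, π x = 1 ↔ (x : G) ∈ zpowers d.t := fun x => QuotientGroup.eq_one_iff x
  have hc : ∀ a b : d.Sg, π a * π b = π b * π a := fun a b => by
    rw [← commutatorElement_eq_one_iff_mul_comm, ← map_commutatorElement, hπ]
    exact h.Sg_cm cm a.2 b.2
  let c : d.Sg → d.Sg := fun ρ => ⟨s * ρ * s⁻¹, conj_mem_of_mem_normalizer (h.B_nrSg hs) ρ.2⟩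
  let f : d.Sg →* d.Sg ⧸ Z := MonoidHom.mk' (fun ρ => π (c ρ) * π ρ⁻¹) fun a b => by
    rw [show c (a * b) = c a * c b from Subtype.ext conj_mul.symm, mul_inv_rev, map_mul, map_mul,
      hc b⁻¹, mul_assoc, mul_assoc, ← mul_assoc (π (c b)), hc (c b), mul_assoc]
  let A := (d.Sg ⊓ fixm d.t s).subgroupOf d.Sg
  have hA : ∀ ρ : d.Sg, ρ ∈ A ↔ s * ρ * s⁻¹ * (ρ : G)⁻¹ ∈ zpowers d.t := fun ρ =>
    ⟨fun e => (fixm_symm hs.2 e.2).2, fun e => ⟨ρ.2, fixm_symm (h.Sg_t ρ.2) ⟨hs.2, e⟩⟩⟩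
  have h4 : f.ker = A := Subgroup.ext fun ρ => by
    rw [hA, MonoidHom.mem_ker]
    exact (map_mul π (c ρ) ρ⁻¹ ▸ hπ (c ρ * ρ⁻¹) :)
  have h5 : Nat.card A ≤ 32 := by
    rw [Nat.card_congr (subgroupOfEquivOfLe inf_le_left).toEquiv]; exact h.card_fix cm hs e
  have h6 : Nat.card (A.map π) * 2 = Nat.card A := by
    rw [← relIndex_ker, QuotientGroup.ker_mk', ← relIndex_mul_card (X := Z) fun x hx => (hA x).2
      (mul_mem ((zt_conj hs.2).2 hx) (inv_mem hx)),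
      Nat.card_congr (subgroupOfEquivOfLe h.zt_Sg).toEquiv, h.card_zt]
  have h7 := f.ker.index_mul_card
  rw [index_ker, h4, h.card_Sg cm] at h7
  have h8 : f.range = A.map π := eq_of_le_of_card_ge (by
    rintro _ ⟨ρ, rfl⟩
    refine ⟨c ρ * ρ⁻¹, (hA _).2 ?_, map_mul _ _ _⟩
    convert h.Sg_sq cm (c ρ * ρ⁻¹)⁻¹.2 using 1
    simp only [c, coe_mul, coe_inv, mul_inv_rev, si, inv_inv]
    calc _ = s * s * ρ * s * (ρ : G)⁻¹ * s * ρ * s * (ρ : G)⁻¹ * s := by group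
      _ = _ := by rw [h2]; group) (by nlinarith)
  obtain ⟨ρ, h9⟩ := h8.ge ⟨⟨σ, hσ⟩, (hA _).2 (by
    convert mul_mem ((zt_conj (inv_mem (h.Sg_t hσ))).2 h3) (inv_mem (h.Sg_sq cm hσ)) using 1
    rw [si]; group), rfl⟩
  have h10 := (hπ (ρ * ⟨σ, hσ⟩ * (c ρ)⁻¹)).1 (by
    rw [map_mul, map_mul, ← h9]
    change _ * (π _ * π _) * _ = _
    rw [hc (c ρ), map_inv, map_inv]; group)
  have h11 : ρ * (σ * s) * (ρ : G)⁻¹ = (ρ * ⟨σ, hσ⟩ * (c ρ)⁻¹ : d.Sg) * s := by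
    simp [c, mul_assoc]
  refine ⟨ρ, ρ.2, (h.mem_zt.1 h10).imp (fun e => by rw [h11, e, one_mul]) fun e => ?_⟩
  rw [h11, e, mem_Ce.1 hs.2]

theorem xs : H78.XS d.Sg d.t where
  z_mem := h.t_Sg
  z_ne := h.t_ne
  z_sq := h.tt
  z_comm _ hx := (mem_Ce.1 (h.Sg_t hx)).symm
  center _ hx e := h.mem_zt.1 (h.Sg_cen cm ⟨hx, fun y hy => (e y hy).symm⟩)
  sq _ hx := h.mem_zt.1 (h.Sg_sq cm hx)
  comm x hx y hy := (h.mem_zt.1 (h.Sg_cm cm (inv_mem hx) (inv_mem hy))).imp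
    (fun e => by rw [← mul_one (y * x), ← e]; group) fun e => by rw [← e]; group
  nonab := by
    obtain ⟨r, hr, e⟩ := h.exists_R 0
    obtain ⟨s, hs, e'⟩ := h.fr.nc 0 r hr e
    exact ⟨r, RR_le d 0 hr, s, RR_le d 0 hs, e'⟩

theorem exx : Ex d where
  comm _ _ := h.RR_comm cm
  nf _ := h.nf cm
  ind _ := h.ind cm
  card := h.card_Sg cm
  extra := (h.xs cm).isExtraspecial
  le := h.Sg_t
  sq _ := h.Sg_sq cm
  cm _ a _ := h.Sg_cm cm a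
  cen := h.Sg_cen cm
  nB := h.B_nrSg
  inf := h.star h.Sg_t (h.Sg_cop cm) (D_B.trans h.B_nrSg)
  faith _ := h.faith
  free _ _ hs h2 e := ⟨fun _ => h.free1 cm hs h2 e, fun _ a b => (card_le_of_le fun x hx =>
    mem_inf.2 ⟨a hx, fixm_symm (h.Sg_t (a hx)) ⟨hs.2, b x hx⟩⟩).trans (h.card_fix cm hs e)⟩

end Loc

theorem Ex.cm' {G : Type*} [Group G] {d : Dat G} (h : Ex d) : Cm d := h.comm 0 1 (by decide)

theorem jobEx : JobEx.{u} := fun _ _ _ _ h _ _ => h.exx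

end H47.O8
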