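import Cfsg.Agent.H47.O8TT
import Cfsg.Agent.H47.O8A3
import Cfsg.Agent.H47.O8A4
import Cfsg.Agent.H38.O8Res
import Cfsg.Agent.H76.O8A2

/-! The centraliser of the involution `t` in the situation of S3372 (export for S3337, S2915). -/

set_option autoImplicit false
set_option maxRecDepth 100000
open Cfsg Subgroup H14 H98 H56.L3 H42.L3 H47.MC H42.MC H26.MC
open scoped Matrix

namespace H47.O8

universe u

/-- the export -/
def Hub : Prop := ∀ (G : Type u) [Group G] [Finite G] (z t x : G) (Q K : Subgroup G)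
  (π : K →* SL23), H0 z t Q K π → x * z * x⁻¹ ∈ Q → x * z * x⁻¹ ∉ zpowers z →
  ∃ D Sg : Subgroup G, D ≤ Ce t ⊓ Ce z ∧ D ≤ Cn D ∧ (∀ a ∈ D, a ^ 3 = 1) ∧ Nat.card D = 27 ∧
    Sg ≤ Ce t ∧ IsPGroup 2 Sg ∧ D ≤ Nr Sg ∧ ∀ g ∈ Ce t, ∃ s ∈ Sg, s⁻¹ * g ∈ Nr D

/-- the export with the complete local data -/
def HubL : Prop := ∀ (G : Type u) [Group G] [Finite G] (z t x : G) (Q K : Subgroup G)
  (π : K →* SL23), H0 z t Q K π → x * z * x⁻¹ ∈ Q → x * z * x⁻¹ ∉ zpowers z →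
  ∃ d : Dat G, d.z = z ∧ d.t = t ∧ Loc d ∧ Ex d ∧ CT d ⊤

variable {G : Type u} [Group G] [Finite G]

omit [Finite G] in
theorem exists_zpow_mem {N : Subgroup G} [N.Normal] {p : ℕ} [Fact p.Prime] (hN : N.index = p)
    {q : G} (hq : q ∉ N) (g : G) : ∃ k : ℤ, g * q ^ k ∈ N := by
  obtain ⟨k, hk⟩ := mem_zpowers_of_prime_card (G := G ⧸ N) hN (g := q) (g' := (g⁻¹ : G))
    fun e => hq ((QuotientGroup.eq_one_iff _).1 e)
  refine ⟨k, (QuotientGroup.eq_one_iff _).1 ?_⟩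
  rw [QuotientGroup.mk_mul, QuotientGroup.mk_zpow, show (q : G ⧸ N) ^ k = _ from hk,
    QuotientGroup.mk_inv, mul_inv_cancel]

omit [Finite G] in
theorem CT.top {d : Dat G} {N : Subgroup G} [N.Normal] {p : ℕ} [Fact p.Prime] (hN : N.index = p)
    {q : G} (hq : q ∉ N) (hB : q ∈ d.B) (h : CT d N) : CT d ⊤ := fun g hg => by
  obtain ⟨k, hk⟩ := exists_zpow_mem hN hq g
  obtain ⟨σ, h1, h2⟩ := h _ ⟨mul_mem hg.1 (zpow_mem hB k).2, hk⟩
  exact ⟨σ, h1, ((Nr d.J).mul_mem_cancel_right (zpow_mem hB k).1).1 (mul_assoc σ⁻¹ g _ ▸ h2)⟩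

theorem NZ2.loc {d : Dat0 G} (h : NZ2 d) : ∃ d' : Dat G, Loc d' ∧ d'.v = d.v ∧ d'.t = d.t := by
  have sq : ∀ ι, Acts d.v ι (-1) → ι * ι = 1 := fun ι hι => by
    obtain ⟨x, hx⟩ := (h.mem _).1 (h.mem_J (by simpa using acts_mul hι hι))
    have h5 := hι x
    rw [hx, mul_inv_eq_iff_eq_mul, ← mul_assoc, mul_left_inj, ← hx, h.inj.eq_iff] at h5
    rw [← hx, v_eq_one h.co]
    exact (by decide +kernel : ∀ x : V, x = (-1 : Mat) *ᵥ x → x = 0) x h5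
  obtain ⟨ι, hι, ht⟩ : ∃ ι, Acts d.v ι (-1) ∧ d.t * ι = ι * d.t := by
    obtain ⟨ι, hι⟩ := h.exRot (M := -1) (by decide +kernel)
      (Iso.rot (by decide +kernel) (by decide +kernel))
    obtain ⟨w, e, -⟩ := h.exists_w hι h.aT
    have h1 : mT *ᵥ w + w = 0 := by
      have : d.t * (d.t * ι * d.t⁻¹) * d.t⁻¹ = ι := by
        calc _ = d.t * d.t * ι * (d.t * d.t)⁻¹ := by group
          _ = _ := by simp [h.tt]
      rwa [e, ← conj_mul, e, h.aT, ← mul_assoc, ← h.add, mul_eq_right, v_eq_one h.co] at this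
    refine ⟨d.v (-w) * ι, by simpa using acts_mul (acts_J h.co (v_mem h.co (-w))) hι, ?_⟩
    rw [← mul_inv_eq_iff_eq_mul, ← conj_mul, e, h.aT, ← mul_assoc, ← h.add]
    congr 2
    exact (by decide +kernel : ∀ w : V, mT *ᵥ w + w = 0 → mT *ᵥ (-w) + w = -w) w h1
  have hQ : ι ∈ Nr d.Q := h.nQ (mem_Nz.2 (by
    rw [hι, show (-1 : Mat) *ᵥ vz = -vz by decide +kernel, v_neg h.co]
    exact inv_mem (mem_zpowers _)))
  have key : ∀ q ∈ d.Q, ∀ M, Acts d.v q M → ∃ q' ∈ d.Q, Acts d.v q' M ∧ q' * ι = ι * q' :=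
    fun q hq M hM => by
      obtain ⟨w, e, h1, h2⟩ := h.exists_w hι hM
      refine ⟨_, mul_mem ?_ hq, h1, h2⟩
      rw [← mul_inv_eq_iff_eq_mul.2 e]
      simpa [mul_assoc] using mul_mem hq (conj_mem_of_mem_normalizer hQ (inv_mem hq))
  obtain ⟨q1, m1, a1, c1⟩ := key _ h.q1_Q _ h.a1
  obtain ⟨q2, m2, a2, c2⟩ := key _ h.q2_Q _ h.a2
  have ex : ∀ M, Iso M → Rot M → ∃ k, Acts d.v k M ∧ k * ι = ι * k := fun M a b => by
    obtain ⟨g, hg⟩ := h.exRot a b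
    obtain ⟨w, -, h1⟩ := h.exists_w hι hg
    exact ⟨_, h1⟩
  choose τ hτ using fun k => ex (mR k) (by revert k; decide +kernel)
    (Iso.rot (by revert k; decide +kernel) (by revert k; decide +kernel))
  refine ⟨{ d with q1 := q1, q2 := q2, ι := ι, τ := τ }, { h with
    a1 := a1, a2 := a2, memQ := fun g => ⟨fun hg => ?_, ?_⟩, aι := hι, ιι := sq ι hι,
    ht := ⟨h.aT, ht⟩, h1 := ⟨a1, c1⟩, h2 := ⟨a2, c2⟩, hτ := hτ, exR := ex }, rfl, rfl⟩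
  · obtain ⟨α, β, x, -, e⟩ := (h.memQ g).1 hg
    have h1 := acts_mul (acts_pow a1 α) (acts_pow a2 β)
    obtain ⟨y, e'⟩ := (h.mem _).1 (h.mem_J (g := (q1 ^ α.val * q2 ^ β.val)⁻¹ * g) (by
      have := acts_mul (h.inv h1) (acts_mul (acts_mul
        (acts_pow h.a1 α) (acts_pow h.a2 β)) (acts_J h.co (v_mem h.co x)))
      rwa [mul_one, show _ᵀ * _ = 1 from h.iso h1, ← e] at this))
    exact ⟨α, β, y, h.dot_of_Q (e' ▸ mul_mem (inv_mem (mul_mem (pow_mem m1 _) (pow_mem m2 _))) hg),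
      by rw [e', mul_inv_cancel_left]⟩
  · rintro ⟨α, β, x, hx, rfl⟩
    exact mul_mem (mul_mem (pow_mem m1 _) (pow_mem m2 _)) (h.v_Q hx)

theorem Sg_res {d : Dat G} (h : Loc d) {N : Subgroup G} [N.Normal] (hN : N.index = 2) :
    (H38.O8.res h hN).Sg.map N.subtype = d.Sg := by
  have e : (H38.O8.res h hN).R.map N.subtype = d.R := by
    rw [H38.O8.R_res, map_subgroupOf_eq_of_le (H38.O8.R_le2 h hN)]
  simp only [Dat.Sg, Dat.RR, Subgroup.map_sup, Matrix.cons_val_zero, Matrix.cons_val_one, Matrix.cons_val,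
    H98.map_cj, e]
  rfl

theorem Jobs.ct_one (h : Jobs.{u}) {d : Dat G} (hl : Loc d) (h1 : One d) : Ex d ∧ CT d ⊤ := by
  have fx := h.x G d hl
  have fr := h.xr G d hl fx
  have cu := h.u1 G d hl fx h1
  have sg := h.sg G d hl fx fr cu
  obtain ⟨cm, cy⟩ := h.cy G d hl fx fr h1 cu sg
  have ex := h.ex G d hl fx fr cm
  obtain ⟨N, n1, n2⟩ := h.t3 G d hl fx h1
  exact ⟨ex, (h.c1 h.s33 G d N hl fx fr h1 cu sg cy ex n1 n2).top n2 (H38.O8.q1_not3 hl n2) hl.q1_B⟩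

theorem Jobs.ct (h : Jobs.{u}) {d : Dat G} (hl : Loc d) : Ex d ∧ CT d ⊤ := by
  have fx := h.x G d hl
  rcases fx.dich with h1 | ⟨c, hc⟩
  · exact h.ct_one hl h1
  have fq := h.xq G d hl fx
  have fr := h.xr G d hl fx
  obtain ⟨⟨β, hβ⟩, cu⟩ := h.u2 h.w9 G d c hl fx fq hc
  have sg := h.sg G d hl fx fr fun k => inf_le_right.trans (cu _ (by revert k; decide))
  have ex := h.ex G d hl fx fr (h.cm2 G d c hl fx fr hc sg)
  obtain ⟨N, n1, n2, n3⟩ := h.tt G d c hl fx fq hc cu ex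
    (h.o2 G d c hl fx fr hc ex (h.n2 h.w9 G d c β hl fx fq fr hc hβ sg ex))
    (h.c2 G d c hl fx fq hc cu)
  refine ⟨ex, CT.top n2 n3 (hl.hat_B hc (by decide +kernel)) fun g hg => ?_⟩
  obtain ⟨σ, h1, h2⟩ := (h.ct_one (H38.O8.loc_res hl n2) (H38.O8.one_res hl n2 hc n3)).2 ⟨g, hg.2⟩
    ⟨H38.O8.ce_sub.2 hg.1, trivial⟩
  exact ⟨σ, Sg_res hl n2 ▸ mem_map_of_mem _ h1, (H38.O8.nr_sub (H38.O8.J_le2 hl n2)).1 h2⟩

theorem Jobs.hubL (h : Jobs.{u}) : HubL.{u} := fun G _ _ z t x Q K π h0 h1 h2 => by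
  obtain ⟨c₁, q₁, c₂, q₂, b, i, j, hp⟩ := h.a1 G z t Q K π h0
  obtain ⟨d, hd, rfl, rfl, -⟩ := H76.O8.jobA2' hp h1 h2
  obtain ⟨d', hd', e1, e2⟩ := hd.twist
  obtain ⟨d'', hl, e3, e4⟩ := hd'.loc
  exact ⟨d'', (congrFun e3 _).trans e1, e4.trans e2, hl, h.ct hl⟩

omit [Finite G] in
theorem Loc.card_D {d : Dat G} (h : Loc d) : Nat.card d.D = 27 :=
  (h.card_fixJ h.aT).trans (by decide +kernel)

theorem HubL.hub (h : HubL.{u}) : Hub.{u} := fun G _ _ z t x Q K π h0 h1 h2 => by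
  obtain ⟨d, rfl, rfl, hl, ex, ct⟩ := h G z t x Q K π h0 h1 h2
  refine ⟨d.D, d.Sg, le_inf inf_le_right (inf_le_left.trans (J_le_Ce hl.co _)),
    fun a ha b hb => J_le_cn hl.co ha.1 b hb.1, fun a ha => J_cube hl.co ha.1, hl.card_D, ex.le,
    IsPGroup.of_card (n := 9) ex.card, Loc.D_B.trans ex.nB, fun g hg => ?_⟩
  obtain ⟨σ, h3, h4⟩ := ct g ⟨hg, trivial⟩
  exact ⟨σ, h3, Loc.B_nrD ⟨h4, (Ce d.t).mul_mem ((Ce d.t).inv_mem (ex.le h3)) hg⟩⟩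

end H47.O8
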