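import Cfsg.Agent.H47.O8Sp
import Cfsg.Agent.H47.O8G
import Cfsg.Agent.H26.McM3a
import Cfsg.Agent.H90.SL23

/-! Common kit for the jobs of `H47.O8Sp` (blueprint `LOCAL3C.md`, §5). -/

set_option autoImplicit false
set_option maxRecDepth 100000
set_option synthInstance.maxSize 2048
open Cfsg Subgroup H14 H98 H56.L3 H42.L3 H47.MC H42.MC H26.MC
open scoped Matrix commutatorElement

namespace H47.O8

universe u

def sB : SL23 := H11.uMat 1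
def sI : SL23 := H11.lMat 1 * H11.uMat 1
def sJ : SL23 := H11.uMat 1 * H11.lMat 1

variable {G : Type*} [Group G]

theorem Quat.exists_hom {t i j b : G} (h : Quat t i j b) (hb : b ^ 3 = 1) :
    ∃ φ : SL23 →* G, φ sB = b ∧ φ sI = i ∧ φ sJ = j ∧ φ (-1) = t := by
  have h1 : t * b = b * t := by
    rw [eq_comm, ← mul_inv_eq_iff_eq_mul]
    calc _ = b * i * b⁻¹ * (b * i * b⁻¹) := by rw [← h.ii]; group
      _ = t := by rw [h.bi, h.jj]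
  have h2 : t * i = i * t := by rw [← h.ii, mul_assoc]
  obtain ⟨φ, e1, e2, e3⟩ := H90.exists_hom_SL3 (y := b) (a := i * b⁻¹) (z := t) hb (by
      calc _ = i * (b ^ 3)⁻¹ * (b * (b * i * b⁻¹) * b⁻¹) * b ^ 3 * (b ^ 3)⁻¹ * (b * i * b⁻¹) *
            b ^ 3 * (b ^ 3)⁻¹ := by simp only [pow_succ, pow_zero]; group
        _ = i * i * (j * j) := by rw [hb, h.bi, h.bj]; group
        _ = 1 := by rw [h.ii, h.jj, h.tt]) (by rw [sq, h.tt])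
    (by rw [inv_mul_cancel_right, sq, h.ii]) h1 (by
      rw [← mul_assoc, h2, mul_assoc, mul_assoc, (Commute.inv_right h1).eq])
  refine ⟨φ, e1, by rw [sI, map_mul, e1, e2, inv_mul_cancel_right], ?_, e3⟩
  rw [sJ, map_mul, e1, e2, ← mul_assoc, h.bi]

/-- **Gen** for `⟨x, y⟩ ≤ J`. -/
theorem gen4 [Finite G] {v : V → G} {J K L : Subgroup G} (h : Coord v J) {x y : V} (hx : x ≠ 0)
    (hy : y ≠ 0) (h1 : x + y ≠ 0) (h2 : x - y ≠ 0) (h3 : (Nat.card K).Coprime 3)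
    (nx : v x ∈ nr K) (ny : v y ∈ nr K) (a : K ⊓ Ce (v x) ≤ L) (b : K ⊓ Ce (v y) ≤ L)
    (c : K ⊓ Ce (v (x + y)) ≤ L) (e : K ⊓ Ce (v (x - y)) ≤ L) : K ≤ L := by
  let f : Multiplicative (ZMod 3 × ZMod 3) →* G := MonoidHom.mk'
    (fun p => v (p.toAdd.1 • x + p.toAdd.2 • y)) fun p q => by
      rw [← h.add]; congr 1; simp [add_smul]; abel
  have key : ∀ p : ZMod 3 × ZMod 3, p = 0 ∨ ∃ s : ZMod 3, (s = 1 ∨ s = -1) ∧
      (s • p = (1, 0) ∨ s • p = (0, 1) ∨ s • p = (1, 1) ∨ s • p = (1, -1)) := by decide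
  have hm : ∀ p : ZMod 3 × ZMod 3, p ≠ 0 → ∃ s : ZMod 3, ∃ w, w ≠ 0 ∧ K ⊓ Ce (v w) ≤ L ∧
      s • (p.1 • x + p.2 • y) = w := fun p hp => by
    obtain ⟨s, -, hs⟩ := (key p).resolve_left hp
    have : s • (p.1 • x + p.2 • y) = (s • p).1 • x + (s • p).2 • y := by
      simp [smul_smul]
    rcases hs with hs | hs | hs | hs <;> rw [hs] at this
    exacts [⟨s, _, hx, a, by simpa using this⟩, ⟨s, _, hy, b, by simpa using this⟩,
      ⟨s, _, h1, c, by simpa using this⟩, ⟨s, _, h2, e, by simpa [sub_eq_add_neg] using this⟩]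
  have hf : Function.Injective f := (injective_iff_map_eq_one f).2 fun p hp => by
    by_contra e
    obtain ⟨s, w, hw, -, e'⟩ := hm p.toAdd e
    rw [(v_eq_one h).1 hp, smul_zero] at e'
    exact hw e'.symm
  have hc : Nat.card f.range = 9 := by
    rw [← Nat.card_congr (MonoidHom.ofInjective hf).toEquiv]; simp
  have : IsMulCommutative f.range := le_centralizer_iff_isMulCommutative.1 (by
    rintro _ ⟨p, rfl⟩ _ ⟨q, rfl⟩
    exact v_comm h _ _)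
  refine H1.le_of_noncyclic_centralizer_le (A := f.range) (fun hc' => ?_) ?_
    (hc ▸ (h3.symm.pow_left 2 :)) L ?_
  · obtain ⟨g, hg⟩ := isCyclic_iff_exists_orderOf_eq_natCard.1 hc'
    obtain ⟨_, p, rfl⟩ := g
    have := orderOf_dvd_of_pow_eq_one (show (⟨f p, p, rfl⟩ : f.range) ^ 3 = 1 from
      Subtype.ext (v_cube h _))
    rw [hg, hc] at this
    omega
  · rintro _ ⟨p, rfl⟩
    change v _ ∈ _
    rw [h.add, v_smul h, v_smul h]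
    exact mul_mem (pow_mem nx _) (pow_mem ny _)
  · rintro _ ⟨p, rfl⟩ hp
    obtain ⟨s, w, -, hw, e'⟩ := hm p.toAdd fun e => hp (by rw [show p = 1 from e, map_one])
    refine le_trans (inf_le_inf_left K fun g hg => mem_Ce.2 ?_) hw
    rw [← e', v_smul h]
    exact (Commute.pow_right (mem_Ce.1 hg) _).eq

namespace Base

variable {d : Dat0 G} (h : Base d) {g r s : G} {M N : Mat} {x x' : V} {L : Subgroup G}
include h

theorem co : Coord d.v d.J := h.toCoord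

theorem t_ne : d.t ≠ 1 := fun e =>
  absurd (acts_unique h.co h.aT (e ▸ acts_one)) (by decide +kernel)

theorem mem_zt : g ∈ zpowers d.t ↔ g = 1 ∨ g = d.t := mem_zp h.tt

theorem t_inv : d.t⁻¹ = d.t := inv_eq_of_mul_eq_one_right h.tt

theorem card_zt : Nat.card (zpowers d.t) = 2 := by
  rw [Nat.card_zpowers, orderOf_eq_prime (p := 2) (by rw [sq, h.tt]) h.t_ne]

theorem v_t : d.v x ∈ Ce d.t ↔ mT *ᵥ x = x := by
  rw [← acts_mem_Ce h.co h.aT, mem_Ce, mem_Ce, eq_comm]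

/-- the model of `R ⟨b⟩ ≅ SL₂(3)` -/
theorem model : ∃ φ : SL23 →* G, Function.Injective φ ∧ φ sB = d.v vb ∧ φ sI = d.i ∧ φ sJ = d.j ∧
    φ (-1) = d.t ∧ (∀ k, φ k ∈ zpowers d.t ↔ k = 1 ∨ k = -1) ∧
    ∀ g, g ∈ d.R ↔ ∃ k, k ^ 4 = 1 ∧ φ k = g := by
  obtain ⟨φ, e1, e2, e3, e4⟩ := h.toQuat.exists_hom (v_cube h.co _)
  have hi := H90.injective_of_SL3 φ (e4 ▸ h.t_ne)
  refine ⟨φ, hi, e1, e2, e3, e4, fun k => by
    rw [h.mem_zt, ← e4, hi.eq_iff, map_eq_one_iff φ hi], fun g => ⟨fun hg => ?_, ?_⟩⟩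
  · induction hg using closure_induction with
    | mem x hx =>
      rcases hx with rfl | rfl
      exacts [⟨_, by decide +kernel, e2⟩, ⟨_, by decide +kernel, e3⟩]
    | one => exact ⟨1, one_pow _, φ.map_one⟩
    | mul x y _ _ hx hy =>
      obtain ⟨k, hk, rfl⟩ := hx
      obtain ⟨l, hl, rfl⟩ := hy
      exact ⟨k * l, (by decide +kernel : ∀ k l : SL23, k ^ 4 = 1 → l ^ 4 = 1 → (k * l) ^ 4 = 1)
        k l hk hl, φ.map_mul _ _⟩
    | inv x _ hx =>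
      obtain ⟨k, hk, rfl⟩ := hx
      exact ⟨k⁻¹, by rw [inv_pow, hk, inv_one], φ.map_inv _⟩
  · rintro ⟨k, hk, rfl⟩
    obtain ⟨a, b, rfl⟩ := (by decide +kernel : ∀ k : SL23, k ^ 4 = 1 → ∃ (a : Fin 4) (b : Fin 2),
      k = sI ^ a.val * sJ ^ b.val) k hk
    rw [map_mul, map_pow, map_pow, e2, e3]
    exact mul_mem (pow_mem (subset_closure (by simp)) _) (pow_mem (subset_closure (by simp)) _)

omit h in
theorem i_mem : d.i ∈ d.R := subset_closure (by simp)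

omit h in
theorem j_mem : d.j ∈ d.R := subset_closure (by simp)

theorem t_mem : d.t ∈ d.R := h.ii ▸ mul_mem i_mem i_mem

theorem not_zt (e : g * g = d.t) : g ∉ zpowers d.t := fun hg => by
  rcases h.mem_zt.1 hg with rfl | rfl
  exacts [h.t_ne (by simpa using e.symm), h.t_ne (e.symm.trans h.tt)]

theorem card_R : Nat.card d.R = 8 := by
  obtain ⟨φ, hi, -, -, -, -, -, e⟩ := h.model
  rw [← Nat.card_congr (Equiv.ofBijective (fun k : {k : SL23 // k ^ 4 = 1} =>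
    (⟨φ k, (e _).2 ⟨k, k.2, rfl⟩⟩ : d.R)) ⟨fun a b e => Subtype.ext (hi (congrArg Subtype.val e)),
      fun r => let ⟨k, hk, e'⟩ := (e _).1 r.2; ⟨⟨k, hk⟩, Subtype.ext e'⟩⟩),
    Nat.card_eq_fintype_card]
  decide +kernel

theorem mem_R (hr : r ∈ d.R) : ∃ (a : Fin 4) (b : Fin 2), r = d.i ^ a.val * d.j ^ b.val := by
  obtain ⟨φ, -, -, e2, e3, -, -, e⟩ := h.model
  obtain ⟨k, hk, rfl⟩ := (e _).1 hr
  obtain ⟨a, b, rfl⟩ := (by decide +kernel : ∀ k : SL23, k ^ 4 = 1 → ∃ (a : Fin 4) (b : Fin 2),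
    k = sI ^ a.val * sJ ^ b.val) k hk
  exact ⟨a, b, by rw [map_mul, map_pow, map_pow, e2, e3]⟩

theorem R_four (hr : r ∈ d.R) : r ^ 2 ^ 2 = 1 := by
  obtain ⟨φ, -, -, -, -, -, -, e⟩ := h.model
  obtain ⟨k, hk, rfl⟩ := (e _).1 hr
  rw [← map_pow, show k ^ 2 ^ 2 = 1 from hk, map_one]

theorem R_two : IsPGroup 2 d.R := isPGroup_iff_forall.2 fun _ hr => ⟨2, h.R_four hr⟩

theorem R_eq_one (hr : r ∈ d.R) {k : ℕ} (h3 : r ^ 3 ^ k = 1) : r = 1 :=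
  orderOf_eq_one_iff.1 (Nat.eq_one_of_dvd_coprimes (Nat.Coprime.pow 2 k (by decide))
    (orderOf_dvd_of_pow_eq_one (h.R_four hr)) (orderOf_dvd_of_pow_eq_one h3))

theorem R_sq (hr : r ∈ d.R) : r ∈ zpowers d.t ∨ r * r = d.t := by
  obtain ⟨φ, -, -, -, -, e4, e5, e⟩ := h.model
  obtain ⟨k, hk, rfl⟩ := (e _).1 hr
  exact ((by decide +kernel : ∀ k : SL23, k ^ 4 = 1 → (k = 1 ∨ k = -1) ∨ k * k = -1) k hk).imp
    (e5 _).2 fun e => by rw [← map_mul, e, e4]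

theorem R_comm (hr : r ∈ d.R) (hs : s ∈ d.R) : r * s * r⁻¹ * s⁻¹ ∈ zpowers d.t := by
  obtain ⟨φ, -, -, -, -, -, e5, e⟩ := h.model
  obtain ⟨k, hk, rfl⟩ := (e _).1 hr
  obtain ⟨l, hl, rfl⟩ := (e _).1 hs
  simpa using (e5 _).2 ((by decide +kernel : ∀ k l : SL23, k ^ 4 = 1 → l ^ 4 = 1 →
    k * l * k⁻¹ * l⁻¹ = 1 ∨ k * l * k⁻¹ * l⁻¹ = -1) k l hk hl)

theorem R_nc (hr : r ∈ d.R) (h1 : r ∉ zpowers d.t) : ∃ s ∈ d.R, r * s ≠ s * r := by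
  obtain ⟨φ, hi, -, -, -, -, e5, e⟩ := h.model
  obtain ⟨k, hk, rfl⟩ := (e _).1 hr
  obtain ⟨l, hl, e'⟩ := ((by decide +kernel : ∀ k : SL23, k ^ 4 = 1 → (k = 1 ∨ k = -1) ∨
    ∃ l, l ^ 4 = 1 ∧ k * l ≠ l * k) k hk).resolve_left (mt (e5 _).2 h1)
  exact ⟨_, (e _).2 ⟨l, hl, rfl⟩, fun e'' => e' (hi (by simpa using e''))⟩

theorem R_t : d.R ≤ Ce d.t := (closure_le _).2 (by
  rintro _ (rfl | rfl)
  exacts [mem_Ce.2 (by rw [← h.ii, mul_assoc]), mem_Ce.2 (by rw [← h.jj, mul_assoc])])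

theorem v_Q (hx : dot x vz = 0) : d.v x ∈ d.Q := (h.memQ _).2 ⟨0, 0, x, hx, by simp⟩

theorem q1_Q : d.q1 ∈ d.Q := (h.memQ _).2 ⟨1, 0, 0, rfl, by simp [v_zero h.co]⟩

theorem q2_Q : d.q2 ∈ d.Q := (h.memQ _).2 ⟨0, 1, 0, rfl, by simp [v_zero h.co]⟩

theorem Q_three : IsPGroup 3 d.Q := isPGroup_iff_forall.2 fun g hg => ⟨1, h.expQ g hg⟩

theorem R_Ce (h1 : g ∈ d.Q) (h2 : g ∈ Ce d.t) : d.R ≤ Ce g := (closure_le _).2 (by
  rintro _ (rfl | rfl)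
  exacts [mem_Ce.2 (h.cR g ⟨h1, h2⟩).1.symm, mem_Ce.2 (h.cR g ⟨h1, h2⟩).2.symm])

theorem R_v (h1 : mT *ᵥ x = x) (h2 : dot x vz = 0) : d.R ≤ Ce (d.v x) :=
  h.R_Ce (h.v_Q h2) (h.v_t.2 h1)

theorem R_z : d.R ≤ Ce d.z := h.R_v (by decide +kernel) (by decide)

theorem R_y : d.R ≤ Ce (d.v vy) := h.R_v (by decide +kernel) (by decide)

/-- an element of `D` outside `⟨z, y⟩` acts on `R` as `b` or `b⁻¹` -/
theorem D_act (h1 : mT *ᵥ x = x) (h2 : dot x vz ≠ 0) : ∃ φ : SL23 →* G, Function.Injective φ ∧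
    (∀ k, φ k ∈ zpowers d.t ↔ k = 1 ∨ k = -1) ∧ (∀ g, g ∈ d.R ↔ ∃ k, k ^ 4 = 1 ∧ φ k = g) ∧
    ∃ n, (n = sB ∨ n = sB * sB) ∧ ∀ k, k ^ 4 = 1 → d.v x * φ k * (d.v x)⁻¹ = φ (n * k * n⁻¹) := by
  obtain ⟨φ, hi, e1, -, -, -, e5, e⟩ := h.model
  obtain ⟨a, a1, a2, a3⟩ := (by decide +kernel : ∀ x : V, mT *ᵥ x = x → dot x vz ≠ 0 → ∃ a : V,
    mT *ᵥ a = a ∧ dot a vz = 0 ∧ (x = vb + a ∨ x = vb + vb + a)) x h1 h2
  have key : ∀ k, k ^ 4 = 1 → ∀ n, n * d.v a * φ k * (n * d.v a)⁻¹ = n * φ k * n⁻¹ := fun k hk n => by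
    have := mem_Ce.1 (h.R_v a1 a2 ((e _).2 ⟨k, hk, rfl⟩))
    rw [mul_assoc n, ← this]; group
  refine ⟨φ, hi, e5, e, ?_⟩
  rcases a3 with rfl | rfl
  · exact ⟨_, .inl rfl, fun k hk => by rw [h.add, key k hk, ← e1]; simp⟩
  · exact ⟨_, .inr rfl, fun k hk => by rw [h.add, h.add, key k hk, ← e1]; simp⟩

theorem R_fpf (h1 : mT *ᵥ x = x) (h2 : dot x vz ≠ 0) (hr : r ∈ d.R)
    (h3 : d.v x * r * (d.v x)⁻¹ * r⁻¹ ∈ zpowers d.t) : r ∈ zpowers d.t := by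
  obtain ⟨φ, -, e5, e, n, hn, e'⟩ := h.D_act h1 h2
  obtain ⟨k, hk, rfl⟩ := (e _).1 hr
  rw [e' k hk, ← map_inv, ← map_mul, e5] at h3
  exact (e5 _).2 ((by decide +kernel : ∀ n : SL23, n = sB ∨ n = sB * sB → ∀ k : SL23, k ^ 4 = 1 →
    n * k * n⁻¹ * k⁻¹ = 1 ∨ n * k * n⁻¹ * k⁻¹ = -1 → k = 1 ∨ k = -1) n hn k hk h3)

theorem R_irr (h1 : mT *ᵥ x = x) (h2 : dot x vz ≠ 0) (hn : d.v x ∈ Nr L) (hr : r ∈ d.R)
    (hL : r ∈ L) (h3 : r ∉ zpowers d.t) : d.R ≤ L := fun s hs => by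
  obtain ⟨φ, -, e5, e, n, hn', e'⟩ := h.D_act h1 h2
  obtain ⟨k, hk, rfl⟩ := (e _).1 hr
  obtain ⟨l, hl, rfl⟩ := (e _).1 hs
  obtain ⟨a, b, rfl⟩ := (by decide +kernel : ∀ n : SL23, n = sB ∨ n = sB * sB → ∀ k : SL23,
    k ^ 4 = 1 → ¬ (k = 1 ∨ k = -1) → ∀ l : SL23, l ^ 4 = 1 → ∃ (a : Fin 4) (b : Fin 2),
      l = k ^ a.val * (n * k * n⁻¹) ^ b.val) n hn' k hk (mt (e5 _).2 h3) l hl
  rw [map_mul, map_pow, map_pow, ← e' k hk]
  exact mul_mem (pow_mem hL _) (pow_mem (conj_mem_of_mem_normalizer hn hL) _)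

theorem mem_J (hg : Acts d.v g 1) : g ∈ d.J := H26.MC.mem_J h.co h.cJ hg

variable [Finite G]

theorem v_nrR (h1 : mT *ᵥ x = x) : d.v x ∈ Nr d.R :=
  h.nR ⟨Ce_le_nr (J_le_Ce h.co _ (v_mem h.co _)), h.v_t.2 h1⟩

theorem t_nr : d.t ∈ Nr d.J := acts_nr h.co h.aT

theorem zt_nr : zpowers d.t ≤ Nr d.J := zpowers_le.2 h.t_nr

/-- an element of `R` outside `⟨t⟩` moves only elements of `⟨z, y⟩` into `J` -/
theorem RJ (hr : r ∈ d.R) (e : r * d.v x * r⁻¹ = d.v x') :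
    r ∈ zpowers d.t ∨ (mT *ᵥ x = x ∧ dot x vz = 0) := by
  refine (h.R_sq hr).elim .inl fun h1 => ?_
  have h2 : r * d.v (mT *ᵥ x) * r⁻¹ = d.v (mT *ᵥ x') := by
    rw [← h.aT, ← h.aT, ← e]
    calc _ = r * d.t * d.v x * (r * d.t)⁻¹ := by group
      _ = _ := by rw [mem_Ce.1 (h.R_t hr)]; group
  have h3 : r * d.v (x - mT *ᵥ x) * r⁻¹ = d.v (x' - mT *ᵥ x') := by
    rw [v_sub h.co, v_sub h.co, ← e, ← h2]; group
  have h4 : mT *ᵥ x = x := by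
    by_contra e'
    have h5 : x' - mT *ᵥ x' ≠ 0 := fun e'' => by
      rw [e'', v_zero h.co, mul_inv_eq_one, mul_eq_left, v_eq_one h.co, sub_eq_zero] at h3
      exact e' h3.symm
    obtain ⟨h6, h7⟩ := (by decide +kernel : ∀ x x' : V, mT *ᵥ x ≠ x → x' - mT *ᵥ x' ≠ 0 →
      (x' - mT *ᵥ x' = x - mT *ᵥ x ∨ x' - mT *ᵥ x' = -(x - mT *ᵥ x)) ∧
        mT *ᵥ (x - mT *ᵥ x) ≠ x - mT *ᵥ x) x x' e' h5
    refine h7 (h.inj ((h.aT _).symm.trans ?_))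
    calc _ = r * (r * d.v (x - mT *ᵥ x) * r⁻¹) * r⁻¹ := by rw [← h1]; group
      _ = _ := by
        rcases h6 with h6 | h6 <;> rw [h6] at h3
        · rw [h3, h3]
        · rw [h3, v_neg h.co, ← conj_inv, h3, v_neg h.co, inv_inv]
  by_cases h5 : dot x vz = 0
  · exact .inr ⟨h4, h5⟩
  refine .inl (h.R_fpf h4 h5 hr ?_)
  rw [h.R_eq_one (k := 1) (mul_mem (conj_mem_of_mem_normalizer (h.v_nrR h4) hr) (inv_mem hr))
    (J_cube h.co ?_)]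
  · exact one_mem _
  · rw [show d.v x * r * (d.v x)⁻¹ * r⁻¹ = d.v x * (r * d.v x * r⁻¹)⁻¹ by group, e]
    exact mul_mem (v_mem h.co _) (inv_mem (v_mem h.co _))

theorem R_inf (hr : r ∈ d.R) (hn : r ∈ Nr d.J) : r ∈ zpowers d.t := by
  obtain ⟨x, e⟩ := (h.mem _).1 (conj_mem_of_mem_normalizer hn (v_mem h.co vu))
  exact (h.RJ hr e.symm).resolve_right (by decide +kernel)

/-- fusion of elements of `J` -/
theorem fus (e : g * d.v x * g⁻¹ ∈ d.J) : ∃ n ∈ Nr d.J, n⁻¹ * g ∈ Ce (d.v x) := by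
  obtain ⟨n, hn, h1⟩ := wc2 h.co h.wc (g := g) (zpowers_le.2 (v_mem h.co x)) (by
    rw [H98.cj, MonoidHom.map_zpowers]; exact zpowers_le.2 e)
  exact ⟨n, hn, mem_Ce.2 (h1 _ (mem_zpowers _)).symm⟩

/-- fusion of pairs of elements of `J` -/
theorem fus2 (e : g * d.v x * g⁻¹ ∈ d.J) (e' : g * d.v x' * g⁻¹ ∈ d.J) :
    ∃ n ∈ Nr d.J, n⁻¹ * g ∈ Ce (d.v x) ⊓ Ce (d.v x') := by
  obtain ⟨n, hn, h1⟩ := wc2 h.co h.wc (g := g) (A := zpowers (d.v x) ⊔ zpowers (d.v x'))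
    (sup_le (zpowers_le.2 (v_mem h.co x)) (zpowers_le.2 (v_mem h.co x'))) (by
    rw [cj_sup, H98.cj, H98.cj, MonoidHom.map_zpowers, MonoidHom.map_zpowers]
    exact sup_le (zpowers_le.2 e) (zpowers_le.2 e'))
  exact ⟨n, hn, mem_Ce.2 (h1 _ (mem_sup_left (mem_zpowers _))).symm,
    mem_Ce.2 (h1 _ (mem_sup_right (mem_zpowers _))).symm⟩

omit [Finite G] in
/-- a `J`-invariant `3'`-subgroup of `N(J)` is trivial -/
theorem eq_bot {K : Subgroup G} (h3 : (Nat.card K).Coprime 3) (hn : d.J ≤ nr K)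
    (h1 : K ≤ Nr d.J) : K = ⊥ := by
  have h2 : ∀ x ∈ K, x ∈ d.J → x = 1 := fun x hx hx' => by
    by_contra e
    exact not_dvd_of_mem h3 hx (orderOf_eq_prime (J_cube h.co hx') e).symm.dvd
  refine eq_bot_iff.2 fun x hx => h2 x hx (h.cJ fun j hj => ?_)
  rw [← commutatorElement_eq_one_iff_mul_comm]
  refine h2 _ (K.mul_mem (conj_mem_of_mem_normalizer (hn hj) hx) (K.inv_mem hx)) ?_
  simpa [commutatorElement_def, mul_assoc] using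
    d.J.mul_mem hj (conj_mem_of_mem_normalizer (h1 hx) (d.J.inv_mem hj))

theorem Q_nr : d.Q ≤ Nr d.J := fun g hg => by
  obtain ⟨α, β, x, -, rfl⟩ := (h.memQ g).1 hg
  exact mul_mem (mul_mem (pow_mem (acts_nr h.co h.a1) _) (pow_mem (acts_nr h.co h.a2) _))
    (le_normalizer (v_mem h.co x))

theorem mem_S : g ∈ d.J ⊔ d.Q ↔
    ∃ (α β : Fin 3) (x : V), g = d.q1 ^ α.val * d.q2 ^ β.val * d.v x := by
  rw [sup_comm, mem_sup_left_norm h.Q_nr]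
  constructor
  · rintro ⟨a, ha, j, hj, rfl⟩
    obtain ⟨α, β, x, -, rfl⟩ := (h.memQ a).1 ha
    obtain ⟨y, rfl⟩ := (h.mem j).1 hj
    exact ⟨α, β, x + y, by rw [h.add, mul_assoc]⟩
  · rintro ⟨α, β, x, rfl⟩
    exact ⟨_, mul_mem (pow_mem h.q1_Q _) (pow_mem h.q2_Q _), _, v_mem h.co x, rfl⟩

theorem S_nr : d.J ⊔ d.Q ≤ Nr d.J := sup_le le_normalizer h.Q_nr

theorem S_z : d.J ⊔ d.Q ≤ Ce d.z := fun g hg => by
  obtain ⟨α, β, x, rfl⟩ := h.mem_S.1 hg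
  exact mul_mem (mul_mem (pow_mem ((acts_mem_Ce h.co h.a1).2 (by decide +kernel)) _)
    (pow_mem ((acts_mem_Ce h.co h.a2).2 (by decide +kernel)) _)) (J_le_Ce h.co _ (v_mem h.co x))

end Base

namespace NZ2

variable [Finite G] {d : Dat0 G} (h : NZ2 d) {g k : G} {M N : Mat} {x x' : V}
include h

theorem iso (hg : Acts d.v g M) : Iso M := by
  obtain ⟨N, h1, h2⟩ := h.act g (acts_nr h.co hg)
  exact acts_unique h.co h1 hg ▸ h2

theorem inv (hg : Acts d.v g M) : Acts d.v g⁻¹ Mᵀ := acts_inv hg (h.iso hg).mul_tr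

theorem fusM (e : g * d.v x * g⁻¹ = d.v x') :
    ∃ n M, Acts d.v n M ∧ Iso M ∧ M *ᵥ x = x' ∧ n⁻¹ * g ∈ Ce (d.v x) := by
  obtain ⟨n, hn, h1⟩ := h.fus (e ▸ v_mem h.co x')
  obtain ⟨M, h2, h3⟩ := h.act n hn
  refine ⟨n, M, h2, h3, h.inj ?_, h1⟩
  rw [← h2, ← e]
  nth_rw 1 [← mem_Ce'.1 h1]
  group

theorem cls (e : IsConj (d.v x) (d.v x')) : nrm x = nrm x' := by
  obtain ⟨g, e⟩ := isConj_iff.1 e
  obtain ⟨-, M, -, h1, rfl, -⟩ := h.fusM e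
  exact (h1.nrm x).symm

theorem orb (h0 : x ≠ 0) (hx : nrm x = 0) : ∃ n M, Acts d.v n M ∧ Iso M ∧ M *ᵥ vz = x := by
  obtain ⟨g, e⟩ := isConj_iff.1 ((h.sing x).2 ⟨h0, hx⟩)
  obtain ⟨n, M, h1, h2, h3, -⟩ := h.fusM e
  exact ⟨n, M, h1, h2, h3⟩

theorem y3z (hx : nrm x = 2) (h1 : g ∈ Nz d.z) (h2 : g ∈ Ce (d.v x)) : g ∈ Nr d.J := by
  obtain ⟨r, hr, hn⟩ := h.frat g h1
  obtain ⟨M, h3, h4⟩ := h.act _ hn
  have e : r * d.v (M *ᵥ x) * r⁻¹ = d.v x := by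
    rw [← h3]
    calc _ = g * d.v x * g⁻¹ := by group
      _ = _ := mem_Ce'.1 h2
  rcases h.RJ hr e with h5 | h5
  · simpa using mul_mem (h.zt_nr h5) hn
  · exact absurd ((h4.nrm x).trans hx) ((by decide +kernel : ∀ x : V,
      mT *ᵥ x = x ∧ dot x vz = 0 → nrm x ≠ 2) _ h5)

theorem y3 (h0 : x ≠ 0) (hx : nrm x = 0) (hx' : nrm x' = 2) :
    Ce (d.v x) ⊓ Ce (d.v x') ≤ Nr d.J := fun g hg => by
  obtain ⟨n, M, h1, h2, rfl⟩ := h.orb h0 hx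
  have h3 := h.y3z (g := n⁻¹ * g * n⁻¹⁻¹) ((h2.tr.nrm x').trans hx') (Ce_le_nr (by
    have := conj_mem_Ce hg.1 n⁻¹
    rwa [← h1, show n⁻¹ * (n * d.v vz * n⁻¹) * n⁻¹⁻¹ = d.v vz by group] at this))
    (h.inv h1 x' ▸ conj_mem_Ce hg.2 n⁻¹)
  have h4 := acts_nr h.co h1
  simpa [mul_assoc] using mul_mem (mul_mem h4 h3) (inv_mem h4)

/-- an element mapping a singular vector and a vector of norm two into `J` normalises `J` -/
theorem se (h0 : x ≠ 0) (hx : nrm x = 0) (hx' : nrm x' = 2) (e : g * d.v x * g⁻¹ ∈ d.J)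
    (e' : g * d.v x' * g⁻¹ ∈ d.J) : g ∈ Nr d.J := by
  obtain ⟨n, hn, h1⟩ := h.fus2 e e'
  simpa using mul_mem hn (h.y3 h0 hx hx' h1)

theorem sig {K : Subgroup G} (h3 : (Nat.card K).Coprime 3) (hn : d.J ≤ nr K) : K = ⊥ := by
  have key : ∀ K : Subgroup G, (Nat.card K).Coprime 3 → d.J ≤ nr K → K ⊓ Ce d.z ≤ Nr d.J :=
    fun K h3 hn g hg => by
    refine h.y3z (x := vu) (by decide) (Ce_le_nr hg.2) (mem_Ce'.2 ?_)
    have h1 : d.v vu * g * (d.v vu)⁻¹ * g⁻¹ = 1 := by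
      by_contra e
      refine not_dvd_of_mem h3 (mul_mem (conj_mem_of_mem_normalizer (hn (v_mem h.co vu)) hg.1)
        (inv_mem hg.1)) (orderOf_eq_prime (h.expQ _ ?_) e).symm.dvd
      simpa [mul_assoc] using mul_mem (h.v_Q (x := vu) (by decide)) (conj_mem_of_mem_normalizer
        (h.nQ (Ce_le_nr hg.2)) (inv_mem (h.v_Q (x := vu) (by decide))))
    rw [← one_mul (g * _ * _), ← h1]; group
  have k2 : ∀ x, x ≠ 0 → nrm x = 0 → K ⊓ Ce (d.v x) ≤ Nr d.J := fun x h0 hx => by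
    obtain ⟨n, M, h1, h2, rfl⟩ := h.orb h0 hx
    have h4 := acts_nr h.co h1
    have := cj_mono n (key (H98.cj n⁻¹ K) (by rwa [card_cj]) (by
      rw [nr, ← cj_normalizer, ← cj_eq_self (inv_mem h4)]; exact cj_mono _ hn))
    rwa [cj_inf, cj_cj_inv, cj_Ce, h1, cj_eq_self_of_mem h4] at this
  exact h.eq_bot h3 hn (gen4 h.co (x := vz) (y := vy + vu) (by decide) (by decide) (by decide)
    (by decide) h3 (hn (v_mem h.co _)) (hn (v_mem h.co _)) (k2 _ (by decide) (by decide))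
    (k2 _ (by decide) (by decide)) (k2 _ (by decide) (by decide)) (k2 _ (by decide) (by decide)))

end NZ2

section Hat

variable {d : Dat G} {a b : G} {M N : Mat}

theorem Hat.mul (ha : Hat d a M) (hb : Hat d b N) : Hat d (a * b) (M * N) :=
  ⟨acts_mul ha.1 hb.1, by rw [mul_assoc, hb.2, ← mul_assoc, ha.2, mul_assoc]⟩

theorem Hat.one : Hat d 1 1 := ⟨acts_one, by simp⟩

theorem Hat.pow (ha : Hat d a M) (n : ℕ) : Hat d (a ^ n) (M ^ n) :=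
  ⟨acts_pow ha.1 n, (Commute.pow_left ha.2 n).eq⟩

theorem Hat.inv (ha : Hat d a M) (e : M * N = 1) : Hat d a⁻¹ N :=
  ⟨acts_inv ha.1 e, (Commute.inv_left ha.2).eq⟩

theorem Hat.cast (ha : Hat d a M) (e : M = N) : Hat d a N := e ▸ ha

end Hat

namespace Loc

variable {d : Dat G} (h : Loc d) {a b c g r : G} {M N : Mat} {x x' : V}
include h

theorem hι : Hat d d.ι (-1) := ⟨h.aι, rfl⟩

theorem v_ι (e : d.v x * d.ι = d.ι * d.v x) : x = 0 :=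
  (by decide +kernel : ∀ x : V, (-1 : Mat) *ᵥ x = x → x = 0) x
    ((acts_mem_Ce h.co h.aι).1 (mem_Ce.2 e.symm))

theorem uniq (ha : Hat d a M) (hb : Hat d b N) (e : M = N) : a = b := by
  subst e
  obtain ⟨x, rfl⟩ := exists_eq_mul h.co h.cJ ha.1 hb.1
  have := ha.2
  rw [mul_assoc, hb.2, ← mul_assoc, ← mul_assoc, mul_left_inj] at this
  rw [h.v_ι this, v_zero h.co, one_mul]

theorem comm (ha : Hat d a M) (hb : Hat d b N) (e : M * N = N * M) : a * b = b * a :=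
  h.uniq (ha.mul hb) (hb.mul ha) e

theorem eq_one (ha : Hat d a M) (e : M = 1) : a = 1 := h.uniq ha Hat.one e

theorem sq (ha : Hat d a M) (e : M * M = 1) : a * a = 1 := h.eq_one (ha.mul ha) e

/-- `a b a⁻¹ = c` from `M N = P M` -/
theorem conj {P : Mat} (ha : Hat d a M) (hb : Hat d b N) (hc : Hat d c P) (e : M * N = P * M) :
    a * b * a⁻¹ = c := mul_inv_eq_iff_eq_mul.2 (h.uniq (ha.mul hb) (hc.mul ha) e)

theorem hat (hg : Acts d.v g M) : ∃ x k, Hat d k M ∧ g = d.v x * k := by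
  obtain ⟨w, e⟩ := exists_eq_mul h.co h.cJ (g := g * d.ι * g⁻¹) (fun x => by
    obtain ⟨y, hy⟩ := (h.mem _).1 (show g⁻¹ * d.v x * g ∈ d.J from by
      have hi : Function.Injective (M *ᵥ ·) := fun a b e => h.inj (by
        have := (hg a).trans ((congrArg d.v e).trans (hg b).symm)
        simpa using this)
      obtain ⟨y, rfl⟩ := Finite.surjective_of_injective hi x
      rw [← hg y]
      simpa [mul_assoc] using v_mem h.co y)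
    calc _ = g * (d.ι * (g⁻¹ * d.v x * g) * d.ι⁻¹) * g⁻¹ := by group
      _ = _ := by
        rw [← hy, h.aι, Matrix.neg_mulVec, Matrix.neg_mulVec, Matrix.one_mulVec, Matrix.one_mulVec,
          v_neg h.co, v_neg h.co, hy]
        group) h.aι
  refine ⟨-w, d.v w * g, ⟨by simpa using acts_mul (acts_J h.co (v_mem h.co w)) hg, ?_⟩, by
    rw [v_neg h.co, inv_mul_cancel_left]⟩
  rw [mul_assoc, mul_inv_eq_iff_eq_mul.1 e, ← mul_assoc, ← mul_assoc, ← mul_assoc,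
    acts_comm h.aι, ← h.add]
  congr 3
  exact (by decide +kernel : ∀ w : V, w + w = (-1 : Mat) *ᵥ w) w

/-- uniqueness of the decomposition `v x * a` -/
theorem dec (ha : Hat d a M) (hb : Hat d b N) (e : d.v x * a = d.v x' * b) :
    x = x' ∧ a = b ∧ M = N := by
  have h1 : M = N := acts_unique h.co
    (by simpa using acts_mul (acts_J h.co (v_mem h.co x)) ha.1 : Acts d.v (d.v x * a) M)
    (by simpa [e] using acts_mul (acts_J h.co (v_mem h.co x')) hb.1)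
  have h2 := h.uniq ha hb h1
  exact ⟨h.inj (by simpa [h2] using e), h2, h1⟩

theorem tq1 : d.t * d.q1 = d.q1 * d.t := h.comm h.ht h.h1 (by decide +kernel)

theorem tq2 : d.t * d.q2 * d.t⁻¹ = d.q2⁻¹ :=
  h.conj h.ht h.h2 (h.h2.inv (N := mQ2 * mQ2) (by decide +kernel)) (by decide +kernel)

theorem qq : d.q1 * d.q2 = d.q2 * d.q1 := h.comm h.h1 h.h2 (by decide +kernel)

theorem q1_cube : d.q1 ^ 3 = 1 := h.expQ _ h.q1_Q

theorem q2_cube : d.q2 ^ 3 = 1 := h.expQ _ h.q2_Q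

theorem ττ (k : Fin 3) : d.τ k * d.τ k = 1 := h.sq (h.hτ k) (by revert k; decide +kernel)

theorem τ_inv (k : Fin 3) : (d.τ k)⁻¹ = d.τ k := inv_eq_of_mul_eq_one_right (h.ττ k)

theorem τ_t (k : Fin 3) : d.τ k ∈ Ce d.t :=
  mem_Ce.2 (h.comm (h.hτ k) h.ht (by revert k; decide +kernel))

theorem τ_τ (k l : Fin 3) : d.τ k * d.τ l = d.τ l * d.τ k :=
  h.comm (h.hτ k) (h.hτ l) (by revert k l; decide +kernel)

theorem q1_τ (k : Fin 3) : d.q1 * d.τ k * d.q1⁻¹ = d.τ (k + 1) :=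
  h.conj h.h1 (h.hτ k) (h.hτ _) (by revert k; decide +kernel)

theorem ι_eq : d.ι = d.t * d.τ 0 * (d.τ 1 * d.τ 2) :=
  h.uniq h.hι ((h.ht.mul (h.hτ 0)).mul ((h.hτ 1).mul (h.hτ 2))) (by decide +kernel)

theorem q1_t : d.q1 ∈ Ce d.t := mem_Ce.2 h.tq1.symm

theorem R_q1 : d.R ≤ Ce d.q1 := h.R_Ce h.q1_Q h.q1_t

theorem hat_t (ha : Hat d a M) : a ∈ Ce d.t ↔ M * mT = mT * M :=
  ⟨fun e => acts_unique h.co (acts_mul ha.1 h.aT) (mem_Ce.1 e ▸ acts_mul h.aT ha.1),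
    fun e => mem_Ce.2 (h.comm ha h.ht e)⟩

theorem mem_D : g ∈ d.D ↔ ∃ x, mT *ᵥ x = x ∧ d.v x = g :=
  ⟨fun hg => let ⟨x, e⟩ := (h.mem g).1 hg.1; ⟨x, h.v_t.1 (e ▸ hg.2), e⟩,
    fun ⟨x, h1, e⟩ => e ▸ ⟨v_mem h.co x, h.v_t.2 h1⟩⟩

theorem v_D (hx : mT *ᵥ x = x) : d.v x ∈ d.D := h.mem_D.2 ⟨x, hx, rfl⟩

theorem u_D (k : Fin 3) : d.v (uu k) ∈ d.D := h.v_D (by revert k; decide +kernel)

theorem D_cn : d.D ≤ cn d.D :=
  inf_le_left.trans ((J_le_cn h.co).trans (centralizer_anti inf_le_left))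

theorem D_three : IsPGroup 3 d.D := (J_three h.co).to_le inf_le_left

omit h in
theorem D_B : d.D ≤ d.B := inf_le_inf_right _ le_normalizer

/-- the elements of `Q` inverted by `t` -/
theorem mem_I (ha : a ∈ d.Q) (e : d.t * a * d.t⁻¹ = a⁻¹) : ∃ (β : Fin 3) (x : V),
    x 3 = 0 ∧ dot x vz = 0 ∧ mT *ᵥ x = -(mQ2 ^ β.val *ᵥ x) ∧ a = d.q2 ^ β.val * d.v x := by
  obtain ⟨α, β, x, hx, rfl⟩ := (h.memQ a).1 ha
  have h1 := (h.h1.pow α).mul (h.h2.pow β)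
  obtain ⟨h2, -, h3⟩ := h.dec (((h.ht.mul h1).mul h.ht).mul h1) Hat.one (x' := 0)
    (x := (mT * (mQ1 ^ α.val * mQ2 ^ β.val)) *ᵥ x +
      (mT * (mQ1 ^ α.val * mQ2 ^ β.val) * mT * (mQ1 ^ α.val * mQ2 ^ β.val)) *ᵥ x) (by
    rw [h.add, ← (h.ht.mul h1).1, ← (((h.ht.mul h1).mul h.ht).mul h1).1, v_zero h.co, one_mul,
      ← inv_mul_cancel (d.q1 ^ α.val * d.q2 ^ β.val * d.v x), ← e, h.t_inv]
    generalize d.q1 ^ α.val * d.q2 ^ β.val = H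
    calc _ = d.t * H * d.v x * H⁻¹ * d.t⁻¹ * d.t * H * d.t * H * d.v x := by group
      _ = _ := by group)
  obtain rfl : α = 0 := (by
    simp only [pow_Q1, pow_Q2, mul_eq]
    decide +kernel : ∀ α β : Fin 3, mT * (mQ1 ^ α.val * mQ2 ^ β.val) * mT *
      (mQ1 ^ α.val * mQ2 ^ β.val) = 1 → α = 0) α β h3
  rw [h3] at h2
  simp only [Fin.val_zero, pow_zero, one_mul] at h2 ⊢
  obtain ⟨h4, h5⟩ := (by decide +kernel : ∀ (β : Fin 3) (x : V),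
    (mT * mQ2 ^ β.val) *ᵥ x + (1 : Mat) *ᵥ x = 0 → x 3 = 0 ∧ mT *ᵥ x = -(mQ2 ^ β.val *ᵥ x)) β x h2
  exact ⟨β, x, h4, hx, h5, rfl⟩

theorem c_t (hc : Hat d c mC) : c ∈ Ce d.t := (h.hat_t hc).2 (by decide +kernel)

theorem cc (hc : Hat d c mC) : c * c = 1 := h.sq hc (by decide +kernel)

variable [Finite G]

theorem R_nrQ (hr : r ∈ d.R) : r ∈ Nr d.Q := h.nQ (Ce_le_nr (h.R_z hr))

/-- `R` permutes the elements of `Q` inverted by `t` -/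
theorem R_I (hr : r ∈ d.R) (ha : a ∈ d.Q) (e : d.t * a * d.t⁻¹ = a⁻¹) :
    r * a * r⁻¹ ∈ d.Q ∧ d.t * (r * a * r⁻¹) * d.t⁻¹ = (r * a * r⁻¹)⁻¹ :=
  ⟨conj_mem_of_mem_normalizer (h.R_nrQ hr) ha, by
    calc _ = d.t * r * a * (d.t * r)⁻¹ := by group
      _ = r * (d.t * a * d.t⁻¹) * r⁻¹ := by rw [← mem_Ce.1 (h.R_t hr)]; group
      _ = _ := by rw [e]; group⟩

omit [Finite G] in
theorem t_u : d.t * d.v vu * d.t⁻¹ = (d.v vu)⁻¹ := by
  rw [h.aT, ← v_neg h.co]; congr 1; decide +kernel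

theorem R_c (hc : Hat d c mC) : d.R ≤ Ce c := fun r hr => by
  have h1 : c ∈ Nr d.R := h.nR ⟨Ce_le_nr ((acts_mem_Ce h.co hc.1).2 (by decide +kernel)), h.c_t hc⟩
  have h2 := mul_mem (conj_mem_of_mem_normalizer h1 hr) (inv_mem hr)
  obtain ⟨h3, h4⟩ := h.R_I (inv_mem hr) (h.v_Q (x := vu) (by decide)) h.t_u
  obtain ⟨β, x, h5, -, -, h6⟩ := h.mem_I h3 h4
  have h7 : c ∈ Ce (r⁻¹ * d.v vu * r⁻¹⁻¹) := by
    rw [h6, mem_Ce]
    refine Commute.mul_right (Commute.pow_right (h.comm hc h.h2 (by decide +kernel)) _)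
      (mem_Ce.1 ((acts_mem_Ce h.co hc.1).2 ?_))
    exact (by decide +kernel : ∀ x : V, x 3 = 0 → mC *ᵥ x = x) x h5
  have h8 : c * r * c⁻¹ * r⁻¹ * d.v vu * (c * r * c⁻¹ * r⁻¹)⁻¹ = d.v vu := by
    calc _ = c * r * (c⁻¹ * (r⁻¹ * d.v vu * r⁻¹⁻¹) * c⁻¹⁻¹) * r⁻¹ * c⁻¹ := by group
      _ = c * d.v vu * c⁻¹ := by rw [mem_Ce'.1 (inv_mem h7)]; group
      _ = _ := mem_Ce'.1 ((acts_mem_Ce h.co hc.1).2 (by decide +kernel))
  rcases h.mem_zt.1 ((h.RJ h2 h8).resolve_right (by decide +kernel)) with e | e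
  · exact mem_Ce.2 (mul_inv_eq_iff_eq_mul.1 (mul_inv_eq_one.1 e)).symm
  · rw [e, h.aT, h.inj.eq_iff] at h8
    exact absurd h8 (by decide +kernel)

omit [Finite G] in
theorem hat_nr (hg : g ∈ Nr d.J) : ∃ x k M, Hat d k M ∧ Iso M ∧ g = d.v x * k := by
  obtain ⟨M, h1, h2⟩ := h.act g hg
  obtain ⟨x, k, h3, e⟩ := h.hat h1
  exact ⟨x, k, M, h3, h2, e⟩

theorem hat_B (ha : Hat d a M) (e : M * mT = mT * M) : a ∈ d.B :=
  ⟨acts_nr h.co ha.1, (h.hat_t ha).2 e⟩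

omit [Finite G] in
theorem mem_B (hg : g ∈ d.B) :
    ∃ x k M, mT *ᵥ x = x ∧ Hat d k M ∧ Iso M ∧ M * mT = mT * M ∧ g = d.v x * k := by
  obtain ⟨x, k, M, h1, h2, rfl⟩ := h.hat_nr hg.1
  obtain ⟨h3, -, h4⟩ := h.dec (h1.mul h.ht) (h.ht.mul h1) (x := x) (x' := mT *ᵥ x) (by
    rw [← mul_assoc, mem_Ce.1 hg.2, ← mul_assoc, acts_comm h.aT, mul_assoc])
  exact ⟨x, k, M, h3.symm, h1, h2, h4, rfl⟩

theorem t_B : d.t ∈ d.B := h.hat_B h.ht rfl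

theorem τ_B (k : Fin 3) : d.τ k ∈ d.B := ⟨acts_nr h.co (h.hτ k).1, h.τ_t k⟩

theorem q1_B : d.q1 ∈ d.B := ⟨acts_nr h.co h.a1, h.q1_t⟩

theorem ι_B : d.ι ∈ d.B := h.hat_B h.hι (by decide +kernel)

/-- rotations commuting with `t` -/
theorem rot_T (ha : Hat d a M) (h1 : Rot M) (h2 : M * mT = mT * M) :
    ∃ (e₀ e₁ e₂ e₃ : Fin 2) (f : Fin 3), (M, e₀, e₁, e₂, e₃, f) ∈ LT ∧
      a = d.t ^ e₀.val * d.τ 0 ^ e₁.val * d.τ 1 ^ e₂.val * d.τ 2 ^ e₃.val * d.q1 ^ f.val := by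
  obtain ⟨p, hp, rfl⟩ := stabT (h.iso ha.1) h1 (comm_T (h.iso ha.1) h2)
  exact ⟨_, _, _, _, _, hp, h.uniq ha (((((h.ht.pow _).mul ((h.hτ 0).pow _)).mul
    ((h.hτ 1).pow _)).mul ((h.hτ 2).pow _)).mul (h.h1.pow _)) (LT_eq p hp)⟩

/-- rotations fixing `± z` -/
theorem rot_Z (ha : Hat d a M) (h1 : Rot M) (h2 : M *ᵥ vz = vz ∨ M *ᵥ vz = -vz) :
    ∃ (α β : Fin 3) (e f : Fin 2), M = mZ α β e f ∧
      a = d.q1 ^ α.val * d.q2 ^ β.val * d.t ^ e.val * d.ι ^ f.val := by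
  obtain ⟨α, β, e, f, rfl⟩ := stabZ (h.iso ha.1) h1 h2
  exact ⟨_, _, _, _, rfl, h.uniq ha ((((h.h1.pow _).mul (h.h2.pow _)).mul (h.ht.pow _)).mul
    (h.hι.pow _)) (mZ_eq _ _ _ _)⟩

theorem nr_D : Nr d.D ≤ Nr d.J := wc1 h.co h.wc inf_le_left fun g hg =>
  h.y3 (x := vz) (x' := uu 0) (by decide) (by decide) (by decide)
    ⟨mem_Ce.2 (hg _ (h.v_D (by decide +kernel))).symm, mem_Ce.2 (hg _ (h.u_D 0)).symm⟩

omit h [Finite G] in
theorem B_nrD : d.B ≤ Nr d.D :=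
  le_normalizer_inf inf_le_left (inf_le_right.trans le_normalizer)

/-- an element of `N(J)` centralising `D` lies in `J ⟨t⟩` -/
theorem fix_D (hg : Acts d.v g M) (h1 : ∀ k, M *ᵥ uu k = uu k) : M = 1 ∨ M = mT := by
  have h2 := h.iso hg
  have h3 : M *ᵥ vu = vu ∨ M *ᵥ vu = -vu := (by decide +kernel : ∀ x : V, nrm x = nrm vu →
    (∀ k, dot x (uu k) = dot vu (uu k)) → x = vu ∨ x = -vu) _ (h2.nrm _)
    fun k => by rw [← h2.dot vu, h1]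
  have key : ∀ N : Mat, (∀ k, N *ᵥ uu k = uu k) → M *ᵥ vu = N *ᵥ vu → M = N := fun N a b =>
    Matrix.toLin'.injective (LinearMap.ext fun x => by
      obtain ⟨s, rfl⟩ := (by decide +kernel : ∀ x : V, ∃ s : V,
        x = s 0 • uu 0 + s 1 • uu 1 + s 2 • uu 2 + s 3 • vu) x
      simp only [Matrix.toLin'_apply, Matrix.mulVec_add, Matrix.mulVec_smul, h1, a, b])
  exact h3.imp (fun e => key 1 (fun _ => Matrix.one_mulVec _) (by rw [e, Matrix.one_mulVec]))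
    fun e => key mT (by decide +kernel) (by rw [e]; decide +kernel)

/-- `C(D) ∩ C(t) = D ⟨t⟩` -/
theorem cn_D (hg : g ∈ Ce d.t) (h1 : ∀ k, g ∈ Ce (d.v (uu k))) : g ∈ d.D ∨ g * d.t ∈ d.D := by
  obtain ⟨M, h2, -⟩ := h.act g (h.y3 (x := uu 0 + uu 1 + uu 2) (by decide) (by decide)
    (x' := uu 0) (by decide) ⟨by
      rw [h.add, h.add]
      exact mem_Ce.2 (Commute.mul_right (Commute.mul_right (mem_Ce.1 (h1 0)) (mem_Ce.1 (h1 1)))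
        (mem_Ce.1 (h1 2))), h1 0⟩)
  rcases h.fix_D h2 fun k => (acts_mem_Ce h.co h2).1 (h1 k) with rfl | rfl
  · exact .inl ⟨h.mem_J h2, hg⟩
  · exact .inr ⟨h.mem_J ((show mT * mT = 1 by decide +kernel) ▸ acts_mul h2 h.aT),
      mul_mem hg (mem_Ce.2 rfl)⟩

/-- `(∗)`: a `D`-invariant `3'`-subgroup of `C(t)` meets `N(J)` in `⟨t⟩` -/
theorem star {K : Subgroup G} (hK : K ≤ Ce d.t) (h3 : (Nat.card K).Coprime 3) (hn : d.D ≤ Nr K) :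
    K ⊓ Nr d.J ≤ zpowers d.t := fun g hg => by
  have h2 : ∀ x ∈ K, x ∈ d.J → x = 1 := fun x hx hx' => by
    by_contra e
    exact not_dvd_of_mem h3 hx (orderOf_eq_prime (J_cube h.co hx') e).symm.dvd
  have h4 : ∀ k, g ∈ Ce (d.v (uu k)) := fun k => mem_Ce.2 (by
    rw [eq_comm, ← commutatorElement_eq_one_iff_mul_comm]
    refine h2 _ (K.mul_mem (conj_mem_of_mem_normalizer (hn (h.u_D k)) hg.1) (K.inv_mem hg.1)) ?_
    simpa [commutatorElement_def, mul_assoc] using d.J.mul_mem (v_mem h.co (uu k))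
      (conj_mem_of_mem_normalizer hg.2 (d.J.inv_mem (v_mem h.co (uu k)))))
  rcases h.cn_D (hK hg.1) h4 with e | e
  · rw [h2 g hg.1 e.1]; exact one_mem _
  · refine mem_of_cube (not_dvd_of_mem h3 hg.1) ?_
    have := J_cube h.co e.1
    rw [(show Commute g d.t from mem_Ce.1 (hK hg.1)).mul_pow, mul_eq_one_iff_eq_inv] at this
    rw [this]
    exact inv_mem (pow_mem (mem_zpowers _) _)

/-- `D` is a Sylow subgroup of `X ≤ C(t)` if it contains the `3`-elements of `X ∩ N(J)` -/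
theorem isSyl_D {X : Subgroup G} (h1 : d.D ≤ X)
    (h2 : ∀ g ∈ X ⊓ Nr d.J, (∃ k, g ^ 3 ^ k = 1) → g ∈ d.D) : IsSyl 3 d.D X :=
  isSyl_of_isSyl_normalizer ⟨le_inf h1 le_normalizer, h.D_three, fun _ hQ a b =>
    le_antisymm (fun x hx => h2 x ⟨(b hx).1, h.nr_D (b hx).2⟩ (isPGroup_iff_forall.1 hQ x hx)) a⟩

end Loc

theorem jobX : JobX.{u} := fun _ _ _ d h =>
  { hat := fun _ _ => h.hat
    uniq := fun _ _ _ a b => h.uniq a b rfl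
    dich := or_iff_not_imp_left.2 fun e => by
      simp only [One, not_forall] at e
      obtain ⟨g, M, h1, h2⟩ := e
      have h3 := (h.iso h1).mul iso_C
      obtain ⟨k, hk⟩ := h.exR _ h3 ((h.iso h1).rot_or.resolve_left h2)
      obtain ⟨-, c, hc, -⟩ := h.hat (acts_mul (h.inv hk.1) h1)
      refine ⟨c, hc.cast ?_⟩
      rw [Matrix.transpose_mul, mul_assoc, show Mᵀ * M = 1 from h.iso h1, mul_one]
      decide +kernel
    memS := fun _ => h.mem_S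
    memD := fun _ => h.mem_D
    cls := fun _ _ => h.cls
    y3 := fun _ _ => h.y3
    sig := fun K a b => h.sig a fun j hj => mem_normalizer_of_cj_le (by
      rintro _ ⟨k, hk, rfl⟩; exact b j hj k hk)
    nD := h.nr_D
    cardR := h.card_R
    memR := fun _ => h.mem_R
    cR2 := fun _ => h.R_c }

end H47.O8
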