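import Cfsg.Agent.H47.O8K

/-! `JobXR` and `JobSG` of `H47.O8Sp` (blueprint `LOCAL3C.md`, §5.8). -/

set_option autoImplicit false
set_option maxRecDepth 100000
set_option synthInstance.maxSize 2048
open Cfsg Subgroup H14 H98 H56.L3 H42.L3 H47.MC H42.MC H26.MC
open scoped Matrix commutatorElement

namespace H47.O8

universe u

variable {G : Type*} [Group G]

theorem card_sup_inf [Finite G] {A B : Subgroup G} (h : A ≤ nr B) :
    Nat.card ↥(A ⊔ B) * Nat.card ↥(A ⊓ B) = Nat.card A * Nat.card B := by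
  have h1 : B.relIndex (A ⊔ B) = B.relIndex A := by
    have : (B.subgroupOf (A ⊔ B)).Normal :=
      (normal_subgroupOf_iff_le_normalizer le_sup_right).2 (sup_le h le_normalizer)
    have := relIndex_sup_right (A.subgroupOf (A ⊔ B)) (B.subgroupOf (A ⊔ B))
    rwa [← subgroupOf_sup le_sup_left le_sup_right, relIndex_subgroupOf le_rfl,
      relIndex_subgroupOf le_sup_left] at this
  rw [← relIndex_mul_card (le_sup_right : B ≤ A ⊔ B), ← relIndex_mul_card (inf_le_left : A ⊓ B ≤ A),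
    h1, inf_relIndex_left]
  ring

theorem coprime_sup [Finite G] {A B : Subgroup G} {n : ℕ} (h : A ≤ nr B)
    (h1 : (Nat.card A).Coprime n) (h2 : (Nat.card B).Coprime n) :
    (Nat.card ↥(A ⊔ B)).Coprime n :=
  (Nat.Coprime.mul_left h1 h2).coprime_dvd_left ⟨_, (card_sup_inf h).symm⟩

theorem zt_conj [Finite G] {s t x : G} (hs : s ∈ Ce t) : s * x * s⁻¹ ∈ zpowers t ↔ x ∈ zpowers t :=
  (mem_normalizer_iff.1 (Ce_le_nr hs) x).symm

theorem Ce_inv (x : G) : Ce x⁻¹ = Ce x := by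
  ext g; rw [mem_Ce', mem_Ce', ← conj_inv, inv_inj]

/-- the matrices of the elements carrying `R` to `R_k` -/
def mS : Fin 4 → Mat := ![1, mR 0, mR 1, mR 2]

/-- the elements carrying `R` to `R_k` -/
def Dat.σ (d : Dat G) : Fin 4 → G := ![1, d.τ 0, d.τ 1, d.τ 2]

theorem RR_eq (d : Dat G) (k : Fin 4) : d.RR k = H98.cj (d.σ k) d.R := by
  fin_cases k
  exacts [(cj_one _).symm, rfl, rfl, rfl]

theorem mS_z : ∀ k, mS k *ᵥ vz = zz k := by decide +kernel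

theorem mS_facts : ∀ k, mS k * mS k = 1 ∧ Iso (mS k) ∧ mS k * mT = mT * mS k := by decide +kernel

namespace Loc

variable {d : Dat G} (h : Loc d) {g r s : G} {M : Mat} {x : V} {k l : Fin 4}
include h

theorem hσ (k : Fin 4) : Hat d (d.σ k) (mS k) := by
  fin_cases k
  exacts [Hat.one, h.hτ 0, h.hτ 1, h.hτ 2]

theorem σ_inv (k : Fin 4) : (d.σ k)⁻¹ = d.σ k :=
  inv_eq_of_mul_eq_one_right (h.sq (h.hσ k) (mS_facts k).1)

theorem σ_t (k : Fin 4) : d.σ k ∈ Ce d.t := (h.hat_t (h.hσ k)).2 (mS_facts k).2.2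

theorem σ_z (k : Fin 4) : d.σ k * d.z * (d.σ k)⁻¹ = d.v (zz k) := mS_z k ▸ (h.hσ k).1 vz

/-- transport of a vector of `D` -/
theorem σ_v (k : Fin 4) (hx : mT *ᵥ x = x) : ∃ y, mT *ᵥ y = y ∧ dot y vz = dot x (zz k) ∧
    d.v x = d.σ k * d.v y * (d.σ k)⁻¹ := by
  obtain ⟨h1, h2, h3⟩ := mS_facts k
  have h4 : mS k *ᵥ mS k *ᵥ x = x := by rw [Matrix.mulVec_mulVec, h1, Matrix.one_mulVec]
  refine ⟨mS k *ᵥ x, by rw [Matrix.mulVec_mulVec, ← h3, ← Matrix.mulVec_mulVec, hx], ?_,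
    by rw [(h.hσ k).1, h4]⟩
  rw [← h2.dot, h4, mS_z]

variable [Finite G]

theorem σ_B (k : Fin 4) : d.σ k ∈ d.B := ⟨acts_nr h.co (h.hσ k).1, h.σ_t k⟩

theorem σ_Nz (hg : g ∈ Ce d.t) (e : g * d.v (zz k) * g⁻¹ ∈ zpowers (d.v (zz l))) :
    (d.σ l)⁻¹ * g * d.σ k ∈ Nz d.z ⊓ Ce d.t := by
  refine mem_inf.2 ⟨mem_Nz.2 ?_, mul_mem (mul_mem (inv_mem (h.σ_t l)) hg) (h.σ_t k)⟩
  rw [← h.σ_z k, ← h.σ_z l, ← MulAut.conj_apply (d.σ l), ← MulEquiv.coe_toMonoidHom,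
    ← MonoidHom.map_zpowers] at e
  simpa [mul_assoc] using mem_cj.1 e

theorem cj_RR (hg : g ∈ Ce d.t) (e : g * d.v (zz k) * g⁻¹ ∈ zpowers (d.v (zz l))) :
    H98.cj g (d.RR k) = d.RR l := by
  rw [RR_eq, RR_eq, cj_cj, show g * d.σ k = d.σ l * ((d.σ l)⁻¹ * g * d.σ k) by group, ← cj_cj,
    cj_eq_self (h.nR (h.σ_Nz hg e))]

theorem nr_RR (k : Fin 4) : Ce d.t ⊓ Nz (d.v (zz k)) ≤ Nr (d.RR k) := fun _ hg =>
  cj_eq_self_iff.1 (h.cj_RR hg.1 (mem_Nz.1 hg.2))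

theorem D_RR (k : Fin 4) : d.D ≤ Nr (d.RR k) := fun _ hg =>
  h.nr_RR k ⟨hg.2, Ce_le_nr (J_le_Ce h.co _ hg.1)⟩

theorem fr : FR d where
  tm k := by rw [RR_eq, ← mem_Ce'.1 (h.σ_t k)]; exact conj_mem_cj h.t_mem
  le k := RR_eq d k ▸ cj_le_of_le_of_mem h.R_t (h.σ_t k)
  card k := by rw [RR_eq, card_cj, h.card_R]
  sq k := by
    rw [RR_eq]
    rintro _ ⟨r, hr, rfl⟩
    exact (h.R_sq hr).imp (zt_conj (h.σ_t k)).2 fun e => by
      rw [← map_mul, e]; exact mem_Ce'.1 (h.σ_t k)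
  cm k := by
    rw [RR_eq]
    rintro _ ⟨r, hr, rfl⟩ _ ⟨s, hs, rfl⟩
    simp only [← map_inv, ← map_mul]
    exact (zt_conj (h.σ_t k)).2 (h.R_comm hr hs)
  nc k := by
    rw [RR_eq]
    rintro _ ⟨r, hr, rfl⟩ h1
    obtain ⟨s, hs, e⟩ := h.R_nc hr (mt (zt_conj (h.σ_t k)).2 h1)
    exact ⟨_, ⟨s, hs, rfl⟩, fun e' => e ((MulAut.conj (d.σ k)).injective (by simpa using e'))⟩
  inf k := by
    rw [RR_eq]
    rintro _ ⟨⟨r, hr, rfl⟩, hn⟩
    exact (zt_conj (h.σ_t k)).2 (h.R_inf hr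
      ((mem_normalizer_iff.1 (le_normalizer (h.σ_B k).1) r).2 hn))
  perm g hg M hM k l e := h.cj_RR hg.2 (by
    rw [hM]
    rcases e with e | e <;> rw [e]
    exacts [mem_zpowers _, v_neg h.co _ ▸ inv_mem (mem_zpowers _)])
  cen k x h1 h2 := by
    obtain ⟨y, a, b, e⟩ := h.σ_v k h1
    rw [RR_eq, e, ← cj_Ce]
    exact cj_mono _ (h.R_v a (b.trans h2))
  fpf k x h1 h2 := by
    obtain ⟨y, a, b, e⟩ := h.σ_v k h1
    rw [RR_eq, e]
    rintro _ ⟨r, hr, rfl⟩ h3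
    refine (zt_conj (h.σ_t k)).2 (h.R_fpf a (b ▸ h2) hr ((zt_conj (h.σ_t k)).1 ?_))
    convert h3 using 1
    simp [mul_assoc]
  irr k x h1 h2 L hn := by
    obtain ⟨y, a, b, e⟩ := h.σ_v k h1
    rw [RR_eq]
    rintro _ ⟨⟨r, hr, rfl⟩, hL⟩ h3
    refine cj_le_iff.2 (h.R_irr a (b ▸ h2) ?_ hr (mem_cj.2 (by simpa using hL))
      (mt (zt_conj (h.σ_t k)).2 h3))
    rw [Nr, ← cj_normalizer, mem_cj, inv_inv, ← e]
    exact hn
  nz k g hg := by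
    obtain ⟨r, hr, e⟩ := h.frat _ (h.σ_Nz hg.1 (mem_Nz.1 hg.2)).1
    refine ⟨_, RR_eq d k ▸ conj_mem_cj hr, ?_⟩
    convert conj_mem_of_mem_normalizer (le_normalizer (h.σ_B k).1) e using 1
    group

theorem RR_two (k : Fin 4) : IsPGroup 2 (d.RR k) := .of_card (n := 3) (h.fr.card k)

theorem RR_cop (k : Fin 4) : (Nat.card (d.RR k)).Coprime 3 := by rw [h.fr.card]; decide

omit [Finite G] in
theorem D_inf {K : Subgroup G} (hn : d.D ≤ Nr K) (x : V) : d.D ≤ Nr (K ⊓ Ce (d.v x)) :=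
  le_normalizer_inf hn ((inf_le_left.trans (J_le_Ce h.co x)).trans le_normalizer)

/-- the centraliser of `z_k` in a `D`-invariant `3'`-subgroup of `C(t)` -/
theorem sg_z {K : Subgroup G} (hK : K ≤ Ce d.t) (h3 : (Nat.card K).Coprime 3) (hn : d.D ≤ Nr K)
    (k : Fin 4) : K ⊓ Ce (d.v (zz k)) ≤ d.RR k := fun g hg => by
  have h1 : K ⊓ Ce (d.v (zz k)) ≤ Ce d.t ⊓ Nz (d.v (zz k)) := inf_le_inf hK Ce_le_nr
  obtain ⟨r, hr, e⟩ := h.fr.nz k g (h1 hg)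
  have := zpowers_le.2 (h.fr.tm k) (h.star (K := K ⊓ Ce (d.v (zz k)) ⊔ d.RR k)
    (sup_le (inf_le_left.trans hK) (h.fr.le k)) (coprime_sup (h1.trans (h.nr_RR k))
      (h3.coprime_dvd_left (card_dvd_of_le inf_le_left)) (h.RR_cop k))
    (le_normalizer_sup (h.D_inf hn _) (h.D_RR k))
    ⟨mul_mem (mem_sup_right (inv_mem hr)) (mem_sup_left hg), e⟩)
  simpa using mul_mem hr this

theorem sg (cu : CU d) : SG d := fun K L hK h3 hn hL => by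
  have a : ∀ k, K ⊓ Ce (d.v (uu k)) ≤ L := fun k g hg => hL 0 ⟨hg.1, zpowers_le.2 (h.fr.tm 0)
    (h.star hK h3 hn ⟨hg.1, cu k ⟨hK hg.1, hg.2⟩⟩)⟩
  have b : ∀ k, K ⊓ Ce (d.v (zz k)) ≤ L := fun k g hg => hL k ⟨hg.1, h.sg_z hK h3 hn k hg⟩
  have n : ∀ x y : V, mT *ᵥ y = y → d.v y ∈ nr (K ⊓ Ce (d.v x)) := fun x y hy =>
    h.D_inf hn x (h.v_D hy)
  have c : ∀ x, (Nat.card (K ⊓ Ce (d.v x) : Subgroup G)).Coprime 3 := fun x =>
    h3.coprime_dvd_left (card_dvd_of_le inf_le_left)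
  have m : ∀ x y, K ⊓ Ce (d.v y) ≤ L → K ⊓ Ce (d.v x) ⊓ Ce (d.v y) ≤ L := fun x y e =>
    (inf_le_inf_right _ inf_le_left).trans e
  have w : ∀ x y, x + y = -uu 0 → K ⊓ Ce (d.v x) ⊓ Ce (d.v y) ≤ L := fun x y e g hg =>
    a 0 ⟨hg.1.1, by
      rw [← Ce_inv, ← v_neg h.co, ← e, h.add]
      exact mem_Ce.2 (Commute.mul_right (mem_Ce.1 hg.1.2) (mem_Ce.1 hg.2))⟩
  refine gen4 h.co (x := uu 0) (y := uu 1) (by decide) (by decide) (by decide) (by decide) h3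
    (hn (h.u_D 0)) (hn (h.u_D 1)) (a 0) (a 1) ?_ ?_
  · exact gen4 h.co (x := uu 2) (y := uu 0 - uu 1) (by decide) (by decide) (by decide) (by decide)
      (c _) (n _ _ (by decide +kernel)) (n _ _ (by decide +kernel)) (m _ _ (a 2))
      (w _ _ (by decide)) (m _ _ ((by decide : zz 2 = uu 2 + (uu 0 - uu 1)) ▸ b 2))
      (m _ _ ((by decide : zz 1 = uu 2 - (uu 0 - uu 1)) ▸ b 1))
  · exact gen4 h.co (x := uu 0 + uu 1) (y := uu 2) (by decide) (by decide) (by decide) (by decide)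
      (c _) (n _ _ (by decide +kernel)) (n _ _ (by decide +kernel)) (w _ _ (by decide))
      (m _ _ (a 2)) (m _ _ ((by decide : zz 0 = uu 0 + uu 1 + uu 2) ▸ b 0))
      (m _ _ ((by decide : zz 3 = uu 0 + uu 1 - uu 2) ▸ b 3))

end Loc

theorem jobXR : JobXR.{u} := fun _ _ _ _ h _ => h.fr

theorem jobSG : JobSG.{u} := fun _ _ _ _ h _ _ => h.sg

end H47.O8
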