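import Cfsg.Agent.H47.O8E
import Cfsg.Agent.H52.L3W

/-! `JobU1` of `H47.O8Sp` (blueprint `LOCAL3C.md`, §5.10). -/

set_option autoImplicit false
set_option maxRecDepth 100000
set_option synthInstance.maxSize 2048
open Cfsg Subgroup H14 H98 H56.L3 H42.L3 H47.MC H42.MC H26.MC
open scoped Matrix commutatorElement

namespace H47.O8

universe u

variable {G : Type u} [Group G]

/-- a check over a list (keeps `decide` away from the `Fintype` instance) -/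
def AllL {α : Type} (L : List α) (P : α → Prop) : Prop := ∀ p ∈ L, P p

instance {α : Type} (L : List α) (P : α → Prop) [DecidablePred P] : Decidable (AllL L P) :=
  List.decidableBAll P L

/-- a statement about the `48` rotations commuting with `mT`: `forall_T (by decide +kernel)` -/
theorem forall_T {P : Mat → Prop} (hP : AllL LT fun p => P p.1) {M : Mat} (h : Iso M) (h1 : Rot M)
    (h2 : M * mT = mT * M) : P M := by
  obtain ⟨p, hp, rfl⟩ := stabT h h1 (comm_T h h2)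
  exact hP p hp

theorem mem_zp2 {v : V → G} {J : Subgroup G} (h : Coord v J) {x y : V} {g : G} :
    g ∈ zpowers (v x) ⊔ zpowers (v y) ↔ ∃ a b : ZMod 3, v (a • x + b • y) = g := by
  simp only [H52.L3.mem_E (v_comm h x y), mem_zp_v h]
  exact ⟨fun ⟨_, ⟨a, ha⟩, _, ⟨b, hb⟩, e⟩ => ⟨a, b, by rw [h.add, ha, hb, e]⟩,
    fun ⟨a, b, e⟩ => ⟨_, ⟨a, rfl⟩, _, ⟨b, rfl⟩, by rw [← e, h.add]⟩⟩

theorem acts_pm {v : V → G} {J : Subgroup G} (h : Coord v J) {g : G} {M : Mat} (hg : Acts v g M)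
    {x : V} (e : M *ᵥ x = x ∨ M *ᵥ x = -x) : g * v x * g⁻¹ = v x ∨ g * v x * g⁻¹ = (v x)⁻¹ :=
  e.imp (fun e => by rw [hg, e]) fun e => by rw [hg, e, v_neg h]

theorem smul_mem_zp {v : V → G} {J : Subgroup G} (h : Coord v J) (a : ZMod 3) (x : V) :
    v (a • x) ∈ zpowers (v x) := (mem_zp_v h).2 ⟨a, rfl⟩

theorem cn_zp {x : G} : cn (zpowers x) = Ce x :=
  le_antisymm (fun _ hg => mem_Ce.2 (hg x (mem_zpowers x)).symm) fun _ hg => by
    rintro _ ⟨n, rfl⟩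
    exact (Commute.zpow_right (mem_Ce.1 hg) n).symm

namespace Loc

variable [Finite G] {d : Dat G} (h : Loc d) {g : G} {M : Mat} {x : V}
include h

omit [Finite G] in
/-- an element of order three of `D ⟨t⟩` lies in `D` -/
theorem mem_D_of_cube (hg : g ∈ Ce d.t) (h3 : g ^ 3 = 1) (e : g ∈ d.D ∨ g * d.t ∈ d.D) :
    g ∈ d.D := e.resolve_right fun e => h.t_ne (by
  have := J_cube h.co e.1
  rwa [(show Commute g d.t from mem_Ce.1 hg).mul_pow, h3, one_mul, pow_three, h.tt, mul_one] at this)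

theorem cu_E (h1 : One d) : Ce (d.v (uu 1)) ⊓ Ce (d.v (uu 2)) ≤ Nr d.J := by
  have hJ : ∀ x, d.v x ∈ Ce (d.v (uu 1)) ⊓ Ce (d.v (uu 2)) ⊓ Nr d.J := fun x =>
    ⟨⟨J_le_Ce h.co _ (v_mem h.co x), J_le_Ce h.co _ (v_mem h.co x)⟩, le_normalizer (v_mem h.co x)⟩
  refine H52.L3.le_of_diag (Z := zpowers (d.v (uu 1)) ⊔ zpowers (d.v (uu 2)))
    (sup_le (zpowers_le.2 (hJ _)) (zpowers_le.2 (hJ _))) (by
      rw [cn, centralizer_sup]; exact inf_le_inf cn_zp.ge cn_zp.ge) (hJ (uu 0)) (hJ vu)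
    (v_cube h.co _) (v_cube h.co _) (v_comm h.co _ _) (fun a ha b hb e => ?_)
    (mt (v_eq_one h.co).1 (by decide)) (mt (v_eq_one h.co).1 (by decide)) (fun w hw => ?_)
    fun e he e1 g hg e2 => ?_
  · obtain ⟨a, rfl⟩ := (mem_zp_v h.co).1 ha
    obtain ⟨b, rfl⟩ := (mem_zp_v h.co).1 hb
    obtain ⟨c, c', e⟩ := (mem_zp2 h.co).1 e
    rw [← h.add, h.inj.eq_iff] at e
    simp only [v_eq_one h.co]
    exact (by decide +kernel : ∀ a b c c' : ZMod 3, c • uu 1 + c' • uu 2 = a • uu 0 + b • vu →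
      a • uu 0 = 0 ∧ b • vu = 0) a b c c' e
  · obtain ⟨M, hM, hi⟩ := h.act w hw.2
    have a1 := (acts_mem_Ce h.co hM).1 hw.1.1
    have a2 := (acts_mem_Ce h.co hM).1 hw.1.2
    have hr := (h1 w M hM).rot'
    have e1 : ∀ x, dot (M *ᵥ x) (uu 1) = dot x (uu 1) := fun x => by rw [← hi.dot x, a1]
    have e2 : ∀ x, dot (M *ᵥ x) (uu 2) = dot x (uu 2) := fun x => by rw [← hi.dot x, a2]
    rw [Rot', show (![1, 1, 1, 1] : V) = e0 + ![0, 1, 0, 0] - uu 2 by decide, Matrix.mulVec_sub,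
      Matrix.mulVec_add, a2] at hr
    obtain ⟨a3, a4⟩ := (by decide +kernel : ∀ a : V, nrm a = 1 → dot a (uu 1) = 0 →
      dot a (uu 2) = 0 → ∀ b : V, nrm b = 1 → dot b (uu 1) = 0 → dot b (uu 2) = 0 → dot a b = 0 →
      O8.fr (a + b - uu 2) = 1 + O8.fr a → (a + b = uu 0 ∨ a + b = -uu 0) ∧ (a - b = vu ∨ a - b = -vu))
      _ ((hi.nrm e0).trans (by decide)) ((e1 _).trans (by decide)) ((e2 _).trans (by decide))
      _ ((hi.nrm ![0, 1, 0, 0]).trans (by decide)) ((e1 _).trans (by decide))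
      ((e2 _).trans (by decide)) ((hi.dot _ _).trans (by decide)) hr
    rw [← Matrix.mulVec_add, show e0 + ![0, 1, 0, 0] = uu 0 by decide] at a3
    rw [← Matrix.mulVec_sub, show e0 - ![0, 1, 0, 0] = vu by decide] at a4
    refine ⟨acts_pm h.co hM a3, acts_pm h.co hM a4, fun b1 b2 => ?_⟩
    rw [hM, h.inj.eq_iff] at b1 b2
    obtain rfl : M = 1 := (h.fix_D hM fun k => by fin_cases k <;> assumption).resolve_right
      fun e => absurd (e ▸ b2) (by decide +kernel)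
    obtain ⟨x, rfl⟩ := (h.mem w).1 (h.mem_J hM)
    obtain ⟨a, b, c, c', rfl⟩ := (by decide +kernel : ∀ x : V, ∃ a b c c' : ZMod 3,
      x = a • uu 0 + b • vu + (c • uu 1 + c' • uu 2)) x
    rw [h.add]
    exact mul_mem_sup ((mem_zp2 h.co).2 ⟨_, _, rfl⟩) ((mem_zp2 h.co).2 ⟨_, _, rfl⟩)
  · obtain ⟨a, b, rfl⟩ := (mem_zp2 h.co).1 he
    have e3 : _ ∈ d.J := (sup_le (sup_le (zpowers_le.2 (v_mem h.co _)) (zpowers_le.2 (v_mem h.co _)))
      (sup_le (zpowers_le.2 (v_mem h.co _)) (zpowers_le.2 (v_mem h.co _))) :) e2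
    have e4 := mem_Ce'.1 hg.1
    have e5 := mem_Ce'.1 hg.2
    rcases (by decide : ∀ a b : ZMod 3, a • uu 0 + b • vu ≠ 0 →
      (a • uu 0 + b • vu + uu 1 ≠ 0 ∧ nrm (a • uu 0 + b • vu + uu 1) = 0) ∨
      (a • uu 0 + b • vu + uu 1 + uu 2 ≠ 0 ∧ nrm (a • uu 0 + b • vu + uu 1 + uu 2) = 0)) a b
      (mt (v_eq_one h.co).2 e1) with e | e <;>
    refine h.se e.1 e.2 (uu_nrm 1) ?_ (e4.symm ▸ v_mem h.co _)
    · rw [h.add, ← conj_mul, e4]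
      exact mul_mem e3 (v_mem h.co _)
    · rw [h.add, h.add, ← conj_mul, ← conj_mul, e4, e5]
      exact mul_mem (mul_mem e3 (v_mem h.co _)) (v_mem h.co _)

theorem cu_E' (h1 : One d) {k l : Fin 3} (e : k ≠ l) :
    Ce (d.v (uu k)) ⊓ Ce (d.v (uu l)) ≤ Nr d.J := by
  have h2 := fun a : Fin 3 => cj_mono (d.q1 ^ a.val) (h.cu_E h1)
  simp only [cj_inf, cj_Ce, (h.h1.pow _).1 _, cj_eq_self_of_mem (pow_mem h.q1_B.1 _)] at h2
  obtain ⟨a, ⟨e1, e2⟩ | ⟨e1, e2⟩⟩ := (by simp only [pow_Q1]; decide +kernel : ∀ k l : Fin 3, k ≠ l →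
    ∃ a : Fin 3, (mQ1 ^ a.val *ᵥ uu 1 = uu k ∧ mQ1 ^ a.val *ᵥ uu 2 = uu l) ∨
      (mQ1 ^ a.val *ᵥ uu 1 = uu l ∧ mQ1 ^ a.val *ᵥ uu 2 = uu k)) k l e
  exacts [e1 ▸ e2 ▸ h2 a, inf_comm (Ce (d.v (uu l))) _ ▸ e1 ▸ e2 ▸ h2 a]

theorem cu (h1 : One d) : CU d := fun k => by
  have hD : ∀ x ∈ d.D, x ∈ Ce d.t ⊓ Ce (d.v (uu k)) ⊓ Nr d.J := fun x hx =>
    ⟨⟨hx.2, J_le_Ce h.co _ hx.1⟩, le_normalizer hx.1⟩
  have ht : ∀ l, d.t ∈ Ce (d.v (uu l)) := fun l => mem_Ce.2 (mem_Ce.1 (h.u_D l).2).symm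
  have hZ : zpowers d.t ⊔ zpowers (d.v (uu k)) ≤ Ce d.t ⊓ Ce (d.v (uu k)) ⊓ Nr d.J :=
    sup_le (zpowers_le.2 ⟨⟨mem_Ce.2 rfl, ht k⟩, h.t_nr⟩) (zpowers_le.2 (hD _ (h.u_D k)))
  have hX : zpowers (d.v (uu (k + 1))) ⊔ zpowers (d.v (uu (k + 2))) ⊔
      (zpowers d.t ⊔ zpowers (d.v (uu k))) ≤ Ce d.t ⊓ ⨅ l, Ce (d.v (uu l)) := by
    have : ∀ m, d.v (uu m) ∈ Ce d.t ⊓ ⨅ l, Ce (d.v (uu l)) := fun m =>
      ⟨(h.u_D m).2, mem_iInf.2 fun l => J_le_Ce h.co _ (v_mem h.co _)⟩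
    exact sup_le (sup_le (zpowers_le.2 (this _)) (zpowers_le.2 (this _)))
      (sup_le (zpowers_le.2 ⟨mem_Ce.2 rfl, mem_iInf.2 ht⟩) (zpowers_le.2 (this _)))
  refine H52.L3.le_of_diag hZ (by
      rw [cn, centralizer_sup]; exact inf_le_inf cn_zp.ge cn_zp.ge) (hD _ (h.u_D (k + 1)))
    (hD _ (h.u_D (k + 2))) (v_cube h.co _) (v_cube h.co _) (v_comm h.co _ _)
    (fun a ha b hb e => ?_) (mt (v_eq_one h.co).1 ((by decide : ∀ k, uu k ≠ 0) _))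
    (mt (v_eq_one h.co).1 ((by decide : ∀ k, uu k ≠ 0) _)) (fun w hw => ?_)
    fun e he e1 g hg e2 => ?_
  · obtain ⟨a, rfl⟩ := (mem_zp_v h.co).1 ha
    obtain ⟨b, rfl⟩ := (mem_zp_v h.co).1 hb
    obtain ⟨s, hs, c, hc, e⟩ := (H52.L3.mem_E (mem_Ce.1 (ht k))).1 e
    obtain ⟨c, rfl⟩ := (mem_zp_v h.co).1 hc
    rw [← mul_inv_eq_iff_eq_mul, ← h.add, ← v_sub h.co] at e
    rcases h.mem_zt.1 hs with rfl | rfl
    · simp only [v_eq_one h.co] at e ⊢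
      exact (by decide : ∀ (k : Fin 3) (a b c : ZMod 3), a • uu (k + 1) + b • uu (k + 2) -
        c • uu k = 0 → a • uu (k + 1) = 0 ∧ b • uu (k + 2) = 0) k a b c e
    · exact absurd (acts_unique h.co h.aT (acts_J h.co (e ▸ v_mem h.co _))) (by decide +kernel)
  · obtain ⟨x, a, M, -, h2, h3, h4, rfl⟩ := h.mem_B ⟨hw.2, hw.1.1⟩
    have hM : Acts d.v (d.v x * a) M := by
      simpa using acts_mul (acts_J h.co (v_mem h.co x)) h2.1
    obtain ⟨a1, a2⟩ := forall_T (P := fun M => ∀ k : Fin 3,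
      M *ᵥ uu k = uu k → (M *ᵥ uu (k + 1) = uu (k + 1) ∨ M *ᵥ uu (k + 1) = -uu (k + 1)) ∧
        (M *ᵥ uu (k + 2) = uu (k + 2) ∨ M *ᵥ uu (k + 2) = -uu (k + 2))) (by decide +kernel) h3
      (h1 _ _ hM) h4 k ((acts_mem_Ce h.co hM).1 hw.1.2)
    refine ⟨acts_pm h.co hM a1, acts_pm h.co hM a2, fun b1 b2 => ?_⟩
    have hD' : d.D ≤ zpowers (d.v (uu (k + 1))) ⊔ zpowers (d.v (uu (k + 2))) ⊔
        (zpowers d.t ⊔ zpowers (d.v (uu k))) := fun g hg => by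
      obtain ⟨x, hx, rfl⟩ := h.mem_D.1 hg
      obtain ⟨a, b, c, rfl⟩ := (by decide +kernel : ∀ (k : Fin 3) (x : V), mT *ᵥ x = x →
        ∃ a b c : ZMod 3, x = a • uu (k + 1) + b • uu (k + 2) + c • uu k) k x hx
      rw [h.add]
      exact mul_mem_sup ((mem_zp2 h.co).2 ⟨_, _, rfl⟩) (mem_sup_right (smul_mem_zp h.co _ _))
    rcases h.cn_D hw.1.1 fun l => by
      rcases (by decide : ∀ k l : Fin 3, l = k ∨ l = k + 1 ∨ l = k + 2) k l with rfl | rfl | rfl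
      exacts [hw.1.2, mem_Ce'.2 b1, mem_Ce'.2 b2] with e | e
    · exact hD' e
    · exact (Subgroup.mul_mem_cancel_right _ (mem_sup_right (mem_sup_left (mem_zpowers _)))).1
        (hD' e)
  · obtain ⟨a, b, rfl⟩ := (mem_zp2 h.co).1 he
    have e3 := (h.mem_D_of_cube (hX e2).1 (by rw [conj_pow, v_cube h.co]; simp)
      (h.cn_D (hX e2).1 (mem_iInf.1 (hX e2).2))).1
    have e4 := mem_Ce'.1 hg.2
    rcases (by decide : ∀ (k : Fin 3) (a b : ZMod 3), a • uu (k + 1) + b • uu (k + 2) ≠ 0 →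
      (a • uu (k + 1) + b • uu (k + 2) + uu k ≠ 0 ∧
        nrm (a • uu (k + 1) + b • uu (k + 2) + uu k) = 0) ∨ ∃ l, k ≠ l ∧
      (a • uu (k + 1) + b • uu (k + 2) = uu l ∨ a • uu (k + 1) + b • uu (k + 2) = -uu l)) k a b
      (mt (v_eq_one h.co).2 e1) with e | ⟨l, hl, e⟩
    · refine h.se e.1 e.2 (uu_nrm k) ?_ (e4.symm ▸ v_mem h.co _)
      rw [h.add, ← conj_mul, e4]
      exact mul_mem e3 (v_mem h.co _)
    · obtain ⟨n, hn, e5⟩ := h.fus2 (e4.symm ▸ v_mem h.co (uu k)) e3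
      have : n⁻¹ * g ∈ Ce (d.v (uu l)) := by
        rcases e with e | e <;> rw [e] at e5
        exacts [e5.2, Ce_inv (d.v (uu l)) ▸ v_neg h.co (uu l) ▸ e5.2]
      simpa using mul_mem hn (h.cu_E' h1 hl ⟨e5.1, this⟩)

end Loc

theorem jobU1 : JobU1.{u} := fun _ _ _ _ h _ => h.cu

end H47.O8
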