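import Cfsg.Agent.H47.O8Hub
import Cfsg.Agent.H47.O8R
import Cfsg.Agent.H47.O8E
import Cfsg.Agent.H47.O8U1
import Cfsg.Agent.H47.O8CY
import Cfsg.Agent.H47.O8Cm
import Cfsg.Agent.H91.O8A1
import Cfsg.Agent.H91.O8W
import Cfsg.Agent.H95.O8C1
import Cfsg.Agent.H95.O8F1
import Cfsg.Agent.H37.O8U2
import Cfsg.Agent.H38.O8Cb
import Cfsg.Agent.H79.O8c

/-! All jobs of `H47.O8Sp` except the two tools. -/

set_option autoImplicit false

namespace H47.O8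

universe u

theorem jobs_of (s33 : JobS33.{u}) (w9 : JobW9.{u}) : Jobs.{u} :=
  ⟨s33, w9, H91.O8.jobA1, H76.O8.jobA2, jobA3, jobA4, jobX, jobXQ, jobXR, jobSG, jobEx, jobT3,
    jobU1, jobCY, H95.O8.jobC1, H95.O8.jobF1, H37.O8.jobU2, jobCm2, H37.O8.jobN2, H79.O8.jobO2,
    H38.O8.jobC2, jobTT, H38.O8.jobR⟩

end H47.O8
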