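import Cfsg.Agent.H47.O8Q
import Cfsg.Agent.H8.TransferEval

/-! `JobTT` of `H47.O8Sp` (blueprint `LOCAL3C.md`, §5.20). -/

set_option autoImplicit false
set_option maxRecDepth 100000
open Cfsg Subgroup H14 H98 H56.L3 H42.L3 H47.MC H42.MC H26.MC
open scoped Matrix commutatorElement

namespace H47.O8

universe u

variable {G : Type u} [Group G] [Finite G]

def mW0 : Mat := !![2, 0, 0, 0; 0, 2, 0, 0; 0, 0, 1, 0; 0, 0, 0, 1]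

def LH2 : List Mat := [!![0, 0, 2, 0; 0, 0, 0, 1; 1, 0, 0, 0; 0, 2, 0, 0],
  !![1, 0, 0, 0; 0, 1, 0, 0; 0, 0, 1, 0; 0, 0, 0, 1],
  !![1, 1, 2, 2; 2, 2, 2, 2; 1, 2, 1, 2; 2, 1, 1, 2],
  !![2, 1, 1, 1; 1, 2, 1, 1; 1, 1, 2, 1; 1, 1, 1, 2],
  !![2, 1, 2, 1; 2, 1, 1, 2; 1, 1, 1, 1; 1, 1, 2, 2],
  !![2, 2, 1, 1; 2, 2, 2, 2; 1, 2, 1, 2; 1, 2, 2, 1],
  !![2, 2, 1, 2; 2, 2, 2, 1; 1, 2, 2, 2; 1, 2, 1, 1]]

theorem comm_W0 {M : Mat} (h : Iso M) (e : M * mW0 = mW0 * M) : M ^ 4 = 1 := by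
  rw [show M ^ 4 = M * M * (M * M) by simp [pow_succ, mul_assoc]]
  simp only [mul_eq] at e ⊢
  exact forall_iso (P := fun M => mm M mW0 = mm mW0 M → mm (mm M M) (mm M M) = 1)
    (by decide +kernel) M h e

omit [Finite G] in
theorem card_Ce_conj {a b : G} (e : IsConj a b) : Nat.card (Ce a) = Nat.card (Ce b) := by
  obtain ⟨g, rfl⟩ := isConj_iff.1 e
  rw [← cj_Ce, card_cj]

namespace Loc

variable {d : Dat G} (h : Loc d) {a c g s : G} {M : Mat}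
include h

omit [Finite G] in
theorem card_fixJ (ha : Acts d.v a M) :
    Nat.card (d.J ⊓ Ce a : Subgroup G) = Fintype.card {x : V // M *ᵥ x = x} := by
  have e : ∀ x, d.v x ∈ Ce a ↔ M *ᵥ x = x := fun x => by
    rw [← acts_mem_Ce h.co ha, mem_Ce, mem_Ce, eq_comm]
  rw [← Nat.card_eq_fintype_card]
  exact (Nat.card_congr (Equiv.ofBijective (fun x : {x : V // M *ᵥ x = x} =>
    (⟨d.v x, v_mem h.co _, (e _).2 x.2⟩ : (d.J ⊓ Ce a : Subgroup G)))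
    ⟨fun x y e => Subtype.ext (h.inj (congrArg Subtype.val e)), fun g =>
      let ⟨x, hx⟩ := (h.mem _).1 g.2.1; ⟨⟨x, (e x).1 (hx ▸ g.2.2)⟩, Subtype.ext hx⟩⟩)).symm

/-- the rotations in `B` -/
def B1 : Subgroup G where
  carrier := {g | g ∈ d.B ∧ ∃ M, Acts d.v g M ∧ Rot M}
  one_mem' := ⟨one_mem _, 1, acts_one, Iso.rot (by decide +kernel) (by decide +kernel)⟩
  mul_mem' := fun ⟨a, _, a1, a2⟩ ⟨b, _, b1, b2⟩ =>
    ⟨mul_mem a b, _, acts_mul a1 b1, a2.mul b2 (h.iso b1)⟩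
  inv_mem' := fun ⟨a, _, a1, a2⟩ => ⟨inv_mem a, _, h.inv a1, a2.tr (h.iso a1)⟩

theorem syl_W0 (cu : CU2 d) (ha : Hat d a mW0) : IsSyl 3 (d.J ⊓ Ce a) (Ce a) := by
  refine isSyl_of_isSyl_normalizer ⟨le_inf inf_le_right le_normalizer,
    (J_three h.co).to_le inf_le_left, fun P hP h1 h2 => le_antisymm (fun p hp => ⟨?_, (h2 hp).1⟩) h1⟩
  obtain ⟨k, hk⟩ := isPGroup_iff_forall.1 hP p hp
  obtain ⟨M, hM, hi⟩ := h.act p (wc1 h.co h.wc inf_le_left (fun g hg => cu (uu 1) (by decide)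
    (mem_Ce.2 (hg _ ⟨v_mem h.co _, mem_Ce.2 (mem_Ce.1 ((acts_mem_Ce h.co ha.1).2
      (by decide +kernel))).symm⟩).symm)) (h2 hp).2)
  exact H98.mem_of_pow_mem_of_coprime (h.mem_J (comm_W0 hi (acts_unique h.co (acts_mul hM ha.1)
    (mem_Ce.1 (h2 hp).1 ▸ acts_mul ha.1 hM)) ▸ acts_pow hM 4))
    ((Nat.Coprime.pow_left k (by decide)).coprime_dvd_left (orderOf_dvd_of_pow_eq_one hk))

/-- an involution of `Σ B₁` is conjugate to an element of `Σ` or of `⟨t, τ₁, τ₂, τ₃⟩` -/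
theorem inv_B1 (ex : Ex d) (hg : g ∈ d.Sg ⊔ h.B1) (h2 : g * g = 1) : (∃ σ ∈ d.Sg, IsConj g σ) ∨
    ∃ (s : G) (e₀ e₁ e₂ e₃ : Fin 2), IsConj g s ∧ ¬ (e₁ = 0 ∧ e₂ = 0 ∧ e₃ = 0) ∧
      Hat d s (mT ^ e₀.val * (mR 0 ^ e₁.val * mR 1 ^ e₂.val * mR 2 ^ e₃.val)) := by
  obtain ⟨σ, hσ, n, ⟨hn, N, n1, n2⟩, rfl⟩ := (mem_sup_right_norm
    (show h.B1 ≤ _ from fun _ a => ex.nB a.1)).1 hg
  obtain ⟨x, a, M, h3, h4, -, h5, rfl⟩ := h.mem_B hn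
  obtain rfl := acts_unique h.co n1 (h.acts_v h4.1 x)
  have h6 : d.v x * a * (d.v x * a) ∈ zpowers d.t := ex.inf ⟨by
    have := inv_mem (mul_mem hσ (conj_mem_of_mem_normalizer (ex.nB hn) hσ))
    rwa [← mul_one (_ : G)⁻¹, ← h2, show (σ * (d.v x * a * σ * (d.v x * a)⁻¹))⁻¹ *
      (σ * (d.v x * a) * (σ * (d.v x * a))) = d.v x * a * (d.v x * a) by group] at this,
    mul_mem hn.1 hn.1⟩
  rw [vmul h.co h4.1] at h6
  have h7 : x + N *ᵥ x = 0 ∧ (N * N = 1 ∨ N * N = mT) := by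
    rcases h.mem_zt.1 h6 with e | e
    · have := h.dec (h4.mul h4) Hat.one (x' := 0) (by rw [e, v_zero h.co, one_mul])
      exact ⟨this.1, .inl this.2.2⟩
    · have := h.dec (h4.mul h4) h.ht (x' := 0) (by rw [e, v_zero h.co, one_mul])
      exact ⟨this.1, .inr this.2.2⟩
  obtain ⟨e₀, e₁, e₂, e₃, f, h8, h9⟩ := h.rot_T h4 n2 h5
  obtain rfl : f = 0 := (by simp only [mul_eq]; decide +kernel :
    AllL LT fun p => p.1 * p.1 = 1 ∨ p.1 * p.1 = mT → p.2.2.2.2.2 = 0) _ h8 h7.2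
  have s1 := (((h.hτ 0).pow e₁).mul ((h.hτ 1).pow e₂)).mul ((h.hτ 2).pow e₃)
  have s2 := mul_mem (mul_mem (pow_mem (h.τ_B 0) e₁) (pow_mem (h.τ_B 1) e₂)) (pow_mem (h.τ_B 2) e₃)
  set s := d.τ 0 ^ e₁.val * d.τ 1 ^ e₂.val * d.τ 2 ^ e₃.val with hs
  have s3 := mul_mem (conj_mem_of_mem_normalizer (ex.nB (D_B (h.v_D h3))) hσ) (pow_mem h.t_Sg e₀)
  have s4 : IsConj (σ * (d.v x * a)) (d.v x * σ * (d.v x)⁻¹ * d.t ^ e₀.val * s) :=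
    isConj_iff.2 ⟨d.v x, by
      have : d.v x * (d.v x * a) * (d.v x)⁻¹ = a := by
        rw [mul_assoc, mul_assoc, ← v_neg h.co, acts_comm h4.1, ← mul_assoc, ← mul_assoc, ← h.add,
          ← h.add, mul_eq_right, v_eq_one h.co, Matrix.mulVec_neg, eq_neg_of_add_eq_zero_right h7.1]
        exact (by decide +kernel : ∀ x : V, x + x + - -x = 0) x
      rw [← conj_mul, this, h9, hs]
      simp [mul_assoc]⟩
  by_cases e : e₁ = 0 ∧ e₂ = 0 ∧ e₃ = 0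
  · exact .inl ⟨_, s3, by simpa [hs, e.1, e.2.1, e.2.2] using s4⟩
  obtain ⟨k, k1, k2⟩ := (by simp only [pow_fin2, mul_eq]; decide +kernel : ∀ e₁ e₂ e₃ : Fin 2,
    ¬ (e₁ = 0 ∧ e₂ = 0 ∧ e₃ = 0) → ∃ k, (mR 0 ^ e₁.val * mR 1 ^ e₂.val * mR 2 ^ e₃.val) *ᵥ uu k =
      -uu k ∧ (mR 0 ^ e₁.val * mR 1 ^ e₂.val * mR 2 ^ e₃.val) *
        (mR 0 ^ e₁.val * mR 1 ^ e₂.val * mR 2 ^ e₃.val) = 1) _ _ _ e
  obtain ⟨c, hc⟩ := isConj_iff.1 s4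
  obtain ⟨ρ, -, e' | e'⟩ := (ex.free k s s2 (h.sq s1 k2) (by rw [s1.1, k1, v_neg h.co])).1 _ s3 (by
    rw [← hc, conj_mul, h2]; simp)
  · exact .inr ⟨s, 0, _, _, _, s4.trans (isConj_iff.2 ⟨ρ, e'⟩), e, by simpa using s1⟩
  · exact .inr ⟨_, 1, _, _, _, s4.trans (isConj_iff.2 ⟨ρ, e'⟩), e, by
      simpa [mem_Ce.1 s2.2] using h.ht.mul s1⟩

theorem c_not (hc : Hat d c mC) (cu : CU2 d) (ex : Ex d) (sy : Sy d) (cc : CC d c)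
    (e : IsConj c g) : g ∉ d.Sg ⊔ h.B1 := fun hg => by
  have sq : ∀ g, IsConj c g → g * g = 1 := fun g e => by
    obtain ⟨k, rfl⟩ := isConj_iff.1 e
    rw [conj_mul, h.cc hc]; simp
  have k1 : ∀ σ ∈ d.Sg, ¬ IsConj c σ := fun σ hσ e =>
    cc.two (card_Ce_conj e ▸ sy.big σ hσ (sq σ e))
  have k2 : ∀ s N, Hat d s N → mQ1 * N = N * mQ1 → ¬ IsConj c s := fun s N a b e => by
    obtain ⟨k, rfl⟩ := isConj_iff.1 e
    obtain ⟨l, hl⟩ := cc.three (k⁻¹ * d.q1 * k⁻¹⁻¹) (by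
      simpa [mul_assoc] using conj_mem_Ce (mem_Ce.2 (h.comm h.h1 a b)) k⁻¹)
      (by rw [conj_pow, h.q1_cube]; simp)
    exact h.xJ (k := l * k⁻¹) h.q1_Q (mt (acts_mem_Ce h.co h.a1).1 (by decide +kernel))
      (by simpa [mul_assoc] using hl)
  rcases h.inv_B1 ex hg (sq g e) with ⟨σ, hσ, e'⟩ | ⟨s, e₀, e₁, e₂, e₃, e', h1, h2⟩
  · exact k1 σ hσ (e.trans e')
  obtain ⟨H, hH, h3⟩ := (by simp only [pow_fin2, mul_eq]; decide +kernel : ∀ e₀ e₁ e₂ e₃ : Fin 2,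
    ¬ (e₁ = 0 ∧ e₂ = 0 ∧ e₃ = 0) → ¬ AllL LH2 fun H => AllL [mT, mW0, -1 * mT, -1] fun N =>
      H * (mT ^ e₀.val * (mR 0 ^ e₁.val * mR 1 ^ e₂.val * mR 2 ^ e₃.val)) ≠ N * H) _ _ _ _ h1
      |> not_forall₂.1
  obtain ⟨N, hN, h4⟩ := not_forall₂.1 h3
  obtain ⟨a, ha⟩ := h.exAll hc ((by decide +kernel : AllL LH2 Iso) H hH)
  have k3 : ∀ s', Hat d s' N → IsConj c s' := fun s' b =>
    (e.trans e').trans (isConj_iff.2 ⟨a, h.conj ha h2 b (not_not.1 h4)⟩)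
  simp only [List.mem_cons, List.not_mem_nil, or_false] at hN
  rcases hN with rfl | rfl | rfl | rfl
  · exact k1 _ h.t_Sg (k3 _ h.ht)
  · have b := (h.ht.mul (h.hτ 0)).cast (N := mW0) (by decide +kernel)
    obtain ⟨k, hk⟩ := isConj_iff.1 (k3 _ b)
    have := (h.syl_W0 cu b).card_le (isPGroup_cj k ((J_three h.co).to_le
      (inf_le_left : d.J ⊓ Ce c ≤ _))) (hk ▸ cj_Ce k c ▸ cj_mono k inf_le_right)
    rw [card_cj, h.card_fixJ hc.1, h.card_fixJ b.1] at this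
    exact absurd this (by decide +kernel)
  · exact k2 _ _ (h.hι.mul h.ht) (by decide +kernel) (k3 _ (h.hι.mul h.ht))
  · exact k2 _ _ h.hι (by decide +kernel) (k3 _ h.hι)

theorem tt' (hc : Hat d c mC) (cu : CU2 d) (ex : Ex d) (sy : Sy d) (cc : CC d c) :
    ∃ N : Subgroup G, N.Normal ∧ N.index = 2 ∧ c ∉ N := by
  have hB : c ∈ d.B := ⟨acts_nr h.co hc.1, h.c_t hc⟩
  have c2 : c ^ 2 = 1 := (pow_two c).trans (h.cc hc)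
  refine H8.thompson_transfer_general _ (d.Sg ⊔ h.B1) sy.odd
    (relIndex_eq_two_iff_exists_notMem_and.2 ⟨c, mem_sup_left hB,
      h.c_not hc cu ex sy cc (IsConj.refl c), fun g hg => ?_⟩) c (fun k a ⟨n, hn⟩ => ?_)
    fun k a ⟨n, hn⟩ _ => by rw [hn, ← two_mul, pow_mul, c2]; simp
  · obtain ⟨σ, hσ, n, hn, rfl⟩ := (mem_sup_right_norm ex.nB).1 (sup_comm d.B _ ▸ hg)
    obtain ⟨M, h1, h2⟩ := h.act n hn.1
    exact h2.rot_or.symm.imp (fun e => mul_assoc σ n c ▸ mul_mem_sup hσ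
      ⟨mul_mem hn hB, _, acts_mul h1 hc.1, e⟩) fun e => mul_mem_sup hσ ⟨hn, _, h1, e⟩
  · refine h.c_not hc cu ex sy cc (isConj_iff.2 ⟨a⁻¹, ?_⟩)
    rw [hn, pow_succ, pow_mul, c2]; simp

end Loc

theorem jobTT : JobTT.{u} := fun _ _ _ _ _ h _ _ => h.tt'

end H47.O8
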