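/- Groups whose element orders are `1, 2, 3, 4, 5` (rows S3433, S3600). -/
import Cfsg.Agent.H47.Higman
import Cfsg.Agent.H24.EppoRows
import Cfsg.Agent.H30.ZTIso
import Cfsg.Agent.H31.CITBasic
import Cfsg.Agent.H61.VonDyck
import Cfsg.Agent.H61.PSLMax
import Cfsg.Agent.H11.QdStruct

set_option autoImplicit false

namespace H47

open Matrix MatrixGroups Cfsg Subgroup H61 H65

universe u

/-- the element orders are exactly `1, …, 5` -/
def Spec5 (G : Type*) [Group G] : Prop :=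
  (∀ g : G, orderOf g ≤ 5) ∧ ∀ k, 1 ≤ k → k ≤ 5 → ∃ g : G, orderOf g = k

theorem spec5_iff {G : Type*} [Group G] [Finite G] :
    Spec5 G ↔ Set.range (orderOf : G → ℕ) = {k : ℕ | 1 ≤ k ∧ k ≤ 5} := by
  constructor
  · rintro ⟨h1, h2⟩
    ext k
    exact ⟨by rintro ⟨g, rfl⟩; exact ⟨orderOf_pos g, h1 g⟩, fun h => h2 k h.1 h.2⟩
  · intro h
    exact ⟨fun g => (h ▸ Set.mem_range_self g : orderOf g ∈ {k : ℕ | 1 ≤ k ∧ k ≤ 5}).2,
      fun k h1 h2 => (h.symm ▸ (⟨h1, h2⟩ : k ∈ {k : ℕ | 1 ≤ k ∧ k ≤ 5}) :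
        k ∈ Set.range (orderOf : G → ℕ))⟩

theorem set_five : ({1, 2, 3, 4, 5} : Set ℕ) = {k : ℕ | 1 ≤ k ∧ k ≤ 5} := by
  ext k; simp only [Set.mem_insert_iff, Set.mem_singleton_iff, Set.mem_ofPred_eq]; omega

variable {G : Type u} [Group G] [Finite G]

theorem Spec5.eppo (h : Spec5 G) : H24.Eppo G := fun g hg => by
  have h1 := h.1 g
  have h2 : orderOf g ≠ 1 := fun e => hg (orderOf_eq_one_iff.1 e)
  have h3 := orderOf_pos g
  interval_cases orderOf g
  · exact absurd rfl h2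
  · exact Nat.prime_two.isPrimePow
  · exact Nat.prime_three.isPrimePow
  · exact (Nat.prime_two.isPrimePow.pow two_ne_zero : IsPrimePow (2 ^ 2))
  · exact Nat.prime_five.isPrimePow

theorem charTwo_of_card {K : Type*} [Field K] [Fintype K] {n : ℕ} (hK : Fintype.card K = 2 ^ n) :
    CharP K 2 := by
  obtain ⟨p, hp⟩ := CharP.exists K
  obtain ⟨m, hpp, hm⟩ := FiniteField.card K p
  have : p = 2 := (Nat.prime_dvd_prime_iff_eq hpp Nat.prime_two).1
    (hpp.dvd_of_dvd_pow (n := n) (by rw [← hK, hm]; exact dvd_pow_self p m.ne_zero))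
  exact this ▸ hp

theorem Spec5.cases (hM : H31.CITMain.{u}) (hC : H31.CITCore.{u}) (h : Spec5 G) :
    Nonempty (G ≃* alternatingGroup (Fin 6)) ∨ ∃ (F : Type) (_ : Field F) (_ : Fintype F)
      (_ : CharP F 2), Fintype.card F = 4 ∧ ∃ π : G →* SL(2, F), Hig π := by
  have np : ∀ p : ℕ, p.Prime → 5 < p → ¬ p ∣ Nat.card G := fun p hp h5 hd => by
    have := Fact.mk hp
    obtain ⟨g, hg⟩ := exists_prime_orderOf_dvd_card' p hd
    have := h.1 g
    omega
  have dv : ∀ k, 1 ≤ k → k ≤ 5 → k ∣ Nat.card G := fun k h1 h2 => by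
    obtain ⟨g, rfl⟩ := h.2 k h1 h2
    exact orderOf_dvd_natCard g
  have hns : ¬ Group.IsSolvable G := fun _ => by
    have h1 := h.eppo.card_primeFactors_le
    have : ({2, 3, 5} : Finset ℕ) ⊆ (Nat.card G).primeFactors := fun p hp => by
      simp only [Finset.mem_insert, Finset.mem_singleton] at hp
      rcases hp with rfl | rfl | rfl <;>
        exact Nat.mem_primeFactors.2 ⟨by norm_num, dv _ (by norm_num) (by norm_num), Nat.card_pos.ne'⟩
    have := Finset.card_le_card this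
    simp at this
    omega
  have e := card_quotient_dvd_card (pCore 2 G)
  rcases h.eppo.cases hM hC H30.ztIso hns with h1 | h1 | h1 | h1 | h1 | h1 | h1 | h1
  · right
    obtain ⟨F, _, _, hF, ⟨f⟩⟩ := h1
    have : CharP F 2 := charTwo_of_card (n := 2) hF
    let π : G →* SL(2, F) := (f.trans (slEquivPslOfTwo CharTwo.two_eq_zero).symm).toMonoidHom.comp
      (QuotientGroup.mk' (pCore 2 G))
    have hker : π.ker = pCore 2 G := by
      ext g
      simp [π]
    have hs : Function.Surjective π :=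
      (f.trans (slEquivPslOfTwo CharTwo.two_eq_zero).symm).surjective.comp
        (QuotientGroup.mk'_surjective (pCore 2 G))
    obtain ⟨x, hx⟩ := h.2 3 (by norm_num) (by norm_num)
    have h2 : IsPGroup 2 π.ker := hker ▸ H2.pCore_isPGroup 2 G
    refine ⟨F, _, _, this, hF, π, hig_of_fpf hs h2 hx fun q hq e => ?_⟩
    refine h.eppo.cit.eq_one_of_commute (h2 ⟨q, hq⟩ |>.imp fun k hk => congrArg Subtype.val hk)
      (x := x) (by rw [hx]; decide) (fun e => by simp [e] at hx) ?_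
    rw [← mul_inv_eq_iff_eq_mul, e]
  · exact absurd (Dvd.dvd.trans (by rw [h1.facts.1]; norm_num) e) (np 7 (by norm_num) (by norm_num))
  · rcases h1.card with h2 | h2
    · exact absurd (Dvd.dvd.trans (by rw [h2]; norm_num) e) (np 7 (by norm_num) (by norm_num))
    · exact absurd (Dvd.dvd.trans (by rw [h2]; norm_num) e) (np 31 (by norm_num) (by norm_num))
  · exact absurd (by rw [h1.facts.1]; norm_num) (np 7 (by norm_num) (by norm_num))
  · obtain ⟨F, _, _, hF, ⟨f⟩⟩ := h1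
    exact Or.inl ((Cfsg.Agent.S0254.result hF).map f.trans)
  · exact absurd (by rw [h1.facts.1]; norm_num) (np 17 (by norm_num) (by norm_num))
  · exact absurd (by rw [H24.card_of_l34 h1]; norm_num) (np 7 (by norm_num) (by norm_num))
  · obtain ⟨x, hx⟩ := h1.2
    have := h.1 x
    omega

theorem s3433 (hM : H31.CITMain.{u}) (hC : H31.CITCore.{u})
    (h : Set.range (orderOf : G → ℕ) = {k : ℕ | 1 ≤ k ∧ k ≤ 5}) :
    Nonempty (G ≃* ↥(alternatingGroup (Fin 6))) ∨
      ∃ (N : Subgroup G) (_ : N.Normal), Cfsg.IsElementaryAbelian 2 N ∧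
        Nonempty (G ⧸ N ≃* ↥(alternatingGroup (Fin 5))) := by
  refine ((spec5_iff.2 h).cases hM hC).imp id ?_
  rintro ⟨F, _, _, _, hF, π, hπ⟩
  obtain ⟨hc, h2, -⟩ := hπ.coords (by rw [Nat.card_eq_fintype_card, hF])
  obtain ⟨f⟩ := Cfsg.Agent.S0252.result hF
  exact ⟨π.ker, inferInstance, ⟨⟨⟨fun a b => Subtype.ext (hc _ a.2 _ b.2)⟩⟩,
    fun a ha => by rw [pow_two, h2 a ha]⟩, ⟨(QuotientGroup.quotientKerEquivOfSurjective π hπ.surj).trans
      ((slEquivPslOfTwo CharTwo.two_eq_zero).trans f)⟩⟩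

section Four

variable {F : Type} [Field F] [Fintype F] [CharP F 2]

theorem exists_five (hF : Fintype.card F = 4) :
    ∃ b : SL(2, F), tr b = 1 ∧ (sl2U 1 * b) ^ 5 = 1 ∧ sl2U 1 * b ≠ 1 := by
  obtain ⟨s, s0, s1⟩ := exists_ne_zero_one (K := F) (by rw [Nat.card_eq_fintype_card, hF])
  have h2 : (2 : F) = 0 := CharTwo.two_eq_zero
  have s3 : s ^ 3 = 1 := by
    have := FiniteField.pow_card_sub_one_eq_one s s0
    rwa [hF] at this
  have hs : s ^ 2 + s + 1 = 0 := by
    have : (s - 1) * (s ^ 2 + s + 1) = 0 := by linear_combination s3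
    exact (mul_eq_zero.1 this).resolve_left (sub_ne_zero.2 s1)
  refine ⟨sl2 0 s⁻¹ s 1 (by rw [inv_mul_cancel₀ s0]; linear_combination -h2), by simp, ?_, ?_⟩
  · apply Subtype.ext
    have ht : tr (sl2U 1 * sl2 0 s⁻¹ s 1 (by rw [inv_mul_cancel₀ s0]; linear_combination -h2)) =
        s + 1 := by simp [tr, sl_mul_apply]
    rw [sl_pow_five, ht]
    have e1 : (s + 1) ^ 4 - 3 * (s + 1) ^ 2 + 1 = 0 := by
      linear_combination (s ^ 2 + 3 * s - 1) * hs + (-2 * s) * h2
    have e2 : (s + 1) ^ 3 - 2 * (s + 1) = -1 := by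
      linear_combination (s + 2) * hs + (-s - 1) * h2
    rw [e1, e2]; simp
  · intro e
    have := congrArg (fun m : SL(2, F) => m 1 0) e
    simp [sl_mul_apply] at this
    exact s0 this

theorem order_of_lift {H : Type*} [Group H] (h : ∀ g : G, orderOf g ≤ 5) (π : G →* H) {g : G}
    {p : ℕ} (hp : p.Prime) (h3 : 3 ≤ p) (h1 : π g ^ p = 1) (h2 : π g ≠ 1) : orderOf g = p := by
  have := Fact.mk hp
  have e : orderOf (π g) = p := orderOf_eq_prime h1 h2
  obtain ⟨c, hc⟩ : p ∣ orderOf g := e ▸ orderOf_map_dvd π g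
  have h4 := h g
  have h5 := orderOf_pos g
  rcases c with _ | _ | c
  · omega
  · omega
  · nlinarith

/-- the extension splits -/
theorem Spec5.exists_section (h : Spec5 G) (hF : Fintype.card F = 4) {π : G →* SL(2, F)}
    (hπ : Hig π) : ∃ σ : SL(2, F) →* G, ∀ s, π (σ s) = s := by
  obtain ⟨b0, hb, h5, h1⟩ := exists_five hF
  obtain ⟨b, rfl⟩ := hπ.surj b0
  obtain ⟨a0, ha0⟩ := hπ.surj (sl2U 1)
  obtain ⟨y, hy⟩ := hπ.surj (sl2U 1 * sl2L 1)
  have ty : tr (π y) = 1 := by rw [hy, tr_UL, mul_one]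
  have y1 : y ≠ 1 := fun e => ne_one_of_tr_eq_one ty (by rw [e, map_one])
  have y3 : orderOf y = 3 := orderOf_eq_prime (hπ.cube y ty) y1
  have UU : (sl2U 1 : SL(2, F)) * sl2U 1 = 1 := by
    rw [slU_mul, CharTwo.add_self_eq_zero, slU_zero]
  have LL : (sl2L 1 : SL(2, F)) * sl2L 1 = 1 := by
    rw [slL_mul, CharTwo.add_self_eq_zero, slL_zero]
  obtain ⟨q, hq, ho, -⟩ := h.eppo.cit.exists_inverting hπ.two (a := a0) (y := y)
    (by rw [y3]; decide) y1 (le_normalizer_of_normal (mem_top _))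
    (le_normalizer_of_normal (mem_top _)) (by rw [MonoidHom.mem_ker, map_mul, ha0, UU]) (by
      rw [MonoidHom.mem_ker, map_mul, map_mul, map_mul, map_inv, ha0, hy, slU_inv]
      calc _ = sl2U 1 * (sl2L 1 * (sl2U 1 * sl2U 1) * sl2L 1) * sl2U 1 := by group
        _ = (1 : SL(2, F)) := by rw [UU, mul_one, LL, mul_one, UU])
  have pa : π (q * a0) = sl2U 1 := by rw [map_mul, MonoidHom.mem_ker.1 hq, one_mul, ha0]
  set a := q * a0
  have a1 : π a ≠ 1 := fun e => by
    rw [pa] at e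
    have := congrArg (fun m : SL(2, F) => m 0 1) e
    simp at this
  have ab : (a * b) ^ 5 = 1 := by
    rw [← order_of_lift h.1 π (g := a * b) Nat.prime_five (by norm_num) (by rwa [map_mul, pa])
      (by rwa [map_mul, pa]), pow_orderOf_eq_one]
  obtain ⟨e⟩ := closure_equiv_alt5 (ho ▸ pow_orderOf_eq_one a) (hπ.cube b hb) ab
    fun e => a1 (by rw [e, map_one])
  let L : Subgroup G := closure {a, b}
  have : IsSimpleGroup L := e.isSimpleGroup
  have inj : Function.Injective (π.comp L.subtype) := by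
    rw [← MonoidHom.ker_eq_bot_iff]
    refine (Normal.eq_bot_or_eq_top inferInstance).resolve_right fun ht => a1 ?_
    have : (⟨a, subset_closure (by simp)⟩ : L) ∈ (π.comp L.subtype).ker := ht ▸ mem_top _
    exact this
  obtain ⟨f⟩ := Cfsg.Agent.S0252.result hF
  have bij : Function.Bijective (π.comp L.subtype) := by
    refine (Nat.bijective_iff_injective_and_card _).2 ⟨inj, ?_⟩
    exact Nat.card_congr (e.trans ((slEquivPslOfTwo CharTwo.two_eq_zero).trans f).symm).toEquiv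
  refine ⟨L.subtype.comp (MulEquiv.ofBijective _ bij).symm.toMonoidHom, fun s => ?_⟩
  exact (MulEquiv.ofBijective _ bij).apply_symm_apply s

end Four

theorem s3600 (hM : H31.CITMain.{u}) (hC : H31.CITCore.{u})
    (hcrit : Set.range (orderOf : G → ℕ) = ({1, 2, 3, 4, 5} : Set ℕ) ∧
      ∀ (H : Subgroup G) (N : Subgroup ↥H) [N.Normal], (H ≠ ⊤ ∨ N ≠ ⊥) →
        Set.range (orderOf : (↥H ⧸ N) → ℕ) ≠ ({1, 2, 3, 4, 5} : Set ℕ)) :
    Nonempty (G ≃* alternatingGroup (Fin 6)) ∨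
      ∃ (F : Type) (_ : Field F) (_ : Fintype F), Fintype.card F = 4 ∧
        Nonempty (G ≃* qdOver F) := by
  rw [set_five] at hcrit
  have h := spec5_iff.2 hcrit.1
  refine (h.cases hM hC).imp id ?_
  rintro ⟨F, _, _, _, hF, π, hπ⟩
  refine ⟨F, ‹_›, ‹_›, hF, ?_⟩
  obtain ⟨hc, h2, k, Θ, inj, hr, hΘ⟩ := hπ.coords (by rw [Nat.card_eq_fintype_card, hF])
  obtain ⟨σ, hσ⟩ := h.exists_section hF hπ
  obtain ⟨f⟩ := Cfsg.Agent.S0252.result hF
  have hmem : ∀ g : G, ∃ v, Θ (Multiplicative.ofAdd v) = g * (σ (π g))⁻¹ := fun g => by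
    have : g * (σ (π g))⁻¹ ∈ Θ.range := by
      rw [hr, MonoidHom.mem_ker, map_mul, map_inv, hσ, mul_inv_cancel]
    exact this
  choose c hcg using hmem
  have cmul : ∀ g g', c (g * g') =
      c g + fun i => (π g : Matrix (Fin 2) (Fin 2) F) *ᵥ c g' i := fun g g' => by
    apply Multiplicative.ofAdd.injective
    apply inj
    have := hΘ (σ (π g)) (c g')
    rw [hσ] at this
    rw [ofAdd_add, map_mul, ← this, hcg, hcg, hcg, map_mul, map_mul]
    group
  rcases k with _ | k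
  · exfalso
    obtain ⟨x, hx⟩ := h.2 4 (by norm_num) (by norm_num)
    have hi : Function.Injective π := by
      rw [← MonoidHom.ker_eq_bot_iff, ← hr, eq_bot_iff]
      rintro _ ⟨v, rfl⟩
      rw [Subsingleton.elim v 1, map_one]; exact one_mem _
    let e := (slEquivPslOfTwo (F := F) CharTwo.two_eq_zero).trans f
    have ho : orderOf (e (π x)) = 4 := by
      rw [MulEquiv.orderOf_eq, orderOf_injective π hi, hx]
    rcases alt5_pow (e (π x)) with h1 | h1 | h1 <;>
      have := orderOf_dvd_of_pow_eq_one h1 <;> rw [ho] at this <;> omega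
  let φ : G →* qdOver F := MonoidHom.mk' (fun g => H11.qa (π g) (c g 0)) fun g g' => by
    rw [H11.qa_mul, map_mul, cmul]; rfl
  have φv : ∀ g, φ g = H11.qa (π g) (c g 0) := fun _ => rfl
  have φs : Function.Surjective φ := fun x => by
    obtain ⟨A, v, rfl⟩ := H11.exists_qa x
    have k1 : π (Θ (Multiplicative.ofAdd fun _ => v)) = 1 :=
      (hr ▸ ⟨_, rfl⟩ : Θ (Multiplicative.ofAdd fun _ => v) ∈ π.ker)
    have e1 : π (Θ (Multiplicative.ofAdd fun _ => v) * σ A) = A := by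
      rw [map_mul, k1, one_mul, hσ]
    refine ⟨Θ (Multiplicative.ofAdd fun _ => v) * σ A, ?_⟩
    have e2 := hcg (Θ (Multiplicative.ofAdd fun _ => v) * σ A)
    rw [e1, mul_inv_cancel_right] at e2
    rw [φv, e1, Multiplicative.ofAdd.injective (inj e2)]
  have hS : Spec5 (qdOver F) := by
    have le5 : ∀ x : qdOver F, orderOf x ≤ 5 := fun x => by
      obtain ⟨g, rfl⟩ := φs x
      exact (Nat.le_of_dvd (orderOf_pos g) (orderOf_map_dvd φ g)).trans (h.1 g)
    have UU : (sl2U 1 : SL(2, F)) * sl2U 1 = 1 := by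
      rw [slU_mul, CharTwo.add_self_eq_zero, slU_zero]
    have sq : H11.qa (sl2U 1) ![0, (1 : F)] ^ 2 = H11.qa 1 ![1, 0] := by
      rw [pow_two, H11.qa_mul, UU, H11.qa_inj]
      refine ⟨rfl, ?_⟩
      funext i
      fin_cases i <;> simp [CharTwo.add_self_eq_zero]
    have ne : H11.qa (1 : SL(2, F)) ![1, 0] ≠ 1 := fun e => by
      have := congrFun (H11.qa_eq_one.1 e).2 0
      simp at this
    have sq' : H11.qa (1 : SL(2, F)) ![1, 0] ^ 2 = 1 := by
      rw [H11.qa_one_pow, H11.qa_eq_one]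
      refine ⟨rfl, ?_⟩
      funext i
      fin_cases i <;> simp [CharTwo.two_eq_zero]
    obtain ⟨b, hb, h5, h1⟩ := exists_five hF
    refine ⟨le5, fun j h1 h2 => ?_⟩
    interval_cases j
    · exact ⟨1, orderOf_one⟩
    · exact ⟨_, orderOf_eq_prime sq' ne⟩
    · exact ⟨H11.qa b 0, order_of_lift le5 H11.qLin Nat.prime_three le_rfl
        (by rw [H11.qLin_qa, cube_of_tr_eq_one hb]) (by rw [H11.qLin_qa]; exact ne_one_of_tr_eq_one hb)⟩
    · exact ⟨H11.qa (sl2U 1) ![0, (1 : F)], orderOf_eq_prime_pow (p := 2) (n := 1)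
        (by rw [pow_one, sq]; exact ne) (by rw [show 2 ^ (1 + 1) = 2 * 2 by rfl, pow_mul, sq, sq'])⟩
    · exact ⟨H11.qa (sl2U 1 * b) 0, order_of_lift le5 H11.qLin Nat.prime_five (by norm_num)
        (by rwa [H11.qLin_qa]) (by rwa [H11.qLin_qa])⟩
  let φ' : (⊤ : Subgroup G) →* qdOver F := φ.comp (Subgroup.subtype ⊤)
  have φs' : Function.Surjective φ' := fun x => by
    obtain ⟨g, rfl⟩ := φs x
    exact ⟨⟨g, trivial⟩, rfl⟩
  have e := QuotientGroup.quotientKerEquivOfSurjective φ' φs'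
  have hk : φ'.ker = ⊥ := by
    by_contra hne
    refine hcrit.2 ⊤ φ'.ker (Or.inr hne) (spec5_iff.1 ⟨fun g => ?_, fun j h1 h2 => ?_⟩)
    · rw [← e.orderOf_eq]; exact hS.1 _
    · obtain ⟨x, hx⟩ := hS.2 j h1 h2
      exact ⟨e.symm x, by rw [e.symm.orderOf_eq, hx]⟩
  exact ⟨topEquiv.symm.trans (MulEquiv.ofBijective φ' ⟨φ'.ker_eq_bot_iff.1 hk, φs'⟩)⟩

end H47
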