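import Cfsg.Agent.H51.TESpec

/-! Tower TE, part 2 (S1308): two transvections generate an odd dihedral group (job ODD). -/

set_option autoImplicit false

namespace H47.TEOdd

open Cfsg Subgroup H14 H98 H1.Gold H14.FE H51.TE
open scoped commutatorElement

universe u

variable {G : Type u} [Group G]

theorem tv_tr {F E : Subgroup G} {v g w : G} (h : Tv F E v) (hg : g ∈ nor F)
    (hw : (g * v * g⁻¹)⁻¹ * w ∈ cen F) : Tv F (cj g E) w := by
  have key : ∀ f ∈ F, w * f * w⁻¹ = g * (v * (g⁻¹ * f * g) * v⁻¹) * g⁻¹ := fun f hf => by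
    have := mem_centralizer_iff.1 hw f hf
    calc w * f * w⁻¹ = g * v * g⁻¹ * ((g * v * g⁻¹)⁻¹ * w * f) * w⁻¹ := by group
      _ = _ := by rw [← this]; group
  refine ⟨fun f hf => ?_, fun f hf => ?_⟩
  · rw [mem_cj, ← h.fix _ (conj_mem_of_mem_normalizer' hg hf), ← mul_inv_eq_iff_eq_mul, key f hf,
      ← mul_inv_eq_iff_eq_mul (a := v * _)]
    constructor
    · intro e
      calc v * (g⁻¹ * f * g) * v⁻¹ = g⁻¹ * (g * (v * (g⁻¹ * f * g) * v⁻¹) * g⁻¹) * g := by group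
        _ = _ := by rw [e]
    · intro e
      rw [e]; group
  · have := conj_mem_cj (g := g) (h.cm _ (conj_mem_of_mem_normalizer' hg hf))
    convert this using 1
    calc ⁅f, w⁆ = f * (w * f * w⁻¹)⁻¹ := by rw [commutatorElement_def]; group
      _ = _ := by rw [key f hf, commutatorElement_def]; group

theorem tv_nor [Finite G] {F E : Subgroup G} {v : G} (h : Tv F E v) (le : E ≤ F) : v ∈ nor F := by
  refine mem_normalizer_of_cj_le ?_
  rintro _ ⟨f, hf, rfl⟩
  have := mul_mem hf (le (h.cm _ (inv_mem hf)))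
  convert this using 1
  simp [commutatorElement_def, mul_assoc]

theorem tv_sq {F E : Subgroup G} {v : G} (h : Tv F E v) (le : E ≤ F) (el : El F) :
    v * v ∈ cen F := mem_centralizer_iff.2 fun f hf => by
  have c := h.cm _ (inv_mem hf)
  have c1 := (h.fix _ (le c)).2 c
  have c2 := el _ (le c)
  have e : v * f = f * ⁅f⁻¹, v⁆ * v := by rw [commutatorElement_def]; group
  calc f * (v * v) = f * (⁅f⁻¹, v⁆ * ⁅f⁻¹, v⁆) * v * v := by rw [c2]; group
    _ = f * ⁅f⁻¹, v⁆ * (⁅f⁻¹, v⁆ * v) * v := by simp only [mul_assoc]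
    _ = (f * ⁅f⁻¹, v⁆ * v) * ⁅f⁻¹, v⁆ * v := by rw [← c1]; simp only [mul_assoc]
    _ = v * (f * ⁅f⁻¹, v⁆ * v) := by rw [← e]; simp only [commutatorElement_def]; group
    _ = _ := by rw [← e]; simp only [mul_assoc]

theorem tv_eq {F E E' : Subgroup G} {v : G} (h : Tv F E v) (h' : Tv F E' v) (le : E ≤ F)
    (le' : E' ≤ F) : E = E' :=
  le_antisymm (fun f hf => (h'.fix f (le hf)).1 ((h.fix f (le hf)).2 hf))
    fun f hf => (h.fix f (le' hf)).1 ((h'.fix f (le' hf)).2 hf)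

theorem tv_stab {F E : Subgroup G} {v : G} (h : Tv F E v) (le : E ≤ F) : v ∈ stab F E :=
  ⟨centralizer_le_normalizer _ (mem_centralizer_iff.2 fun f hf => ((h.fix f (le hf)).2 hf).symm), h.cm⟩

theorem dih {Γ : Type*} [Group Γ] {X U : Γ} (hX : X * X = 1) (hU : U * U = 1) (n : ℕ) :
    X * (X * U) ^ n = ((X * U) ^ n)⁻¹ * X ∧ U * (X * U) ^ n = ((X * U) ^ n)⁻¹ * U := by
  have x := inv_eq_of_mul_eq_one_right hX
  have y := inv_eq_of_mul_eq_one_right hU
  have a : X * (X * U) * X⁻¹ = (X * U)⁻¹ := by rw [← mul_assoc, hX, one_mul, mul_inv_rev, y]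
  have b : U * (X * U) * U⁻¹ = (X * U)⁻¹ := by rw [mul_inv_rev, x, y, mul_assoc, mul_assoc, hU, mul_one]
  constructor
  · rw [← inv_pow, ← a, conj_pow, inv_mul_cancel_right]
  · rw [← inv_pow, ← b, conj_pow, inv_mul_cancel_right]

theorem job : ODD.{u} := by
  intro G _ _ F E₁ E₂ x u el l1 l2 ne dis t1 t2 ti1 ti2
  have xn := tv_nor t1 l1
  have un := tv_nor t2 l2
  let φ := F.normalizerMonoidHom
  have ker : ∀ a : nor F, φ a = 1 ↔ (a : G) ∈ cen F := fun a => by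
    rw [← MonoidHom.mem_ker, normalizerMonoidHom_ker, mem_subgroupOf]
  have eqv : ∀ a b : nor F, φ a = φ b → (a : G)⁻¹ * b ∈ cen F := fun a b e =>
    (ker (a⁻¹ * b)).1 (by rw [map_mul, map_inv, e, inv_mul_cancel])
  obtain ⟨x', rfl⟩ : ∃ x' : nor F, (x' : G) = x := ⟨⟨x, xn⟩, rfl⟩
  obtain ⟨u', rfl⟩ : ∃ u' : nor F, (u' : G) = u := ⟨⟨u, un⟩, rfl⟩
  have hX : φ x' * φ x' = 1 := by rw [← map_mul]; exact (ker _).2 (tv_sq t1 l1 el)
  have hU : φ u' * φ u' = 1 := by rw [← map_mul]; exact (ker _).2 (tv_sq t2 l2 el)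
  have dh := dih hX hU
  have m1 := pow_orderOf_eq_one (φ x' * φ u')
  rcases Nat.even_or_odd' (orderOf (φ x' * φ u')) with ⟨k, hk | hk⟩
  · exfalso
    have k0 : 0 < k := by have := orderOf_pos (φ x' * φ u'); omega
    rw [hk, two_mul, pow_add] at m1
    have zi := inv_eq_of_mul_eq_one_right m1
    obtain ⟨z, hz⟩ : ∃ z : nor F, z = (x' * u') ^ k := ⟨_, rfl⟩
    have pz : φ z = (φ x' * φ u') ^ k := by rw [hz, map_pow, map_mul]
    have zz : (z : G) * z ∈ cen F := (ker (z * z)).1 (by rw [map_mul, pz, m1])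
    have zx := eqv (z * x' * z⁻¹) x' (by
      rw [map_mul, map_mul, map_inv, pz, ← zi, ← (dh k).1, zi, mul_inv_cancel_right])
    have zu := eqv (z * u' * z⁻¹) u' (by
      rw [map_mul, map_mul, map_inv, pz, ← zi, ← (dh k).2, zi, mul_inv_cancel_right])
    have n1 : (z : G) ∈ nor E₁ :=
      cj_eq_self_iff.1 (tv_eq (tv_tr t1 z.2 zx) t1 (cj_le_of_le l1 z.2) l1)
    have n2 : (z : G) ∈ nor E₂ :=
      cj_eq_self_iff.1 (tv_eq (tv_tr t2 z.2 zu) t2 (cj_le_of_le l2 z.2) l2)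
    obtain ⟨e, he, e1, ez⟩ : ∃ e ∈ E₁, e ≠ 1 ∧ (z : G) * e = e * z := by
      obtain ⟨⟨e, he⟩, e1⟩ := ne_bot_iff_exists_ne_one.1 ne
      by_cases hc : (z : G) * e = e * z
      · exact ⟨e, he, fun h => e1 (Subtype.ext h), hc⟩
      have he' := conj_mem_of_mem_normalizer n1 he
      refine ⟨e * (z * e * (z : G)⁻¹), mul_mem he he', fun h => hc ?_, ?_⟩
      · rw [← mul_inv_eq_iff_eq_mul, eq_inv_of_mul_eq_one_right h,
          inv_eq_of_mul_eq_one_right (el e (l1 he))]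
      · have c := mem_centralizer_iff.1 zz e (l1 he)
        calc (z : G) * (e * (z * e * (z : G)⁻¹))
            = z * e * (z : G)⁻¹ * (z * z * e) * (z : G)⁻¹ := by group
          _ = z * e * (z : G)⁻¹ * e * z := by rw [← c]; group
          _ = _ := by rw [El.comm el (l1 he') (l1 he)]
    have we : ((x' * z : nor F) : G) * e = e * (x' * z : nor F) := by
      rw [Subgroup.coe_mul, mul_assoc, ez, ← mul_assoc, (t1.fix e (l1 he)).2 he, mul_assoc]
    have tw : Tv F E₁ ((x' * z : nor F) : G) := by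
      have fin : ∀ (E : Subgroup G) (g : G), Tv F (cj g E) ((x' * z : nor F) : G) →
          cj g E ⊓ E₁ ≠ ⊥ := fun E g h b =>
        e1 (mem_bot.1 (b ▸ (⟨(h.fix e (l1 he)).1 we, he⟩ : e ∈ cj g E ⊓ E₁)))
      rcases Nat.even_or_odd' k with ⟨j, rfl | rfl⟩
      · have := tv_tr t1 (((x' * u') ^ j)⁻¹).2 (eqv (((x' * u') ^ j)⁻¹ * x' * (((x' * u') ^ j)⁻¹)⁻¹)
          (x' * z) (by
            simp only [map_mul, map_inv, map_pow, pz, inv_inv]
            rw [← (dh j).1, two_mul, pow_add, mul_assoc]))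
        rwa [ti1 _ (((x' * u') ^ j)⁻¹).2 (fin _ _ this)] at this
      · have := tv_tr t2 (((x' * u') ^ j)⁻¹).2 (eqv (((x' * u') ^ j)⁻¹ * u' * (((x' * u') ^ j)⁻¹)⁻¹)
          (x' * z) (by
            simp only [map_mul, map_inv, map_pow, pz, inv_inv]
            rw [← (dh j).2, pow_succ', two_mul, pow_add, ← mul_assoc (φ x') (_ * _),
              ← mul_assoc (φ x') (φ x'), hX, one_mul, mul_assoc]))
        rwa [ti2 _ (((x' * u') ^ j)⁻¹).2 (fin _ _ this)] at this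
    have zs : (z : G) ∈ stab F E₁ := by
      have := mul_mem (inv_mem (tv_stab t1 l1)) (tv_stab tw l1)
      rwa [Subgroup.coe_mul, inv_mul_cancel_left] at this
    have bot : ∀ c ∈ E₁, c ∈ E₂ → c = 1 := fun c h1 h2 =>
      mem_bot.1 (dis ▸ (⟨h1, h2⟩ : c ∈ E₁ ⊓ E₂))
    have z2 : ∀ d ∈ E₂, d * z = z * d := fun d hd =>
      commutatorElement_eq_one_iff_mul_comm.1 (bot _ (zs.2 d (l2 hd)) (by
        have := mul_mem hd (conj_mem_of_mem_normalizer n2 (inv_mem hd))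
        rwa [commutatorElement_def, mul_assoc, mul_assoc, ← mul_assoc (z : G)]))
    have zc : (z : G) ∈ cen F := mem_centralizer_iff.2 fun f hf => by
      have c := zs.2 f hf
      refine commutatorElement_eq_one_iff_mul_comm.1 (bot _ c ((t2.fix _ (l1 c)).1 ?_))
      have d := z2 _ (t2.cm f hf)
      have hf' := conj_mem_of_mem_normalizer z.2 hf
      have a := mem_centralizer_iff.1 zu _ hf'
      have b := El.comm el (l1 c) (l2 (t2.cm f hf))
      simp only [Subgroup.coe_mul, Subgroup.coe_inv] at a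
      have a' : (u' : G) * (z * f * (z : G)⁻¹) * (u' : G)⁻¹ =
          z * (u' * f * (u' : G)⁻¹) * (z : G)⁻¹ := by
        calc (u' : G) * (z * f * (z : G)⁻¹) * (u' : G)⁻¹
            = z * u' * (z : G)⁻¹ * ((z * u' * (z : G)⁻¹)⁻¹ * u' * (z * f * (z : G)⁻¹)) * (u' : G)⁻¹ := by
              group
          _ = _ := by rw [← a]; group
      have d' : (z : G) * ⁅f, (u' : G)⁆ * (z : G)⁻¹ = ⁅f, (u' : G)⁆ := by rw [← d]; group
      rw [← mul_inv_eq_iff_eq_mul]
      calc (u' : G) * ⁅f, (z : G)⁆ * (u' : G)⁻¹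
          = u' * f * (u' : G)⁻¹ * ((u' : G) * (z * f * (z : G)⁻¹) * (u' : G)⁻¹)⁻¹ := by
            rw [commutatorElement_def]; group
        _ = ⁅f, (u' : G)⁆⁻¹ * ⁅f, (z : G)⁆ * ((z : G) * ⁅f, (u' : G)⁆ * (z : G)⁻¹) := by
            rw [a']; simp only [commutatorElement_def]; group
        _ = _ := by rw [d', mul_assoc, b, inv_mul_cancel_left]
    have := orderOf_dvd_of_pow_eq_one (pz ▸ (ker z).2 zc)
    have := Nat.le_of_dvd k0 this
    omega
  · have w := eqv ((x' * u') ^ (k + 1) * u' * ((x' * u') ^ (k + 1))⁻¹) x' (by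
      simp only [map_mul, map_inv, map_pow]
      have := (dh (k + 1)).2
      rw [mul_assoc, show φ u' * ((φ x' * φ u') ^ (k + 1))⁻¹ = (φ x' * φ u') ^ (k + 1) * φ u' by
        rw [mul_inv_eq_iff_eq_mul, mul_assoc, this, mul_inv_cancel_left], ← mul_assoc, ← pow_add,
        show k + 1 + (k + 1) = orderOf (φ x' * φ u') + 1 by omega, pow_succ, m1, one_mul, mul_assoc,
        hU, mul_one])
    refine ⟨⟨_, ⟨k, hk⟩, (ker ((x' * u') ^ orderOf (φ x' * φ u'))).1 (by rw [map_pow, map_mul, m1])⟩,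
      ((x' * u') ^ (k + 1) : nor F), ?_, w, ?_⟩
    · exact pow_mem (mul_mem (subset_closure (by simp)) (subset_closure (by simp))) _
    · exact tv_eq (tv_tr t2 ((x' * u') ^ (k + 1)).2 w) t1 (cj_le_of_le l2 ((x' * u') ^ (k + 1)).2) l1

end H47.TEOdd

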