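import Cfsg.Agent.H57.U2CSpec
import Cfsg.Agent.H48.DP3Kit

/-! S3275, chapter U2C: the set-up of the central case (job CA). -/

set_option autoImplicit false

namespace H47.U2CCA

open Subgroup Cfsg H98 H96 H97 H48.DP H57.DPC H48.DP2 H96.U2I H57.U2C
open scoped commutatorElement

universe u

variable {G : Type u} [Group G]

theorem sq_zp {z a : G} (hz : z * z = 1) (ha : a ∈ zpowers z) : a * a = 1 := by
  obtain ⟨k, rfl⟩ := ha
  show z ^ k * z ^ k = 1
  rw [← (Commute.refl z).mul_zpow, hz, one_zpow]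

theorem C1_le_No (z : G) : C1 z ≤ No (zpowers z) :=
  le_normalizer_of_le_centralizer fun g hg => mem_Ce.2 fun a ha => by
    obtain ⟨k, rfl⟩ := ha
    exact ((show Commute z g from mem_C1.1 hg).zpow_left k).eq

/-- The elements of `Q` central modulo `z` whose squares lie in `⟨z⟩`. -/
def sqz (Q : Subgroup G) (z : G) : Subgroup G where
  carrier := {a | a ∈ Q ∧ a ∈ stab Q (zpowers z) ∧ a * a ∈ zpowers z}
  one_mem' := ⟨one_mem _, one_mem _, by simp⟩
  mul_mem' := by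
    rintro a b ⟨a1, a2, a3⟩ ⟨b1, b2, b3⟩
    refine ⟨mul_mem a1 b1, mul_mem a2 b2, ?_⟩
    have := mul_mem (mul_mem a3 (b2.2 _ (inv_mem a1))) b3
    convert this using 1
    simp only [commutatorElement_def]; group
  inv_mem' := by
    rintro a ⟨a1, a2, a3⟩
    refine ⟨inv_mem a1, inv_mem a2, ?_⟩
    rw [← mul_inv_rev]; exact inv_mem a3

theorem No_sqz {Q : Subgroup G} {z : G} (h : C1 z ≤ No Q) : C1 z ≤ No (sqz Q z) := by
  rw [le_normalizer_iff]
  rintro g hg a ⟨a1, a2, a3⟩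
  refine ⟨conj_mem_of_mem_normalizer (h hg) a1,
    conj_mem_of_mem_normalizer (le_normalizer_stab h (C1_le_No z) hg) a2, ?_⟩
  have := conj_mem_of_mem_normalizer (C1_le_No z hg) a3
  convert this using 1
  group

theorem jobCA : JobCA.{u} := by
  intro l1 G _ _ M Q T R Q₀ F y t z h
  obtain ⟨hl, yea, yQ, yC, yR⟩ := l1 G M Q T R Q₀ F y t h.toSb
  obtain ⟨zT, zC, z2⟩ := mem_oZ.1 h.zZ
  have zz : z * z = 1 := by rw [← sq]; exact z2
  have zc : ∀ s ∈ T, s * z = z * s := mem_Ce.1 zC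
  have zCR : z ∈ Ce R := centralizer_anti h.RT zC
  have y3 : y * y * y = 1 := by
    have := pow_three_of h.y3
    rwa [pow_succ, sq] at this
  have nC : y ∈ No (Ce R) := normalizer_le_normalizer_centralizer R h.yR
  have vC : y * z * y⁻¹ ∈ Ce R := conj_mem_of_mem_normalizer nC zCR
  have wC : y⁻¹ * z * y ∈ Ce R := conj_mem_of_mem_normalizer' nC zCR
  set v := y * z * y⁻¹ with hv
  set w := y⁻¹ * z * y with hw
  have zR := h.cR zCR
  have vR := h.cR vC
  have wR := h.cR wC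
  have vv : v * v = 1 := by
    calc v * v = y * (z * z) * y⁻¹ := by rw [hv]; group
      _ = 1 := by rw [zz]; group
  have ww : w * w = 1 := by
    calc w * w = y⁻¹ * (z * z) * y := by rw [hw]; group
      _ = 1 := by rw [zz]; group
  have zv : z * v = v * z := mem_Ce.1 vC z zR
  have zw : z * w = w * z := mem_Ce.1 wC z zR
  have vw : v * w = w * v := mem_Ce.1 wC v vR
  have yi : y⁻¹ = y * y := inv_eq_of_mul_eq_one_left y3
  have yv : y * v * y⁻¹ = w := by
    calc y * v * y⁻¹ = y * y * z * (y * y)⁻¹ := by rw [hv]; group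
      _ = w := by rw [← yi, hw, inv_inv]
  have yw : y * w * y⁻¹ = z := by rw [hw]; group
  have tz : t * z * t⁻¹ = z := by rw [zc t h.tT]; group
  have ty' : t * y⁻¹ * t⁻¹ = y := by
    calc t * y⁻¹ * t⁻¹ = (t * y * t⁻¹)⁻¹ := by group
      _ = y := by rw [h.ty, inv_inv]
  have tv : t * v * t⁻¹ = w := by
    calc t * v * t⁻¹ = (t * y * t⁻¹) * (t * z * t⁻¹) * (t * y⁻¹ * t⁻¹) := by rw [hv]; group
      _ = w := by rw [h.ty, tz, ty', hw]
  have tw : t * w * t⁻¹ = v := by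
    calc t * w * t⁻¹ = (t * y⁻¹ * t⁻¹) * (t * z * t⁻¹) * (t * y * t⁻¹) := by rw [hw]; group
      _ = v := by rw [h.ty, tz, ty', hv]
  have dec : ∀ s ∈ T, s ∉ R → t⁻¹ * s ∈ R := fun s hs hn =>
    h.mul _ (inv_mem h.tT) _ hs (fun e => h.tR (inv_mem_iff.1 e)) hn
  have nCR : z * v * w ∈ Ce R := mul_mem (mul_mem zCR vC) wC
  have n1 : z * v * w = 1 := by
    by_contra n1
    have tn : t * (z * v * w) = z * v * w * t := by
      calc t * (z * v * w) = (t * z * t⁻¹) * (t * v * t⁻¹) * (t * w * t⁻¹) * t := by group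
        _ = z * (w * v) * t := by rw [tz, tv, tw]; group
        _ = _ := by rw [← vw]; group
    have nT : z * v * w ∈ Ce T := mem_Ce.2 fun s hs => by
      by_cases hn : s ∈ R
      · exact mem_Ce.1 nCR s hn
      · have := mem_Ce.1 nCR _ (dec s hs hn)
        calc s * (z * v * w) = t * (t⁻¹ * s * (z * v * w)) := by group
          _ = t * (z * v * w) * (t⁻¹ * s) := by rw [this]; group
          _ = _ := by rw [tn]; group
    have n2 : (z * v * w) ^ 2 = 1 := by
      have c1 : Commute (z * v) w := Commute.mul_left zw vw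
      rw [c1.mul_pow, (show Commute z v from zv).mul_pow, sq, sq, sq, zz, vv, ww]; group
    refine h.yM (h.gz _ (mem_oZ.2 ⟨h.RT (h.cR nCR), nT, n2⟩) n1 (mem_C1.2 ?_))
    calc z * v * w * y = v * w * z * y := by
          rw [zv, mul_assoc v z w, zw]; group
      _ = (y * z * y⁻¹) * (y * v * y⁻¹) * (y * w * y⁻¹) * y := by rw [yv, yw]
      _ = _ := by group
  have vq : ∀ s ∈ T, s ∉ R → ⁅s, v⁆ = z := fun s hs hn => by
    have e := mem_Ce.1 vC _ (dec s hs hn)
    have e2 : w = v * z := by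
      have : (z * v)⁻¹ = w := inv_eq_of_mul_eq_one_right n1
      rw [← this, mul_inv_rev, inv_eq_of_mul_eq_one_right vv, inv_eq_of_mul_eq_one_right zz]
    calc ⁅s, v⁆ = t * (t⁻¹ * s * v) * s⁻¹ * v⁻¹ := by simp only [commutatorElement_def]; group
      _ = t * v * t⁻¹ * v⁻¹ := by rw [e]; group
      _ = z := by rw [tv, e2, ← zv]; group
  have cq : ∀ s ∈ T, ⁅s, v⁆ ∈ zpowers z := fun s hs => by
    by_cases hn : s ∈ R
    · rw [commutatorElement_eq_one_iff_mul_comm.2 (mem_Ce.1 vC s hn)]; exact one_mem _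
    · rw [vq s hs hn]; exact mem_zpowers z
  have zY : z ∈ ncl M (oZ 2 T) := le_ncl _ _ h.zZ
  have nY : M ≤ No (ncl M (oZ 2 T)) := le_normalizer_ncl _ _
  have vQ : v ∈ Q := by
    refine h.o2 (M ⊓ (stab Q (ncl M (oZ 2 T)) ⊓ Ce (ncl M (oZ 2 T)))) inf_le_left
      (le_normalizer_inf le_normalizer
        (le_normalizer_inf (le_normalizer_stab h.MQ nY) (le_normalizer_centralizer nY))) ?_
      ⟨h.TM (h.RT vR), ⟨nY (h.TM (h.RT vR)), fun c hc => zpowers_le.2 zY (cq c (h.QT hc))⟩,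
        centralizer_anti yR vC⟩
    refine isPGroup_iff_forall.2 fun g hg => ?_
    obtain ⟨-, g1, g2⟩ := hg
    have : g * g ∈ Ce Q := mem_Ce.2 fun q hq => by
      have c := g1.2 q hq
      have c1 := mem_Ce.1 g2 _ c
      have c2 := yea.2 _ c
      rw [sq] at c2
      calc q * (g * g) = ⁅q, g⁆ * g * (⁅q, g⁆ * g) * q := by
            simp only [commutatorElement_def]; group
        _ = ⁅q, g⁆ * ⁅q, g⁆ * g * g * q := by
            rw [mul_assoc ⁅q, g⁆ g, ← mul_assoc g, ← c1]; group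
        _ = _ := by rw [c2]; group
    obtain ⟨k, hk⟩ := isPGroup_iff_forall.1 h.kq.T2 _ (h.QT (h.cq this))
    exact ⟨k + 1, by rw [pow_succ', pow_mul, sq, hk]⟩
  have cM : C1 z ≤ M := h.gz z h.zZ h.z1
  have cQ : C1 z ≤ No Q := cM.trans h.MQ
  have TC : T ≤ C1 z := fun s hs => mem_C1.2 (zc s hs).symm
  have nU : C1 z ≤ No (ncl (C1 z) (Dz y z)) := le_normalizer_ncl _ _
  have US : ncl (C1 z) (Dz y z) ≤ sqz Q z := by
    refine ncl_le (sup_le (zpowers_le.2 ⟨yQ zY, ⟨C1_le_No z (TC zT), fun c hc => ?_⟩, ?_⟩)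
      (zpowers_le.2 ⟨vQ, ⟨C1_le_No z (TC (h.RT vR)), fun c hc => cq c (h.QT hc)⟩, ?_⟩)) (No_sqz cQ)
    · rw [commutatorElement_eq_one_iff_mul_comm.2 (zc c (h.QT hc))]; exact one_mem _
    · rw [zz]; exact one_mem _
    · rw [vv]; exact one_mem _
  have UQ : ncl (C1 z) (Dz y z) ≤ Q := fun a ha => (US ha).1
  have UR : ncl (C1 z) (Dz y z) ≤ R := by
    refine hl _ UQ (TC.trans nU) ?_
    rintro _ ⟨a, ha, rfl⟩
    obtain ⟨k, hk⟩ := (US ha.1).2.2
    have : (MulAut.conj y).toMonoidHom a * (MulAut.conj y).toMonoidHom a = v ^ k := by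
      rw [← map_mul, ← hk]
      show (MulAut.conj y).toMonoidHom (z ^ k) = _
      rw [map_zpow]; rfl
    rw [this]
    exact h.QQ (zpow_mem vQ k)
  have DC : Dz y z ≤ Ce R := sup_le (zpowers_le.2 zCR) (zpowers_le.2 vC)
  have ab : ncl (C1 z) (Dz y z) ≤ Ce (ncl (C1 z) (Dz y z)) :=
    ncl_le_centralizer (DC.trans (centralizer_anti UR)) nU
  have DU : Dz y z ≤ ncl (C1 z) (Dz y z) := le_ncl _ _
  have eo : ncl (C1 z) (Dz y z) ≤ oZ 2 (ncl (C1 z) (Dz y z)) := by
    refine ncl_le (sup_le (zpowers_le.2 ?_) (zpowers_le.2 ?_))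
      (nU.trans (normalizer_le_normalizer_oZ _))
    · have m := DU (mem_sup_left (mem_zpowers z))
      exact mem_oZ.2 ⟨m, ab m, z2⟩
    · have m := DU (mem_sup_right (mem_zpowers v))
      exact mem_oZ.2 ⟨m, ab m, by rw [sq]; exact vv⟩
  refine ⟨vq, fun r hr => mem_C1.2 (mem_Ce.1 vC r hr).symm, ?_, UQ, UR⟩
  rw [le_antisymm eo (oZ_le _)]
  exact ea_oZ _

end H47.U2CCA

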